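import Groth.Agent.AdicLim.Noetherian
import Mathlib.Algebra.Category.ModuleCat.Basic

/-!
Towers of modules with a bounded obstruction: the limit is finite and lifts boundedly.
-/

set_option autoImplicit false
universe u

namespace Groth.Agent.FormAlg

open CategoryTheory

noncomputable section

variable {A : Type u} [CommRing A]

/-- The sections of a tower, with the obstruction to lifting one step. -/
structure SecTower (t : A) where
  P : ℕ → ModuleCat.{u} A
  Z : ModuleCat.{u} A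
  p : ∀ {a b : ℕ}, a ≤ b → (P b →ₗ[A] P a)
  p_self : ∀ (a : ℕ) (x : P a), p (le_refl a) x = x
  p_comp : ∀ {a b c : ℕ} (h : a ≤ b) (h' : b ≤ c) (x : P c), p h (p h' x) = p (h.trans h') x
  killed : ∀ (n : ℕ) (x : P n), t ^ (n + 1) • x = 0
  mu : ∀ n : ℕ, P n →ₗ[A] P (n + 1)
  mu_injective : ∀ n : ℕ, Function.Injective (mu n)
  p_mu : ∀ (n : ℕ) (x : P n), p (Nat.le_succ n) (mu n x) = t • x
  mu_p : ∀ (n : ℕ) (x : P (n + 1)), mu n (p (Nat.le_succ n) x) = t • x
  exists_mu : ∀ (n : ℕ) (x : P (n + 1)), p (Nat.zero_le (n + 1)) x = 0 → ∃ w, mu n w = x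
  δ : ∀ k : ℕ, P k →ₗ[A] Z
  δ_mu : ∀ (k : ℕ) (s : P k), δ (k + 1) (mu k s) = δ k s
  δ_lift : ∀ (k : ℕ) (s : P k), δ k s = 0 → ∃ x, p (Nat.le_succ k) x = s

namespace SecTower

variable {t : A} (S : SecTower t)

/-- The compatible families. -/
def limSub : Submodule A (∀ n, S.P n) where
  carrier := {y | ∀ n, S.p (Nat.le_succ n) (y (n + 1)) = y n}
  zero_mem' := fun _ => map_zero _
  add_mem' {a b} ha hb := fun n => by rw [Pi.add_apply, map_add, ha n, hb n, Pi.add_apply]
  smul_mem' r a ha := fun n => by rw [Pi.smul_apply, map_smul, ha n, Pi.smul_apply]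

/-- The limit. -/
abbrev L : ModuleCat.{u} A := ModuleCat.of A S.limSub

/-- The projections. -/
def π (n : ℕ) : S.L →ₗ[A] S.P n := (LinearMap.proj n).comp S.limSub.subtype

theorem π_succ (n : ℕ) (y : S.L) : S.p (Nat.le_succ n) (S.π (n + 1) y) = S.π n y := y.2 n

theorem p_π {a b : ℕ} (h : a ≤ b) (y : S.L) : S.p h (S.π b y) = S.π a y := by
  induction b, h using Nat.le_induction with
  | base => exact S.p_self a _
  | succ b hab ih => rw [← S.p_comp hab (Nat.le_succ b), S.π_succ b y, ih]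

theorem exists_smul_eq_of_zero (z : S.L) (hz : S.π 0 z = 0) : ∃ w : S.L, t • w = z := by
  have hw : ∀ n, ∃ w, S.mu n w = S.π (n + 1) z := fun n =>
    S.exists_mu n _ (by rw [S.p_π, hz])
  choose w hw using hw
  refine ⟨⟨w, fun n => S.mu_injective n ?_⟩, Subtype.ext (funext fun n => ?_)⟩
  · rw [S.mu_p, ← S.p_mu, hw (n + 1), S.π_succ (n + 1) z, hw n]
  · show t • w n = S.π n z
    rw [← S.p_mu, hw n, S.π_succ]

theorem exists_pow_smul_eq : ∀ (n : ℕ) (z : S.L), S.π n z = 0 → ∃ w : S.L, t ^ (n + 1) • w = z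
  | 0, z, hz => by
    obtain ⟨w, rfl⟩ := S.exists_smul_eq_of_zero z hz
    exact ⟨w, by rw [zero_add, pow_one]⟩
  | n + 1, z, hz => by
    obtain ⟨w, rfl⟩ := S.exists_smul_eq_of_zero z (by rw [← S.p_π (Nat.zero_le (n + 1)), hz, map_zero])
    obtain ⟨v, rfl⟩ := exists_pow_smul_eq n w (S.mu_injective n (by
      rw [map_zero, ← S.π_succ n w, S.mu_p, ← map_smul, hz]))
    exact ⟨v, by rw [smul_smul, ← pow_succ']⟩

theorem π_pow_smul (n : ℕ) (w : S.L) : S.π n (t ^ (n + 1) • w) = 0 := by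
  rw [map_smul, S.killed]

theorem ker_π (n : ℕ) : LinearMap.ker (S.π n) = Ideal.span {t} ^ (n + 1) • (⊤ : Submodule A S.L) := by
  refine le_antisymm (fun z hz => ?_) ?_
  · obtain ⟨w, rfl⟩ := S.exists_pow_smul_eq n z hz
    exact Submodule.smul_mem_smul (Ideal.pow_mem_pow (Ideal.mem_span_singleton_self t) _) Submodule.mem_top
  · rw [Ideal.span_singleton_pow, Submodule.ideal_span_singleton_smul]
    intro z hz
    obtain ⟨w, -, rfl⟩ := Submodule.mem_smul_pointwise_iff_exists _ _ _ |>.1 hz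
    exact S.π_pow_smul n w

/-- Iterated multiplication. -/
def muIt (c : ℕ) : ∀ m : ℕ, S.P c →ₗ[A] S.P (c + m)
  | 0 => LinearMap.id
  | m + 1 => (S.mu (c + m)).comp (muIt c m)

theorem p_muIt_le (c : ℕ) (x : S.P c) : ∀ (i e : ℕ) (h : c + i ≤ c + (i + e)),
    S.p h (S.muIt c (i + e) x) = t ^ e • S.muIt c i x
  | i, 0, h => by rw [pow_zero, one_smul]; exact S.p_self _ _
  | i, e + 1, h => by
    show S.p h (S.mu (c + (i + e)) (S.muIt c (i + e) x)) = _
    rw [← S.p_comp (show c + i ≤ c + (i + e) by omega) (Nat.le_succ (c + (i + e))), S.p_mu, map_smul, p_muIt_le c x i e,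
      smul_smul, ← pow_succ']

theorem p_muIt (c : ℕ) (x : S.P c) {j m : ℕ} (h : j ≤ c + m) (hm : j + 1 ≤ m) : S.p h (S.muIt c m x) = 0 := by
  rcases le_or_gt j c with hjc | hjc
  · obtain ⟨e, rfl⟩ : ∃ e, m = 0 + e := ⟨m, (zero_add m).symm⟩
    rw [← S.p_comp (show j ≤ c + 0 from hjc) (show c + 0 ≤ c + (0 + e) by omega), S.p_muIt_le c x 0 e, map_smul]
    obtain ⟨r, rfl⟩ : ∃ r, e = r + (j + 1) := ⟨e - (j + 1), by omega⟩
    rw [pow_add, mul_smul, S.killed, smul_zero]
  · obtain ⟨i, rfl⟩ : ∃ i, j = c + i := ⟨j - c, by omega⟩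
    obtain ⟨e, rfl⟩ : ∃ e, m = i + e := ⟨m - i, by omega⟩
    rw [S.p_muIt_le c x i e, ← map_smul]
    obtain ⟨r, rfl⟩ : ∃ r, e = r + (c + 1) := ⟨e - (c + 1), by omega⟩
    rw [pow_add, mul_smul, S.killed, smul_zero, map_zero]

theorem δ_muIt (c : ℕ) (s : S.P c) : ∀ m, S.δ (c + m) (S.muIt c m s) = S.δ c s
  | 0 => rfl
  | m + 1 => (S.δ_mu (c + m) _).trans (δ_muIt c s m)

variable [IsNoetherianRing A] [Module.Finite A S.Z]

theorem exists_bound : ∃ c, ∀ m, LinearMap.range (S.δ (c + m)) = LinearMap.range (S.δ c) := by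
  have hmono : Monotone fun k => LinearMap.range (S.δ k) :=
    monotone_nat_of_le_succ fun k => by rintro _ ⟨s, rfl⟩; exact ⟨_, S.δ_mu k s⟩
  obtain ⟨c, hc⟩ := monotone_stabilizes_iff_noetherian.2 (inferInstanceAs (IsNoetherian A S.Z))
    ⟨fun k => LinearMap.range (S.δ k), hmono⟩
  exact ⟨c, fun m => (hc (c + m) (Nat.le_add_right c m)).symm⟩

theorem exists_lift : ∃ c, ∀ (j : ℕ) (h : j ≤ c + (j + 1)) (s : S.P (c + (j + 1))), ∃ y : S.L, S.π j y = S.p h s := by
  obtain ⟨c, hc⟩ := S.exists_bound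
  have hstep : ∀ (j : ℕ) (s : S.P (c + (j + 1))), ∃ x : S.P (c + (j + 1) + 1),
      S.p (show j ≤ c + (j + 1) + 1 by omega) x = S.p (show j ≤ c + (j + 1) by omega) s := fun j s => by
    obtain ⟨s', hs'⟩ : S.δ (c + (j + 1)) s ∈ LinearMap.range (S.δ c) := hc (j + 1) ▸ LinearMap.mem_range_self _ s
    obtain ⟨x, hx⟩ := S.δ_lift (c + (j + 1)) (s - S.muIt c (j + 1) s') (by rw [map_sub, δ_muIt, hs', sub_self])
    refine ⟨x, ?_⟩
    rw [← S.p_comp (show j ≤ c + (j + 1) by omega) (Nat.le_succ _), hx, map_sub, S.p_muIt _ _ _ le_rfl, sub_zero]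
  choose g hg using hstep
  refine ⟨c, fun j _ s => ?_⟩
  let U : ∀ i, S.P (c + (j + i + 1)) := fun i =>
    Nat.rec (motive := fun i => S.P (c + (j + i + 1))) s (fun i a => g (j + i) a) i
  have hU : ∀ (n i : ℕ) (h : n ≤ j + i), S.p (show n ≤ c + (j + (i + 1) + 1) by omega) (U (i + 1)) =
      S.p (show n ≤ c + (j + i + 1) by omega) (U i) := fun n i h => by
    rw [← S.p_comp h (show j + i ≤ c + (j + (i + 1) + 1) by omega),
      ← S.p_comp h (show j + i ≤ c + (j + i + 1) by omega)]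
    exact congrArg _ (hg (j + i) (U i))
  refine ⟨⟨fun n => S.p (show n ≤ c + (j + n + 1) by omega) (U n), fun n => ?_⟩, ?_⟩
  · rw [S.p_comp]
    exact hU n n (Nat.le_add_left n j)
  · have hj : ∀ i, S.p (show j ≤ c + (j + i + 1) by omega) (U i) = S.p (show j ≤ c + (j + 1) by omega) s := by
      intro i
      induction i with
      | zero => rfl
      | succ i ih => exact (hU j i (Nat.le_add_right j i)).trans ih
    exact hj j

omit [Module.Finite A S.Z] in
theorem finite_L [IsAdicComplete (Ideal.span {t}) A] [Module.Finite A (S.P 0)] : Module.Finite A S.L := by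
  let f : ∀ n, LinearMap.range (S.π (n + 1)) →ₗ[A] LinearMap.range (S.π n) := fun n =>
    (S.p (Nat.le_succ n)).restrict (p := LinearMap.range (S.π (n + 1))) (q := LinearMap.range (S.π n))
      (by rintro _ ⟨z, rfl⟩; exact ⟨z, (S.π_succ n z).symm⟩)
  let p : ∀ n, S.L →ₗ[A] LinearMap.range (S.π n) := fun n => (S.π n).rangeRestrict
  have hlim : AdicLim.IsLimit f p :=
    { comm := fun n => LinearMap.ext fun z => Subtype.ext (S.π_succ n z)
      inj := fun z hz => Subtype.ext (funext fun n => congrArg Subtype.val (hz n))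
      lift := fun y hy => ⟨⟨fun n => (y n).1, fun n => congrArg Subtype.val (hy n)⟩, fun n => Subtype.ext rfl⟩ }
  have hf : ∀ n, Function.Surjective (f n) := fun n => fun ⟨_, z, hz⟩ =>
    ⟨⟨_, z, rfl⟩, Subtype.ext ((S.π_succ n z).trans hz)⟩
  have hker : ∀ n, LinearMap.ker (f n) =
      Ideal.span {t} ^ (n + 1) • (⊤ : Submodule A (LinearMap.range (S.π (n + 1)))) := fun n => by
    refine le_antisymm (fun x h => ?_) (Submodule.smul_le.2 fun a ha x _ => ?_)
    · obtain ⟨_, z, rfl⟩ := x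
      have h' : z ∈ Ideal.span {t} ^ (n + 1) • (⊤ : Submodule A S.L) := by
        rw [← S.ker_π n]
        exact (S.π_succ n z).symm.trans (congrArg Subtype.val h)
      have := Submodule.mem_map_of_mem (f := p (n + 1)) h'
      rw [Submodule.map_smul''] at this
      exact Submodule.smul_mono le_rfl le_top this
    · obtain ⟨_, z, rfl⟩ := x
      rw [LinearMap.mem_ker]
      refine Subtype.ext ?_
      have h0 : a • z ∈ LinearMap.ker (S.π n) := by
        rw [S.ker_π n]; exact Submodule.smul_mem_smul ha Submodule.mem_top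
      exact (S.π_succ n (a • z)).trans h0
  haveI : Module.Finite A (LinearMap.range (S.π 0)) := Module.Finite.of_fg (IsNoetherian.noetherian _)
  exact (hlim.finite_and_ker_eq (Ideal.span {t}) hf hker).1

end SecTower

end

end Groth.Agent.FormAlg
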