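import Groth.Agent.FormAlg.FinLim
import Groth.Agent.FormAlg.SecTower

/-!
Coherent formal systems for a principal ideal on which the variable acts regularly.
-/

set_option autoImplicit false
set_option maxHeartbeats 1000000
set_option linter.style.haveILetI false
set_option backward.isDefEq.respectTransparency false
set_option backward.isDefEq.respectTransparency.types false
universe u

namespace Groth.Agent.FormAlg

open CategoryTheory CategoryTheory.Limits AlgebraicGeometry TopologicalSpace Opposite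

noncomputable section

variable {A : Type u} [CommRing A] {X : Scheme.{u}} [X.Over (Spec (CommRingCat.of A))]

theorem hhMap_zero {M N : X.Modules} (q : ℕ) (x : Coh.HH X M q) : CohFinite.hhMap A (0 : M ⟶ N) q x = 0 := by
  have h : CohFinite.hhMap A (0 : M ⟶ M) q x = 0 := by
    rw [← W7Exist.smulMod_zero (A := A), hhMap_smulMod, zero_smul]
  rw [← comp_zero (f := (0 : M ⟶ M)) (Z := N), CohFinite.hhMap_comp, h, map_zero]

/-- A coherent formal system for `(t)` with an injective multiplication by `t` one level up. -/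
structure Tower (X : Scheme.{u}) [X.Over (Spec (CommRingCat.of A))] (t : A) where
  G : ℕᵒᵖ ⥤ X.Modules
  hG : Formal.IsCohFormal (Ideal.span {t}) G
  mu : ∀ n, G.obj (op n) ⟶ G.obj (op (n + 1))
  tn_mu : ∀ n, W7Exist.tn G n ≫ mu n = Formal.smulMod A (G.obj (op (n + 1))) t
  mono_mu : ∀ n, Mono (mu n)

namespace Tower

variable {t : A} (T : Tower X t)

/-- The terms. -/
abbrev obj (n : ℕ) : X.Modules := T.G.obj (op n)

/-- The projections. -/
def pr {a b : ℕ} (h : a ≤ b) : T.obj b ⟶ T.obj a := T.G.map (homOfLE h).op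

theorem pr_comp {a b c : ℕ} (h : a ≤ b) (h' : b ≤ c) : T.pr h' ≫ T.pr h = T.pr (h.trans h') :=
  (T.G.map_comp _ _).symm

theorem pr_self (a : ℕ) : T.pr (le_refl a) = 𝟙 _ := T.G.map_id _

theorem mu_tn (n : ℕ) : T.mu n ≫ W7Exist.tn T.G n = Formal.smulMod A (T.obj n) t := by
  haveI := W7Exist.epi_tn T.hG n
  rw [← cancel_epi (W7Exist.tn T.G n), ← Category.assoc, T.tn_mu, W7Cech.smulMod_natural]

theorem killed (n : ℕ) {k : ℕ} (h : n + 1 ≤ k) : Formal.smulMod A (T.obj n) (t ^ k) = 0 :=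
  T.hG.2.1 n _ (Ideal.pow_le_pow_right h (Ideal.pow_mem_pow (Ideal.mem_span_singleton_self t) k))

theorem smul_pr {a b k : ℕ} (h : a ≤ b) (hk : a + 1 ≤ k) : Formal.smulMod A (T.obj b) (t ^ k) ≫ T.pr h = 0 :=
  (W7Cech.smulMod_natural A (T.pr h) _).trans ((congrArg (T.pr h ≫ ·) (T.killed a hk)).trans comp_zero)

theorem epi_pr {a b : ℕ} (h : a ≤ b) : Epi (T.pr h) := by
  induction b, h using Nat.le_induction with
  | base => rw [pr_self]; infer_instance
  | succ b hab ih =>
    haveI : Epi (T.pr (Nat.le_succ b)) := W7Exist.epi_tn T.hG b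
    haveI := ih
    rw [← T.pr_comp hab (Nat.le_succ b)]
    exact epi_comp _ _

/-- Multiplication from the bottom level. -/
def nu : ∀ m : ℕ, T.obj 0 ⟶ T.obj m
  | 0 => 𝟙 _
  | m + 1 => nu m ≫ T.mu m

theorem mono_nu : ∀ m : ℕ, Mono (T.nu m)
  | 0 => inferInstanceAs (Mono (𝟙 _))
  | m + 1 => by
    haveI := mono_nu m
    haveI := T.mono_mu m
    exact mono_comp _ _

theorem pr_nu : ∀ m : ℕ, T.pr (Nat.zero_le m) ≫ T.nu m = Formal.smulMod A (T.obj m) (t ^ m)
  | 0 => by rw [pow_zero, smulMod_one, nu, Category.comp_id]; exact T.pr_self 0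
  | m + 1 => by
    have ih := pr_nu m
    rw [nu, ← T.pr_comp (Nat.zero_le m) (Nat.le_succ m), Category.assoc, ← Category.assoc (T.pr _) (T.nu m),
      ih, W7Cech.smulMod_natural, ← Category.assoc, show T.pr (Nat.le_succ m) ≫ T.mu m = _ from T.tn_mu _,
      W7Exist.smulMod_comp, pow_succ]

theorem nu_tn (k : ℕ) : T.nu (k + 1) ≫ W7Exist.tn T.G k = 0 := by
  haveI := T.epi_pr (Nat.zero_le (k + 1))
  rw [← cancel_epi (T.pr (Nat.zero_le (k + 1))), ← Category.assoc, pr_nu, comp_zero]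
  exact T.smul_pr (Nat.le_succ k) le_rfl

theorem mu_pr_zero (n : ℕ) : T.mu n ≫ T.pr (Nat.zero_le (n + 1)) = 0 := by
  haveI := W7Exist.epi_tn T.hG n
  rw [← cancel_epi (W7Exist.tn T.G n), ← Category.assoc, T.tn_mu, comp_zero]
  exact (congrArg (fun a => Formal.smulMod A (T.obj (n + 1)) a ≫ T.pr (Nat.zero_le (n + 1))) (pow_one t).symm).trans
    (T.smul_pr _ le_rfl)

theorem exists_desc_tn (k : ℕ) {P : X.Modules} (f : T.obj (k + 1) ⟶ P) (hf : T.nu (k + 1) ≫ f = 0) :
    ∃ g, W7Exist.tn T.G k ≫ g = f := by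
  refine W7Exist.exists_desc T.hG k f fun a ha => ?_
  rw [Ideal.span_singleton_pow, Ideal.mem_span_singleton] at ha
  obtain ⟨c, rfl⟩ := ha
  rw [← W7Exist.smulMod_comp, ← T.pr_nu, Category.assoc, Category.assoc, hf, comp_zero, comp_zero]

theorem exists_desc_zero : ∀ (n : ℕ) {P : X.Modules} (f : T.obj n ⟶ P), Formal.smulMod A (T.obj n) t ≫ f = 0 →
    ∃ g, T.pr (Nat.zero_le n) ≫ g = f
  | 0, P, f, _ => ⟨f, (congrArg (· ≫ f) (T.pr_self 0)).trans (Category.id_comp f)⟩
  | n + 1, P, f, hf => by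
    haveI := W7Exist.epi_tn T.hG n
    obtain ⟨g, rfl⟩ := W7Exist.exists_desc T.hG n f fun a ha => by
      rw [Ideal.span_singleton_pow, Ideal.mem_span_singleton] at ha
      obtain ⟨c, rfl⟩ := ha
      rw [pow_succ', mul_assoc, ← W7Exist.smulMod_comp, Category.assoc, hf, comp_zero]
    obtain ⟨g', rfl⟩ := exists_desc_zero n g (by
      rw [← cancel_epi (W7Exist.tn T.G n), comp_zero, ← Category.assoc, ← W7Cech.smulMod_natural, Category.assoc, hf])
    exact ⟨g', by rw [← T.pr_comp (Nat.zero_le n) (Nat.le_succ n), Category.assoc]; rfl⟩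

/-- `G_n → G_{n+1} → G_0` -/
def botSES (n : ℕ) : ShortComplex X.Modules := ShortComplex.mk (T.mu n) (T.pr (Nat.zero_le (n + 1))) (T.mu_pr_zero n)

theorem botSES_shortExact (n : ℕ) : (T.botSES n).ShortExact := by
  haveI := T.epi_pr (Nat.zero_le (n + 1))
  haveI := T.mono_mu n
  have hd : ∀ {P : X.Modules} (f : T.obj (n + 1) ⟶ P), T.mu n ≫ f = 0 → ∃ g, T.pr (Nat.zero_le (n + 1)) ≫ g = f :=
    fun f hf => T.exists_desc_zero (n + 1) f (by rw [← T.tn_mu, Category.assoc, hf, comp_zero])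
  exact
    { exact := ShortComplex.exact_of_g_is_cokernel _ (CokernelCofork.IsColimit.ofπ _ _
        (fun {P} φ hφ => (hd φ hφ).choose) (fun {P} φ hφ => (hd φ hφ).choose_spec)
        (fun {P} φ hφ g hg => (cancel_epi (T.pr (Nat.zero_le (n + 1)))).1 (hg.trans (hd φ hφ).choose_spec.symm)))
      mono_f := T.mono_mu n
      epi_g := T.epi_pr (Nat.zero_le (n + 1)) }

/-- `G_0 → G_{k+1} → G_k` -/
def topSES (k : ℕ) : ShortComplex X.Modules := ShortComplex.mk (T.nu (k + 1)) (W7Exist.tn T.G k) (T.nu_tn k)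

theorem topSES_shortExact (k : ℕ) : (T.topSES k).ShortExact := by
  haveI := W7Exist.epi_tn T.hG k
  exact
    { exact := ShortComplex.exact_of_g_is_cokernel _ (CokernelCofork.IsColimit.ofπ _ _
        (fun {P} φ hφ => (T.exists_desc_tn k φ hφ).choose) (fun {P} φ hφ => (T.exists_desc_tn k φ hφ).choose_spec)
        (fun {P} φ hφ g hg => (cancel_epi (W7Exist.tn T.G k)).1 (hg.trans (T.exists_desc_tn k φ hφ).choose_spec.symm)))
      mono_f := T.mono_nu (k + 1)
      epi_g := inferInstanceAs (Epi (W7Exist.tn T.G k)) }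

/-- The map of sequences `k → k + 1`. -/
def topTrans (k : ℕ) : T.topSES k ⟶ T.topSES (k + 1) :=
  ShortComplex.homMk (𝟙 _) (T.mu (k + 1)) (T.mu k) (Category.id_comp _)
    ((T.mu_tn (k + 1)).trans (T.tn_mu k).symm)

theorem mu0_injective (n : ℕ) : Function.Injective (CohFinite.hhMap A (T.mu n) 0) :=
  CohFinite.map_f_injective (CohFinite.shortExact_toAb (T.botSES_shortExact n))

/-- The sections of a tower. -/
def secTower : SecTower t where
  P n := ModuleCat.of A (Coh.HH X (T.obj n) 0)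
  Z := ModuleCat.of A (Coh.HH X (T.obj 0) 1)
  p h := CohFinite.hhMap A (T.pr h) 0
  p_self a x := by rw [pr_self]; exact CohFinite.hhMap_id A _ 0 x
  p_comp h h' x := by rw [← T.pr_comp h h']; exact (CohFinite.hhMap_comp A _ _ 0 x).symm
  killed n x := by
    refine (hhMap_smulMod (T.obj n) _ 0 x).symm.trans ?_
    rw [T.killed n le_rfl]
    exact hhMap_zero 0 _
  mu n := CohFinite.hhMap A (T.mu n) 0
  mu_injective := T.mu0_injective
  p_mu n x := ((CohFinite.hhMap_comp A _ _ 0 x).symm.trans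
    (congrArg (fun φ => CohFinite.hhMap A φ 0 x) (T.mu_tn n))).trans (hhMap_smulMod _ _ 0 x)
  mu_p n x := ((CohFinite.hhMap_comp A _ _ 0 x).symm.trans
    (congrArg (fun φ => CohFinite.hhMap A φ 0 x) (T.tn_mu n))).trans (hhMap_smulMod _ _ 0 x)
  exists_mu n x hx := exists_of_g_eq_zero (T.botSES_shortExact n) 0 x hx
  δ k := CohFinite.hhδ A (T.topSES_shortExact k) 0
  δ_mu k s := (hhδ_natural (T.topSES_shortExact k) (T.topSES_shortExact (k + 1)) (T.topTrans k) 0 s).symm.trans
    (CohFinite.hhMap_id A _ 1 _)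
  δ_lift k s hs := (CohFinite.δH_eq_zero_iff (CohFinite.shortExact_toAb (T.topSES_shortExact k)) 0 s).1 hs

end Tower

end

end Groth.Agent.FormAlg
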