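import Groth.Agent.FormAlg.Colim

/-!
Connectedness of `V(I) ∖ V(𝔞)` from algebraisation of idempotents.
-/

set_option autoImplicit false
set_option maxHeartbeats 1000000
set_option linter.style.haveILetI false
set_option backward.isDefEq.respectTransparency false
set_option backward.isDefEq.respectTransparency.types false
universe u

namespace Groth.Agent.FormAlg

open CategoryTheory CategoryTheory.Limits AlgebraicGeometry TopologicalSpace Opposite
open Groth.Agent.LocH (Sec secOf secRes secRes_secOf secRes_secRes sec_ext exists_basicOpen_le)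
open Groth.Agent.PunctArt (mapS mapS_secOf)

noncomputable section

variable {A : Type u} [CommRing A]

theorem exists_glue_two {X : Type u} [AddCommGroup X] [Module A X] {U W₁ W₂ : (Spec (CommRingCat.of A)).Opens}
    (h1 : W₁ ≤ U) (h2 : W₂ ≤ U) (hcov : U ≤ W₁ ⊔ W₂) (a : Sec A X W₁) (b : Sec A X W₂)
    (hab : secRes A X (inf_le_left : W₁ ⊓ W₂ ≤ W₁) a = secRes A X (inf_le_right : W₁ ⊓ W₂ ≤ W₂) b) :
    ∃ s, secRes A X h1 s = a ∧ secRes A X h2 s = b := by
  let W : Bool → (Spec (CommRingCat.of A)).Opens := fun i => if i then W₁ else W₂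
  let t : ∀ i, Sec A X (W i) := fun i => match i with
    | true => a
    | false => b
  have hle : ∀ i, W i ≤ U := fun i => by cases i <;> assumption
  have hc : TopCat.Presheaf.IsCompatible (LocH.secSheaf A X).1 W t := fun i j => by
    show secRes A X inf_le_left (t i) = secRes A X inf_le_right (t j)
    cases i <;> cases j
    · rfl
    · have h' : W false ⊓ W true ≤ W₁ ⊓ W₂ := le_inf inf_le_right inf_le_left
      have := congrArg (secRes A X h') hab
      rw [secRes_secRes, secRes_secRes] at this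
      exact this.symm
    · exact hab
    · rfl
  obtain ⟨s, hs, -⟩ := (LocH.secSheaf A X).existsUnique_gluing' W U (fun i => homOfLE (hle i))
    (hcov.trans (sup_le (le_iSup W true) (le_iSup W false))) t hc
  exact ⟨s, hs true, hs false⟩

theorem sec_ext_two {X : Type u} [AddCommGroup X] [Module A X] {U W₁ W₂ : (Spec (CommRingCat.of A)).Opens}
    (h1 : W₁ ≤ U) (h2 : W₂ ≤ U) (hcov : U ≤ W₁ ⊔ W₂) (s s' : Sec A X U)
    (e₁ : secRes A X h1 s = secRes A X h1 s') (e₂ : secRes A X h2 s = secRes A X h2 s') : s = s' :=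
  TopCat.Sheaf.eq_of_locally_eq₂ (LocH.secSheaf A X) (homOfLE h1) (homOfLE h2) hcov s s' e₁ e₂

theorem mem_minimalPrimes_of_associated_reduced [IsNoetherianRing A] {p : Ideal A}
    (hp : p ∈ associatedPrimes A (A ⧸ nilradical A)) : p ∈ minimalPrimes A := by
  obtain ⟨hpp, x, hx⟩ := hp
  by_contra hmin
  have hfin : (minimalPrimes A).Finite := minimalPrimes.finite_of_isNoetherianRing A
  have hnot : ¬ (p : Set A) ⊆ ⋃ P ∈ (hfin.toFinset : Set (Ideal A)), (P : Set A) := fun hsub => by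
    obtain ⟨P, hP, hle⟩ := (Ideal.subset_union_prime ⊤ ⊤ (fun P hP _ _ => (hfin.mem_toFinset.1 hP).1.1)).1 hsub
    have hP' := hfin.mem_toFinset.1 hP
    exact hmin (le_antisymm hle (hP'.2 ⟨hpp, bot_le⟩ hle) ▸ hP')
  obtain ⟨a, hap, ha⟩ := Set.not_subset.1 hnot
  have ha' : a ∈ (Submodule.colon (⊥ : Submodule A (A ⧸ nilradical A)) {x}).radical := hx ▸ hap
  obtain ⟨k, hk⟩ := ha'
  rw [Submodule.mem_colon_singleton, Submodule.mem_bot] at hk
  obtain ⟨r, rfl⟩ := Submodule.mkQ_surjective _ x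
  rw [Submodule.mkQ_apply, ← Submodule.Quotient.mk_smul, Submodule.Quotient.mk_eq_zero, smul_eq_mul] at hk
  have hr : r ∈ nilradical A := by
    rw [nilradical, Ideal.radical_eq_sInf]
    refine Submodule.mem_sInf.2 fun Q hQ => ?_
    haveI := hQ.2
    obtain ⟨P, hP, hPQ⟩ := Ideal.exists_minimalPrimes_le hQ.1
    have hPmin : P ∈ minimalPrimes A := hP
    haveI := hPmin.1.1
    have haP : a ∉ P := fun h => ha (Set.mem_biUnion (by simpa using hPmin) h)
    exact hPQ (((Ideal.IsPrime.mem_or_mem inferInstance ((nilradical_le_prime P) hk)).resolve_left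
      fun h => haP (Ideal.IsPrime.mem_of_pow_mem inferInstance k h)))
  apply hpp.ne_top
  rw [hx, Ideal.eq_top_iff_one]
  refine Ideal.le_radical ?_
  rw [Submodule.mem_colon_singleton, Submodule.mem_bot, one_smul]
  exact (Submodule.Quotient.mk_eq_zero _).2 hr

theorem isPreconnected_of_alg [IsNoetherianRing A] (I 𝔞 : Ideal A)
    (h : Alg I (A ⧸ nilradical A) (EGA4.openCompl A 𝔞))
    (h₃ : ∀ V : Set (PrimeSpectrum A), IsOpen V → V.Nonempty →
      PrimeSpectrum.zeroLocus (I : Set A) \ PrimeSpectrum.zeroLocus (𝔞 : Set A) ⊆ V → _root_.IsConnected V) :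
    _root_.IsPreconnected (PrimeSpectrum.zeroLocus (I : Set A) \ PrimeSpectrum.zeroLocus (𝔞 : Set A)) := by
  intro u v hu hv hcov hsu hsv
  by_contra hne
  let R := A ⧸ nilradical A
  let U : (Spec (CommRingCat.of A)).Opens := EGA4.openCompl A 𝔞
  let DI : (Spec (CommRingCat.of A)).Opens := EGA4.openCompl A I
  let W₁ : (Spec (CommRingCat.of A)).Opens := U ⊓ (⟨u, hu⟩ ⊔ DI)
  let W₂ : (Spec (CommRingCat.of A)).Opens := U ⊓ (⟨v, hv⟩ ⊔ DI)
  have hcover : U ≤ W₁ ⊔ W₂ := fun p hp => by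
    by_cases hpI : p ∈ DI
    · exact Or.inl ⟨hp, Or.inr hpI⟩
    · have hpS : p ∈ PrimeSpectrum.zeroLocus (I : Set A) := not_not.1 hpI
      rcases hcov ⟨hpS, hp⟩ with h | h
      · exact Or.inl ⟨hp, Or.inl h⟩
      · exact Or.inr ⟨hp, Or.inl h⟩
  have hinter : ∀ p ∈ W₁ ⊓ W₂, ¬ I ≤ p.asIdeal := by
    rintro p ⟨⟨hp, h1⟩, -, h2⟩ hI
    rcases h1 with h1 | h1
    · rcases h2 with h2 | h2
      · exact hne ⟨p, ⟨hI, hp⟩, h1, h2⟩
      · exact h2 hI
    · exact h1 hI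
  let one : R := Submodule.Quotient.mk (1 : A)
  let e : ∀ n, Formal2.quotPow A I R n := fun n => Formal2.quotPowπ A I R n one
  have hglue : ∀ n, ∃ s : Sec A (Formal2.quotPow A I R n) U,
      secRes A _ (inf_le_left : W₁ ≤ U) s = secOf A _ W₁ (e n) ∧ secRes A _ (inf_le_left : W₂ ≤ U) s = 0 := fun n => by
    refine exists_glue_two _ _ hcover _ _ ((sec_eq_zero_of_killed _ fun p hp => ?_).trans (map_zero _).symm)
    obtain ⟨b, hb, hbp⟩ := SetLike.not_le_iff_exists.1 (hinter p hp)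
    refine ⟨b ^ (n + 1), fun hm => hbp (p.isPrime.mem_of_pow_mem _ hm), fun x => ?_⟩
    refine Submodule.Quotient.induction_on _ x fun m => ?_
    rw [← Submodule.Quotient.mk_smul, Submodule.Quotient.mk_eq_zero]
    exact Submodule.smul_mem_smul (Ideal.pow_mem_pow hb _) Submodule.mem_top
  choose y hy1 hy2 using hglue
  obtain ⟨V, hV, x, hx⟩ := h y fun n => by
    refine sec_ext_two (inf_le_left : W₁ ≤ U) (inf_le_left : W₂ ≤ U) hcover _ _ ?_ ?_
    · rw [secRes_mapS, hy1, hy1]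
      exact mapS_secOf _ _ _
    · rw [secRes_mapS, hy2, hy2, map_zero]
  obtain ⟨V₁, ⟨hV₁, hle₁⟩, hz₁⟩ := exists_adm_zero (I := I) (U := W₁) (V := V ⊓ W₁)
    ⟨inf_le_right, fun p hp hpI => ⟨hV.2 p hp.1 hpI, hp⟩⟩
    (secRes A R (inf_le_left : V ⊓ W₁ ≤ V) x - secOf A R (V ⊓ W₁) one) fun n => by
      rw [map_sub, ← secRes_mapS, ← hx n, secRes_secRes,
        ← secRes_secRes (inf_le_left : W₁ ≤ U) (inf_le_right : V ⊓ W₁ ≤ W₁), hy1, secRes_secOf]
      exact sub_eq_zero.2 (mapS_secOf (qπ I R n) (V ⊓ W₁) one).symm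
  obtain ⟨V₂, ⟨hV₂, hle₂⟩, hz₂⟩ := exists_adm_zero (I := I) (U := W₂) (V := V ⊓ W₂)
    ⟨inf_le_right, fun p hp hpI => ⟨hV.2 p hp.1 hpI, hp⟩⟩
    (secRes A R (inf_le_left : V ⊓ W₂ ≤ V) x) fun n => by
      rw [← secRes_mapS, ← hx n, secRes_secRes,
        ← secRes_secRes (inf_le_left : W₂ ≤ U) (inf_le_right : V ⊓ W₂ ≤ W₂), hy2, map_zero]
  have hdisj : ∀ p, p ∈ V₁ → p ∈ V₂ → False := fun p hp1 hp2 => by
    obtain ⟨g, hpg, hg⟩ := exists_basicOpen_le (show p ∈ V₁ ⊓ V₂ from ⟨hp1, hp2⟩)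
    have h1 := congrArg (secRes A R (hg.trans inf_le_left)) hz₁
    have h2 := congrArg (secRes A R (hg.trans inf_le_right)) hz₂
    rw [secRes_secRes, map_sub, secRes_secOf, map_zero, sub_eq_zero, secRes_secRes] at h1
    rw [secRes_secRes, secRes_secRes, map_zero] at h2
    rw [show secRes A R _ x = 0 from h2] at h1
    obtain ⟨⟨_, k, rfl⟩, hk⟩ := (IsLocalizedModule.eq_zero_iff (Submonoid.powers g)
      (secOf A R (PrimeSpectrum.basicOpen g))).1 h1.symm
    change g ^ k • (Submodule.Quotient.mk (1 : A) : A ⧸ nilradical A) = 0 at hk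
    rw [← Submodule.Quotient.mk_smul, Submodule.Quotient.mk_eq_zero, smul_eq_mul, mul_one] at hk
    exact hpg (p.isPrime.mem_of_pow_mem k ((nilradical_le_prime p.asIdeal) hk))
  obtain ⟨a, ⟨haI, ha⟩, hau⟩ := hsu
  have ha1 : a ∈ V₁ := hV₁.2 a ⟨ha, Or.inl hau⟩ haI
  obtain ⟨b, ⟨hbI, hb⟩, hbv⟩ := hsv
  have hb2 : b ∈ V₂ := hV₂.2 b ⟨hb, Or.inl hbv⟩ hbI
  have hconn := h₃ (Set.union (V₁.1 : Set (Spec (CommRingCat.of A))) V₂.1) (V₁.2.union V₂.2) ⟨a, Or.inl ha1⟩ fun p hp => by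
    rcases hcov hp with h | h
    · exact Or.inl (hV₁.2 p ⟨hp.2, Or.inl h⟩ hp.1)
    · exact Or.inr (hV₂.2 p ⟨hp.2, Or.inl h⟩ hp.1)
  obtain ⟨p, -, hp1, hp2⟩ := hconn.isPreconnected _ _ V₁.2 V₂.2 subset_rfl ⟨a, Or.inl ha1, ha1⟩ ⟨b, Or.inr hb2, hb2⟩
  exact hdisj p hp1 hp2

end

end Groth.Agent.FormAlg
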