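import Groth.Agent.CohFinite.Linear
import Groth.Agent.W7Exist.Completion
import Groth.Agent.AdicLim.Noetherian

/-!
`H^i(X, F) → lim H^i(X, F/t^{k+1}F)` for a regular `t` and finite cohomology groups.
-/

set_option autoImplicit false
set_option maxHeartbeats 1000000
set_option linter.style.haveILetI false
set_option backward.isDefEq.respectTransparency false
set_option backward.isDefEq.respectTransparency.types false
universe u

namespace Groth.Agent.FormAlg

open CategoryTheory CategoryTheory.Limits AlgebraicGeometry TopologicalSpace Opposite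

noncomputable section

variable {A : Type u} [CommRing A] {X : Scheme.{u}} [X.Over (Spec (CommRingCat.of A))]
  (F : X.Modules) (t : A)

theorem smulMod_one : Formal.smulMod A F (1 : A) = 𝟙 F := by
  refine Scheme.Modules.hom_ext _ _ fun W => ?_
  ext z
  change W7Cech.secRing A W (1 : A) • (show Γ(F, W) from z) = _
  rw [map_one, one_smul]
  rfl

theorem mono_smulMod_pow [Mono (Formal.smulMod A F t)] : ∀ k : ℕ, Mono (Formal.smulMod A F (t ^ k))
  | 0 => by rw [pow_zero, smulMod_one]; infer_instance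
  | k + 1 => by
    haveI := mono_smulMod_pow k
    rw [pow_succ', ← W7Exist.smulMod_comp]
    exact mono_comp _ _

/-- `F → F → F/t^kF` -/
def powSES (k : ℕ) : ShortComplex X.Modules :=
  ShortComplex.mk (Formal.smulMod A F (t ^ k)) (Formal.modPowπ (Ideal.span {t}) k F)
    (W7Exist.smulMod_π _ k F _ (Ideal.pow_mem_pow (Ideal.mem_span_singleton_self t) k))

theorem powSES_shortExact [Mono (Formal.smulMod A F t)] (k : ℕ) : (powSES F t k).ShortExact := by
  have hdesc : ∀ {P : X.Modules} (φ : F ⟶ P), Formal.smulMod A F (t ^ k) ≫ φ = 0 →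
      ∀ a ∈ Ideal.span {t} ^ k, Formal.smulMod A F a ≫ φ = 0 := fun φ hφ a ha => by
    rw [Ideal.span_singleton_pow, Ideal.mem_span_singleton] at ha
    obtain ⟨c, rfl⟩ := ha
    rw [← W7Exist.smulMod_comp, Category.assoc, hφ, comp_zero]
  exact
    { exact := ShortComplex.exact_of_g_is_cokernel _ (CokernelCofork.IsColimit.ofπ _ _
        (fun {P} φ hφ => (W7Exist.exists_desc_modPow _ k φ (hdesc φ hφ)).choose)
        (fun {P} φ hφ => (W7Exist.exists_desc_modPow _ k φ (hdesc φ hφ)).choose_spec)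
        (fun {P} φ hφ g hg => (cancel_epi (Formal.modPowπ (Ideal.span {t}) k F)).1
          (hg.trans (W7Exist.exists_desc_modPow _ k φ (hdesc φ hφ)).choose_spec.symm)))
      mono_f := mono_smulMod_pow F t k
      epi_g := W7Exist.epi_modPowπ _ k F }

theorem hhMap_smulMod (a : A) (q : ℕ) (x : Coh.HH X F q) : CohFinite.hhMap A (Formal.smulMod A F a) q x = a • x := rfl

/-- The map of sequences `k + 1 → k`. -/
def powSESTrans (k : ℕ) : powSES F t (k + 1) ⟶ powSES F t k :=
  ShortComplex.homMk (Formal.smulMod A F t) (𝟙 F) (Formal.modPowTrans (Ideal.span {t}) k F)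
    ((W7Exist.smulMod_comp F t (t ^ k)).trans (((Category.comp_id _).trans
      (congrArg (Formal.smulMod A F) (pow_succ t k))).symm))
    ((Category.id_comp _).trans (Formal.modPowπ_trans (Ideal.span {t}) k F).symm)

theorem hhδ_natural {S T : ShortComplex X.Modules} (hS : S.ShortExact) (hT : T.ShortExact) (φ : S ⟶ T) (q : ℕ)
    (y : Coh.HH X S.X₃ q) :
    CohFinite.hhMap A φ.τ₁ (q + 1) (CohFinite.hhδ A hS q y) = CohFinite.hhδ A hT q (CohFinite.hhMap A φ.τ₃ q y) :=
  (CohFinite.δH_natural (CohFinite.shortExact_toAb hS) (CohFinite.shortExact_toAb hT)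
    ((CohQC.toAbF X).mapShortComplex.map φ) q y).symm

theorem exists_of_g_eq_zero {S : ShortComplex X.Modules} (hS : S.ShortExact) (q : ℕ) (x : Coh.HH X S.X₂ q)
    (hx : CohFinite.hhMap A S.g q x = 0) : ∃ y : Coh.HH X S.X₁ q, CohFinite.hhMap A S.f q y = x :=
  (CohFinite.map_g_eq_zero_iff (CohFinite.shortExact_toAb hS) q x).1 hx

section

variable [Mono (Formal.smulMod A F t)]

/-- The connecting map. -/
def powδ (k i : ℕ) : Coh.HH X (Formal.modPow (Ideal.span {t}) k F) i →ₗ[A] Coh.HH X F (i + 1) :=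
  CohFinite.hhδ A (powSES_shortExact F t k) i

theorem powδ_trans (k i : ℕ) (y : Coh.HH X (Formal.modPow (Ideal.span {t}) (k + 1) F) i) :
    powδ F t k i (CohFinite.hhMap A (Formal.modPowTrans (Ideal.span {t}) k F) i y) = t • powδ F t (k + 1) i y := by
  rw [← hhMap_smulMod]
  exact (hhδ_natural (powSES_shortExact F t (k + 1)) (powSES_shortExact F t k) (powSESTrans F t k) i y).symm

theorem pow_smul_powδ (k i : ℕ) (y : Coh.HH X (Formal.modPow (Ideal.span {t}) k F) i) :
    t ^ k • powδ F t k i y = 0 :=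
  (CohFinite.map_f_eq_zero_iff (CohFinite.shortExact_toAb (powSES_shortExact F t k)) i _).2 ⟨y, rfl⟩

theorem mem_smul_top_of_π_eq_zero (k i : ℕ) (x : Coh.HH X F i)
    (hx : CohFinite.hhMap A (Formal.modPowπ (Ideal.span {t}) k F) i x = 0) :
    x ∈ (Ideal.span {t} ^ k • ⊤ : Submodule A (Coh.HH X F i)) := by
  obtain ⟨y, hy⟩ := exists_of_g_eq_zero (powSES_shortExact F t k) i x hx
  rw [show x = t ^ k • (show Coh.HH X F i from y) from hy.symm]
  exact Submodule.smul_mem_smul (Ideal.pow_mem_pow (Ideal.mem_span_singleton_self t) k) Submodule.mem_top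

theorem π_eq_zero_of_mem_smul_top (k i : ℕ) (x : Coh.HH X F i)
    (hx : x ∈ (Ideal.span {t} ^ k • ⊤ : Submodule A (Coh.HH X F i))) :
    CohFinite.hhMap A (Formal.modPowπ (Ideal.span {t}) k F) i x = 0 := by
  rw [Ideal.span_singleton_pow, Submodule.ideal_span_singleton_smul, Submodule.mem_smul_pointwise_iff_exists] at hx
  obtain ⟨y, -, rfl⟩ := hx
  exact (CohFinite.map_g_eq_zero_iff (CohFinite.shortExact_toAb (powSES_shortExact F t k)) i _).2 ⟨y, rfl⟩

theorem powδ_iter (i : ℕ) (y : ∀ n, Coh.HH X (Formal.modPow (Ideal.span {t}) (n + 1) F) i)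
    (hy : ∀ n, CohFinite.hhMap A (Formal.modPowTrans (Ideal.span {t}) (n + 1) F) i (y (n + 1)) = y n) (n : ℕ) :
    ∀ j : ℕ, powδ F t (n + 1) i (y n) = t ^ j • powδ F t (n + j + 1) i (y (n + j))
  | 0 => by rw [pow_zero, one_smul]; rfl
  | j + 1 => by
    rw [powδ_iter i y hy n j, ← hy (n + j), powδ_trans, smul_smul, pow_succ]
    rfl

variable [IsNoetherianRing A] [IsAdicComplete (Ideal.span {t}) A]

theorem injective_toHHlim (i : ℕ) [Module.Finite A (Coh.HH X F i)] :
    Function.Injective (Formal.toHHlim (Ideal.span {t}) F i) := by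
  haveI : IsAdicComplete (Ideal.span {t}) (Coh.HH X F i) := AdicLim.isAdicComplete_of_finite _ _
  refine (injective_iff_map_eq_zero _).2 fun x hx => IsHausdorff.haus (IsAdicComplete.toIsHausdorff (I := Ideal.span {t}) (M := Coh.HH X F i)) x fun n => SModEq.zero.2 ?_
  exact Submodule.smul_mono (Ideal.pow_le_pow_right (Nat.le_succ n)) le_rfl
    (mem_smul_top_of_π_eq_zero F t (n + 1) i x (congrFun (congrArg Subtype.val hx) n))

omit [IsAdicComplete (Ideal.span {t}) A] in
theorem exists_pow_torsion_bound (M : Type u) [AddCommGroup M] [Module A M] [Module.Finite A M] :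
    ∃ N : ℕ, ∀ m (z : M), t ^ m • z = 0 → t ^ N • z = 0 := by
  let f : ℕ →o Submodule A M :=
    { toFun := fun m => LinearMap.ker (LinearMap.lsmul A M (t ^ m))
      monotone' := fun a b h z hz => by
        rw [LinearMap.mem_ker, LinearMap.lsmul_apply] at hz ⊢
        rw [show b = b - a + a by omega, pow_add, mul_smul, hz, smul_zero] }
  obtain ⟨N, hN⟩ := monotone_stabilizes_iff_noetherian.2 (inferInstanceAs (IsNoetherian A M)) f
  refine ⟨N, fun m z hz => ?_⟩
  rcases le_total N m with h | h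
  · have : z ∈ f m := hz
    rw [← hN m h] at this
    exact this
  · exact (f.monotone h) (show z ∈ f m from hz)

theorem exists_lift (i : ℕ) [Module.Finite A (Coh.HH X F (i + 1))]
    (y : ∀ n, Coh.HH X (Formal.modPow (Ideal.span {t}) (n + 1) F) i)
    (hy : ∀ n, CohFinite.hhMap A (Formal.modPowTrans (Ideal.span {t}) (n + 1) F) i (y (n + 1)) = y n) (n : ℕ) :
    ∃ x : Coh.HH X F i, CohFinite.hhMap A (Formal.modPowπ (Ideal.span {t}) (n + 1) F) i x = y n := by
  obtain ⟨N, hN⟩ := exists_pow_torsion_bound t (Coh.HH X F (i + 1))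
  exact (CohFinite.δH_eq_zero_iff (CohFinite.shortExact_toAb (powSES_shortExact F t (n + 1))) i (y n)).1
    ((powδ_iter F t i y hy n N).trans (hN _ _ (pow_smul_powδ F t _ i _)))

theorem surjective_toHHlim (i : ℕ) [Module.Finite A (Coh.HH X F i)] [Module.Finite A (Coh.HH X F (i + 1))] :
    Function.Surjective (Formal.toHHlim (Ideal.span {t}) F i) := by
  haveI : IsAdicComplete (Ideal.span {t}) (Coh.HH X F i) := AdicLim.isAdicComplete_of_finite _ _
  intro y
  have hy : ∀ n, CohFinite.hhMap A (Formal.modPowTrans (Ideal.span {t}) (n + 1) F) i (y.1 (n + 1)) = y.1 n := y.2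
  choose x hx using exists_lift F t i y.1 hy
  have hπ : ∀ n, CohFinite.hhMap A (Formal.modPowπ (Ideal.span {t}) (n + 1) F) i (x (n + 1)) = y.1 n := fun n => by
    rw [← hy n, ← hx (n + 1), ← CohFinite.hhMap_comp, Formal.modPowπ_trans]
  have hstep : ∀ n, x (n + 1) - x n ∈ (Ideal.span {t} ^ (n + 1) • ⊤ : Submodule A (Coh.HH X F i)) := fun n =>
    mem_smul_top_of_π_eq_zero F t (n + 1) i _ (by rw [map_sub, hπ, hx, sub_self])
  have hc : ∀ {m n}, m ≤ n → x m ≡ x n [SMOD (Ideal.span {t} ^ m • ⊤ : Submodule A (Coh.HH X F i))] := by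
    intro m n h
    induction n, h using Nat.le_induction with
    | base => rfl
    | succ n hmn ih =>
      refine ih.trans (SModEq.sub_mem.2 ?_).symm
      exact Submodule.smul_mono (Ideal.pow_le_pow_right (by omega)) le_rfl (hstep n)
  obtain ⟨L, hL⟩ := IsPrecomplete.prec (IsAdicComplete.toIsPrecomplete (I := Ideal.span {t}) (M := Coh.HH X F i)) hc
  refine ⟨L, Subtype.ext (funext fun n => ?_)⟩
  change CohFinite.hhMap A (Formal.modPowπ (Ideal.span {t}) (n + 1) F) i L = y.1 n
  rw [← hπ n, ← sub_eq_zero, ← map_sub]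
  exact π_eq_zero_of_mem_smul_top F t (n + 1) i _ (SModEq.sub_mem.1 (hL (n + 1)).symm)

end

end

end Groth.Agent.FormAlg
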