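import Groth.Agent.FormAlg.SecFinite
import Groth.Agent.PunctArt.Main

/-!
`H^{q+1}(U, X~) ≅ H^{q+2}_𝔞(X)`, linearly.
-/

set_option autoImplicit false
set_option maxHeartbeats 1000000
set_option linter.style.haveILetI false
set_option backward.isDefEq.respectTransparency false
set_option backward.isDefEq.respectTransparency.types false
universe u

namespace Groth.Agent.FormAlg

open CategoryTheory CategoryTheory.Limits AlgebraicGeometry TopologicalSpace Opposite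
open Groth.Agent.LocH (Sec secOf injSES injSES_shortExact)
open Groth.Agent.PunctArt (mapS mapS_secOf HU' mapH sec0 sec0_natural sec0_smul delta delta_eq_zero_iff)

noncomputable section

variable {A : Type u} [CommRing A] [IsNoetherianRing A] (𝔞 : Ideal A)

local notation "U𝔞" => EGA4.openCompl A 𝔞

theorem cls_secOf {X : ModuleCat.{u} A} (x : X) (w : ↑((localCohomology 𝔞 1).obj X))
    (h : Cls 𝔞 (secOf A X U𝔞 x) w) : w = 0 := by
  obtain ⟨e, he, hs, rfl⟩ := h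
  have hg : (injSES X).g (e - (injSES X).f x) = (injSES X).g e := by
    rw [map_sub, show (injSES X).g ((injSES X).f x) = 0 from congrArg (fun φ => φ.hom x) (injSES X).zero, sub_zero]
  have ht : e - (injSES X).f x ∈ DRing.torsionSub 𝔞 (injSES X).X₂ :=
    (secOf_eq_zero_iff 𝔞 _).1 ((map_sub _ _ _).trans (sub_eq_zero.2 (hs.trans (mapS_secOf (W := U𝔞) (injSES X).f x))))
  rw [show (⟨(injSES X).g e, he⟩ : DRing.torsionSub 𝔞 (injSES X).X₃) =
      ⟨(injSES X).g (e - (injSES X).f x), DRing.map_mem_torsionSub 𝔞 (injSES X).g.hom ht⟩ from Subtype.ext hg.symm]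
  refine Eq.trans (congrArg _ ?_) (LocH.delta_map (I := 𝔞) (injSES_shortExact X) 0 ((LocH.zeroIso 𝔞).inv.app _ ⟨_, ht⟩))
  exact (LocH.zero_map_apply (I := 𝔞) (injSES X).g ⟨_, ht⟩).symm

variable (X : ModuleCat.{u} A)

theorem injective_X₂ : Injective (injSES X).X₂ := inferInstanceAs (Injective (Injective.under X))

/-- `sec0` as a linear map. -/
def sec0Lin (U : (Spec (CommRingCat.of A)).Opens) (N : ModuleCat.{u} A) : Sec A N U →ₗ[A] HU' U 0 N where
  toFun s := sec0 U N s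
  map_add' a b := map_add (sec0 U N) a b
  map_smul' r s := sec0_smul r s

/-- The map `G → H^1(U, X~)`. -/
def toHU₁ : clsSub 𝔞 (injSES X).X₃ →ₗ[A] HU' U𝔞 1 X :=
  ((delta (U := U𝔞) (injSES_shortExact X) 0).comp (sec0Lin U𝔞 (injSES X).X₃)).comp
    ((LinearMap.fst A _ _).comp (clsSub 𝔞 (injSES X).X₃).subtype)

/-- The map `G → H^2_𝔞(X)`. -/
def toLC₂ : clsSub 𝔞 (injSES X).X₃ →ₗ[A] ↑((localCohomology 𝔞 2).obj X) :=
  (LocH.delta (injSES_shortExact X) 1).comp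
    ((LinearMap.snd A _ _).comp (clsSub 𝔞 (injSES X).X₃).subtype)

theorem toHU₁_surjective : Function.Surjective (toHU₁ 𝔞 X) := fun x => by
  haveI := injective_X₂ X
  haveI : Subsingleton (HU' U𝔞 (0 + 1) (injSES X).X₂) := PunctArt.subsingleton_injective 𝔞 (injSES X).X₂ 0
  obtain ⟨y, rfl⟩ := (PunctArt.mapH_f_eq_zero_iff (U := U𝔞) (injSES_shortExact X) 0 x).1 (Subsingleton.elim _ _)
  obtain ⟨s, rfl⟩ := (sec0 U𝔞 (injSES X).X₃).surjective y
  obtain ⟨w, hw⟩ := exists_cls (𝔞 := 𝔞) s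
  exact ⟨⟨(s, w), hw⟩, rfl⟩

theorem lc_delta_injective (i : ℕ) : Function.Injective (LocH.delta (I := 𝔞) (injSES_shortExact X) (i + 1)) := by
  haveI := injective_X₂ X
  haveI : Subsingleton ↑((localCohomology 𝔞 (i + 1)).obj (injSES X).X₂) :=
    LocH.subsingleton_of_injective (injSES X).X₂ i
  refine (injective_iff_map_eq_zero _).2 fun y hy => ?_
  obtain ⟨v, rfl⟩ := LocH.exact₃ (injSES_shortExact X) (i + 1) hy
  rw [Subsingleton.elim v 0, map_zero]

theorem lc_delta_surjective (i : ℕ) : Function.Surjective (LocH.delta (I := 𝔞) (injSES_shortExact X) i) := fun z => by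
  haveI := injective_X₂ X
  haveI : Subsingleton ↑((localCohomology 𝔞 (i + 1)).obj (injSES X).X₂) :=
    LocH.subsingleton_of_injective (injSES X).X₂ i
  exact LocH.exact₁ (injSES_shortExact X) i (x := z) (Subsingleton.elim _ _)

theorem toLC₂_surjective : Function.Surjective (toLC₂ 𝔞 X) := fun z => by
  obtain ⟨w, rfl⟩ := lc_delta_surjective 𝔞 X 1 z
  obtain ⟨s, hs⟩ := exists_sec_cls (𝔞 := 𝔞) w
  exact ⟨⟨(s, w), hs⟩, rfl⟩

theorem ker_toHU₁ : LinearMap.ker (toHU₁ 𝔞 X) = LinearMap.ker (toLC₂ 𝔞 X) := by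
  haveI := injective_X₂ X
  ext ⟨⟨s, w⟩, hz⟩
  have hz' : Cls 𝔞 s w := hz
  refine (LinearMap.mem_ker.trans ?_).trans LinearMap.mem_ker.symm
  show delta (U := U𝔞) (injSES_shortExact X) 0 (sec0 U𝔞 (injSES X).X₃ s) = 0 ↔ LocH.delta (injSES_shortExact X) 1 w = 0
  rw [delta_eq_zero_iff, ← map_zero (LocH.delta (I := 𝔞) (injSES_shortExact X) 1),
    (lc_delta_injective 𝔞 X 0).eq_iff]
  refine ⟨fun ⟨y, hy⟩ => ?_, fun h => ?_⟩
  · obtain ⟨t, rfl⟩ := (sec0 U𝔞 (injSES X).X₂).surjective y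
    obtain ⟨e, rfl⟩ := surjective_secOf_injective 𝔞 (injSES X).X₂ t
    rw [← sec0_natural, mapS_secOf] at hy
    have hs := (sec0 U𝔞 (injSES X).X₃).injective hy
    subst hs
    exact cls_secOf 𝔞 _ w hz'
  · subst h
    obtain ⟨m, rfl⟩ := hz'.mem_range
    obtain ⟨e, rfl⟩ := (ModuleCat.epi_iff_surjective _).1 (injSES_shortExact X).epi_g m
    exact ⟨sec0 U𝔞 _ (secOf A (injSES X).X₂ U𝔞 e), by rw [← sec0_natural, mapS_secOf]⟩

theorem hu_delta_bijective (q : ℕ) :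
    Function.Bijective (delta (U := U𝔞) (injSES_shortExact X) (q + 1)) := by
  haveI := injective_X₂ X
  haveI : Subsingleton (HU' U𝔞 (q + 1) (injSES X).X₂) := PunctArt.subsingleton_injective 𝔞 (injSES X).X₂ q
  haveI : Subsingleton (HU' U𝔞 (q + 1 + 1) (injSES X).X₂) := PunctArt.subsingleton_injective 𝔞 (injSES X).X₂ (q + 1)
  refine ⟨(injective_iff_map_eq_zero _).2 fun x hx => ?_, fun z =>
    (PunctArt.mapH_f_eq_zero_iff (U := U𝔞) (injSES_shortExact X) (q + 1) z).1 (Subsingleton.elim _ _)⟩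
  obtain ⟨y, rfl⟩ := (delta_eq_zero_iff (U := U𝔞) (injSES_shortExact X) (q + 1) x).1 hx
  rw [Subsingleton.elim y 0, map_zero]

theorem nonempty_linearEquiv : ∀ (q : ℕ) (X : ModuleCat.{u} A),
    Nonempty (HU' U𝔞 (q + 1) X ≃ₗ[A] ↑((localCohomology 𝔞 (q + 2)).obj X))
  | 0, X =>
    ⟨((toHU₁ 𝔞 X).quotKerEquivOfSurjective (toHU₁_surjective 𝔞 X)).symm ≪≫ₗ
      Submodule.quotEquivOfEq _ _ (ker_toHU₁ 𝔞 X) ≪≫ₗ
      (toLC₂ 𝔞 X).quotKerEquivOfSurjective (toLC₂_surjective 𝔞 X)⟩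
  | q + 1, X => by
    obtain ⟨e⟩ := nonempty_linearEquiv q (injSES X).X₃
    exact ⟨(LinearEquiv.ofBijective _ (hu_delta_bijective 𝔞 X q)).symm ≪≫ₗ e ≪≫ₗ
      LinearEquiv.ofBijective _ ⟨lc_delta_injective 𝔞 X (q + 1), lc_delta_surjective 𝔞 X (q + 2)⟩⟩

theorem finite_HU_zero (M : Type u) [AddCommGroup M] [Module A M] [Module.Finite A M]
    [Module.Finite A (LocCoh.H 𝔞 1 M)] : Module.Finite A (HU' U𝔞 0 (ModuleCat.of A M)) := by
  haveI := finite_sec_of_finite_H 𝔞 M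
  exact Module.Finite.of_surjective (sec0Lin U𝔞 (ModuleCat.of A M)) (sec0 U𝔞 (ModuleCat.of A M)).surjective

end

end Groth.Agent.FormAlg
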