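import Groth.Agent.FormAlg.Biject
import Groth.Agent.FormAlg.HHLin
import Groth.Agent.FormAlg.FinLim
import Groth.Agent.ZarPair.Bundle
import Groth.Agent.RefStalk.Restrict
import Groth.Agent.SGA2Fin.Affine
import Groth.Agent.S2929
import Groth.Agent.LocH.DepthMisc

/-!
Finiteness of the cohomology of coherent sheaves on `Spec A - V(I)` from depth in relative codimension one.
-/

set_option autoImplicit false
set_option maxHeartbeats 1000000
set_option linter.style.haveILetI false
set_option backward.isDefEq.respectTransparency false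
set_option backward.isDefEq.respectTransparency.types false
universe u

namespace Groth.Agent.FormAlg

open CategoryTheory CategoryTheory.Limits AlgebraicGeometry TopologicalSpace Opposite
open Groth.Agent.PunctArt (HU')

noncomputable section

theorem depth_eq_of_semilinear {R S : Type u} [CommRing R] [IsLocalRing R] [IsNoetherianRing R] [CommRing S]
    [IsLocalRing S] [IsNoetherianRing S] (σ : R ≃+* S) {M N : Type u} [AddCommGroup M] [Module R M]
    [AddCommGroup N] [Module S N] [Module.Finite S N] (e : M ≃+ N) (he : ∀ (r : R) (m : M), e (r • m) = σ r • e m) :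
    LocCoh.depth R M = LocCoh.depth S N := by
  letI : Algebra R S := σ.toRingHom.toAlgebra
  letI : Module R N := Module.compHom N σ.toRingHom
  haveI : IsScalarTower R S N := IsScalarTower.of_algebraMap_smul fun _ _ => rfl
  haveI : Module.Finite R S := Module.Finite.of_surjective (Algebra.linearMap R S) σ.surjective
  haveI : Module.Finite R N := Module.Finite.trans S N
  let l : M ≃ₗ[R] N := { e with map_smul' := he }
  have hm : (IsLocalRing.maximalIdeal R).map (algebraMap R S) = IsLocalRing.maximalIdeal S := by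
    haveI : ((IsLocalRing.maximalIdeal R).map (algebraMap R S)).IsMaximal :=
      Ideal.map_isMaximal_of_equiv σ
    exact IsLocalRing.eq_maximalIdeal ‹_›
  rw [LocCoh.depth, LocCoh.depth, LocH.idealDepth_congr l, LocH.idealDepth_map_eq (R' := S) (IsLocalRing.maximalIdeal R) N, hm]

variable {A : Type u} [CommRing A] [IsNoetherianRing A]

theorem finite_stalk_tilde (M : Type u) [AddCommGroup M] [Module A M] [Module.Finite A M] (p : PrimeSpectrum A) :
    Module.Finite ((Spec (CommRingCat.of A)).presheaf.stalk p)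
      ((tilde (R := CommRingCat.of A) (ModuleCat.of A M)).presheaf.stalk p) := by
  letI : Algebra A ((Spec (CommRingCat.of A)).presheaf.stalk p) := StructureSheaf.stalkAlgebra A p
  haveI : IsLocalization.AtPrime ((Spec (CommRingCat.of A)).presheaf.stalk p) p.asIdeal :=
    StructureSheaf.IsLocalization.to_stalk A p
  letI : Module A ((tilde (R := CommRingCat.of A) (ModuleCat.of A M)).presheaf.stalk p) :=
    Module.compHom _ (algebraMap A ((Spec (CommRingCat.of A)).presheaf.stalk p))
  haveI : IsScalarTower A ((Spec (CommRingCat.of A)).presheaf.stalk p)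
      ((tilde (R := CommRingCat.of A) (ModuleCat.of A M)).presheaf.stalk p) :=
    IsScalarTower.of_algebraMap_smul fun _ _ => rfl
  letI f : M →ₗ[A] (tilde (R := CommRingCat.of A) (ModuleCat.of A M)).presheaf.stalk p := StructureSheaf.toStalkₗ A M p
  haveI : IsLocalizedModule p.asIdeal.primeCompl f :=
    (inferInstance : IsLocalizedModule p.asIdeal.primeCompl (StructureSheaf.toStalkₗ A M p))
  exact Module.Finite.of_isLocalizedModule p.asIdeal.primeCompl (Rₚ := (Spec (CommRingCat.of A)).presheaf.stalk p) f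

/-- Depth of the stalks of a sheaf of the form `M~|_U`. -/
theorem depth_stalk_of_iso (M : Type u) [AddCommGroup M] [Module A M] [Module.Finite A M]
    (U : (Spec (CommRingCat.of A)).Opens) (F : (↑U : Scheme.{u}).Modules)
    (φ : (tilde (R := CommRingCat.of A) (ModuleCat.of A M)).restrict U.ι ≅ F) (x : U) :
    LocCoh.depth ((↑U : Scheme.{u}).presheaf.stalk x) (F.presheaf.stalk x) =
      LocCoh.depth (Localization.AtPrime (show PrimeSpectrum A from x.1).asIdeal)
        (LocalizedModule (show PrimeSpectrum A from x.1).asIdeal.primeCompl M) := by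
  refine Eq.trans ?_ (depth_stalk_tilde x.1)
  haveI := finite_stalk_tilde M (x.1 : PrimeSpectrum A)
  obtain ⟨σ, e, he⟩ := RefStalk.exists_stalk_restrict (tilde (R := CommRingCat.of A) (ModuleCat.of A M)) U x
  refine Eq.trans ?_ (depth_eq_of_semilinear σ e he)
  exact (LocH.idealDepth_congr (((DerSch.stalkFunctor (↑U : Scheme.{u}) x).mapIso φ).toLinearEquiv) _).symm

variable {R : Type u} [CommRing R] [IsRegularRing R] (π : R →+* A) (hπ : Function.Surjective π) (I : Ideal A)

include hπ in
theorem finite_HH_of_depth (U : (Spec (CommRingCat.of A)).Opens) (hU : U = EGA4.openCompl A I)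
    (F : (↑U : Scheme.{u}).Modules) (hF : Coh.IsCoh F) (n : ℕ)
    (hdepth : ∀ x : (↑U : Scheme.{u}), SGA2.relCodim I (U.ι.base x) = 1 →
      ((n + 1 : ℕ) : ℕ∞) ≤ LocCoh.depth ((↑U : Scheme.{u}).presheaf.stalk x) (F.presheaf.stalk x))
    (i : ℕ) (hi : i ≤ n) : Module.Finite A (Coh.HH (↑U : Scheme.{u}) F i) := by
  subst hU
  obtain ⟨N, hN, ⟨φ⟩⟩ := ZarPair.exists_tilde_restrict (R := CommRingCat.of A) (EGA4.openCompl A I) F hF.1 hF.2
  have hN' : Module.Finite A N := hN
  have hdep : ∀ p : PrimeSpectrum A, ¬ I ≤ p.asIdeal → SGA2.relCodim I p = 1 →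
      ((n + 1 : ℕ) : ℕ∞) ≤ LocCoh.depth (Localization.AtPrime p.asIdeal) (LocalizedModule p.asIdeal.primeCompl N) :=
    fun p hp hc => (hdepth ⟨p, hp⟩ hc).trans (depth_stalk_of_iso N _ F φ ⟨p, hp⟩).le
  have hfin : ∀ j, j ≤ n + 1 → Module.Finite A (LocCoh.H I j N) := fun j hj =>
    S2929.result R A π hπ I N j fun p hp c k hc hk =>
      SGA2Fin.subsingleton_H_of_le_depth π hπ I N hdep j hj p hp c k hc hk
  suffices Module.Finite A (HU' (EGA4.openCompl A I) i (ModuleCat.of A N)) by
    exact Module.Finite.equiv (M := HU' (EGA4.openCompl A I) i (ModuleCat.of A N)) (CohFinite.hhEquiv A φ i)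
  rcases i with _ | q
  · haveI := hfin 1 (by omega)
    exact finite_HU_zero I N
  · obtain ⟨e⟩ := nonempty_linearEquiv I q (ModuleCat.of A N)
    haveI : Module.Finite A ↑((localCohomology I (q + 2)).obj (ModuleCat.of A N)) := hfin (q + 2) (by omega)
    exact Module.Finite.equiv e.symm

theorem iSup_basicOpen_eq :
    (⨆ f : ↥I, (Spec (CommRingCat.of A)).basicOpen ((Scheme.ΓSpecIso (CommRingCat.of A)).inv f.1)) =
      EGA4.openCompl A I := by
  refine le_antisymm (iSup_le fun f => ?_) fun q hq => ?_
  · rw [basicOpen_eq_of_affine']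
    intro q hq hI
    refine hq ?_
    rw [Iso.inv_hom_id_apply]
    exact hI f.2
  · obtain ⟨f, hf, hfq⟩ := Set.not_subset.1 hq
    refine Opens.mem_iSup.2 ⟨⟨f, hf⟩, ?_⟩
    rw [basicOpen_eq_of_affine', Iso.inv_hom_id_apply]
    exact hfq

include hπ in
theorem toHHlim_of_depth (t : A) [IsAdicComplete (Ideal.span {t}) A] (U : (Spec (CommRingCat.of A)).Opens)
    (hU : U = EGA4.openCompl A I)
    (F : (↑U : Scheme.{u}).Modules) (hF : Coh.IsCoh F) (hreg : Mono (Formal.smulMod A F t)) (n : ℕ)
    (hdepth : ∀ x : (↑U : Scheme.{u}), SGA2.relCodim I (U.ι.base x) = 1 →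
      ((n + 1 : ℕ) : ℕ∞) ≤ LocCoh.depth ((↑U : Scheme.{u}).presheaf.stalk x) (F.presheaf.stalk x))
    (i : ℕ) : (i < n → Function.Bijective (Formal.toHHlim (Ideal.span {t}) F i)) ∧
      (i = n → Function.Injective (Formal.toHHlim (Ideal.span {t}) F i)) := by
  refine ⟨fun hi => ?_, fun hi => ?_⟩
  · haveI := finite_HH_of_depth π hπ I U hU F hF n hdepth i hi.le
    haveI := finite_HH_of_depth π hπ I U hU F hF n hdepth (i + 1) hi
    exact ⟨injective_toHHlim F t i, surjective_toHHlim F t i⟩
  · haveI := finite_HH_of_depth π hπ I U hU F hF n hdepth i hi.le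
    exact injective_toHHlim F t i

end

end Groth.Agent.FormAlg
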