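import Groth.Agent.FormAlg.Algebraize
import Groth.Agent.FormAlg.Tower
import Groth.Agent.PunctArt.Basic
import Groth.Agent.ZarPair.Bundle
import Groth.Agent.ExtShX.AffineTilde
import Groth.Agent.DCohShriek.CoherentMain

/-!
Algebraization of a tower on an open subset of an affine scheme with finite `H^0` and `H^1` at the bottom.
-/

set_option autoImplicit false
set_option maxHeartbeats 1000000
set_option linter.style.haveILetI false
set_option backward.isDefEq.respectTransparency false
set_option backward.isDefEq.respectTransparency.types false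
universe u

namespace Groth.Agent.FormAlg

open CategoryTheory CategoryTheory.Limits AlgebraicGeometry TopologicalSpace Opposite
open Groth.Agent.PunctArt (RR)

noncomputable section

variable {A : Type u} [CommRing A] {U : (Spec (CommRingCat.of A)).Opens}

/-- `H^0` as a module. -/
abbrev H0 (E : (↑U : Scheme.{u}).Modules) : ModuleCat.{u} A := ModuleCat.of A (Coh.HH (↑U : Scheme.{u}) E 0)

/-- Functoriality. -/
abbrev H0Map {E E' : (↑U : Scheme.{u}).Modules} (φ : E ⟶ E') : H0 E ⟶ H0 E' :=
  ModuleCat.ofHom (CohFinite.hhMap A φ 0)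

/-- `Γ(U, E)~|_U → E`. -/
def omegaHom (E : (↑U : Scheme.{u}).Modules) : (RR U).obj (H0 E) ⟶ E :=
  (RR U).map (W7Cech.gsH0L A E).toModuleIso.inv ≫
    (Scheme.Modules.restrictFunctor U.ι).map
      (Scheme.Modules.fromTildeΓ (R := CommRingCat.of A) ((Scheme.Modules.pushforward U.ι).obj E)) ≫
    (Scheme.Modules.restrictFunctorAdjCounitIso U.ι).hom.app E

theorem omegaHom_natural {E E' : (↑U : Scheme.{u}).Modules} (φ : E ⟶ E') :
    (RR U).map (H0Map φ) ≫ omegaHom E' = omegaHom E ≫ φ := by
  have h1 : H0Map φ ≫ (W7Cech.gsH0L A E').toModuleIso.inv =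
      (W7Cech.gsH0L A E).toModuleIso.inv ≫ (CohIII.globalSectionsA A).map φ := by
    rw [Iso.comp_inv_eq, Category.assoc, Iso.eq_inv_comp]
    exact ModuleCat.hom_ext (LinearMap.ext fun x => (W7Cech.gsH0_natural A φ x).symm)
  have h2 : (Scheme.Modules.restrictFunctor U.ι).map ((tilde.functor (CommRingCat.of A)).map ((CohIII.globalSectionsA A).map φ)) ≫
      (Scheme.Modules.restrictFunctor U.ι).map
        (Scheme.Modules.fromTildeΓ (R := CommRingCat.of A) ((Scheme.Modules.pushforward U.ι).obj E')) =
      (Scheme.Modules.restrictFunctor U.ι).map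
        (Scheme.Modules.fromTildeΓ (R := CommRingCat.of A) ((Scheme.Modules.pushforward U.ι).obj E)) ≫
      (Scheme.Modules.restrictFunctor U.ι).map ((Scheme.Modules.pushforward U.ι).map φ) := by
    rw [← Functor.map_comp, ← Functor.map_comp]
    exact congrArg _ ((tilde.adjunction (R := CommRingCat.of A)).counit.naturality ((Scheme.Modules.pushforward U.ι).map φ))
  have h3 := (Scheme.Modules.restrictFunctorAdjCounitIso U.ι).hom.naturality φ
  simp only [omegaHom, Category.assoc]
  rw [← Functor.map_comp_assoc, h1, Functor.map_comp_assoc]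
  refine congrArg ((RR U).map (W7Cech.gsH0L A E).toModuleIso.inv ≫ ·) ?_
  rw [Functor.comp_map, reassoc_of% h2]
  exact congrArg ((Scheme.Modules.restrictFunctor U.ι).map
    (Scheme.Modules.fromTildeΓ (R := CommRingCat.of A) ((Scheme.Modules.pushforward U.ι).obj E)) ≫ ·) h3

variable [IsNoetherianRing A]

theorem isIso_omegaHom {E : (↑U : Scheme.{u}).Modules} (hE : Coh.IsQCoh E) : IsIso (omegaHom E) := by
  haveI : E.IsQuasicoherent := hE
  haveI : ((Scheme.Modules.pushforward U.ι).obj E).IsQuasicoherent := QC.isQCoh_pushforward U.ι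
  haveI : IsIso (Scheme.Modules.fromTildeΓ (R := CommRingCat.of A) ((Scheme.Modules.pushforward U.ι).obj E)) :=
    Scheme.Modules.isIso_fromTildeΓ_of_isQuasicoherent (R := CommRingCat.of A) _
  exact @IsIso.comp_isIso _ _ _ _ _ _ _ inferInstance
    (@IsIso.comp_isIso _ _ _ _ _ _ _ inferInstance inferInstance)

omit [IsNoetherianRing A] in
theorem RR_map_smul (M : ModuleCat.{u} A) (a : A) :
    (RR U).map (a • 𝟙 M) = Formal.smulMod A ((RR U).obj M) a := by
  refine (SheafOfModules.toSheaf _).map_injective ?_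
  exact PunctArt.smulAb_RR M a

/-- Algebraization on an open subset of an affine scheme. -/
theorem algebraize_open {t : A} [IsAdicComplete (Ideal.span {t}) A] (T : Tower (↑U : Scheme.{u}) t)
    (h0 : Module.Finite A (Coh.HH (↑U : Scheme.{u}) (T.obj 0) 0))
    (h1 : Module.Finite A (Coh.HH (↑U : Scheme.{u}) (T.obj 0) 1)) :
    ∃ F : (↑U : Scheme.{u}).Modules, Coh.IsCoh F ∧ Nonempty (Formal.completion (Ideal.span {t}) F ≅ T.G) :=
  (AlgData.ofSecTower T.secTower h0 h1 (RR U) (PunctArt.preservesFiniteLimits_RR U)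
    (PunctArt.preservesFiniteColimits_RR U) RR_map_smul
    (fun N _ => DCohShriek.isCoh_restrictFunctor U.ι (ExtShX.isCoh_tilde (A := CommRingCat.of A) N))
    (fun n => omegaHom (T.obj n)) (fun n => isIso_omegaHom (T.hG.1 n).1)
    (fun h => omegaHom_natural (T.pr h))).algebraize T.hG fun h => T.epi_pr h

end

end Groth.Agent.FormAlg
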