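import Groth.Agent.PunctArt.Basic
import Groth.Agent.LocH.Transform
import Groth.Agent.LocH.TildeTorsion
import Groth.Agent.LCZ.Classes
import Groth.Agent.HTLib.USeq
import Groth.Prelude.Def_Formal2

/-!
Sections of `M~` on opens of `Spec A`; obstruction classes in `H^1_𝔞` and `H^2_𝔞` for lifting them.
-/

set_option autoImplicit false
set_option maxHeartbeats 1000000
set_option linter.style.haveILetI false
set_option backward.isDefEq.respectTransparency false
set_option backward.isDefEq.respectTransparency.types false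
universe u

namespace Groth.Agent.FormAlg

open CategoryTheory CategoryTheory.Limits AlgebraicGeometry TopologicalSpace Opposite
open Groth.Agent.LocH (Sec secOf secRes injSES injSES_shortExact)
open Groth.Agent.PunctArt (mapS mapS_secOf mapS_smul)

noncomputable section

variable {A : Type u} [CommRing A]

/-- `H^0` is sections -/
def h0 (M : Type u) [AddCommGroup M] [Module A M] (V : (Spec (CommRingCat.of A)).Opens) :
    Formal2.HV A M 0 V ≃+ Sec A M V :=
  SiteCoh.hu0 (J := Opens.grothendieckTopology (Spec (CommRingCat.of A)).toTopCat) (Coh.toAb (Formal2.tmod A M)) V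

theorem h0_res (M : Type u) [AddCommGroup M] [Module A M] {V W : (Spec (CommRingCat.of A)).Opens} (h : W ≤ V)
    (x : Formal2.HV A M 0 V) : h0 M W (Formal2.HVres A M 0 h x) = secRes A M h (h0 M V x) :=
  LCZ.res_zero_apply (X := (Spec (CommRingCat.of A)).toTopCat) h x

theorem h0_map {M N : Type u} [AddCommGroup M] [Module A M] [AddCommGroup N] [Module A N] (φ : M →ₗ[A] N)
    (V : (Spec (CommRingCat.of A)).Opens) (x : Formal2.HV A M 0 V) :
    h0 N V (Formal2.HVmap A φ 0 V x) = mapS (ModuleCat.ofHom φ) V (h0 M V x) := by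
  obtain ⟨ψ, rfl⟩ := (Abelian.Ext.mk₀_bijective _ _).2 x
  have key : Abelian.Ext.addEquiv₀ (Formal2.HVmap A φ 0 V (Abelian.Ext.mk₀ ψ)) =
      ψ ≫ (SheafOfModules.toSheaf _).map (Formal2.tmodMap A φ) :=
    Abelian.Ext.addEquiv₀.symm.injective
      ((Abelian.Ext.addEquiv₀.symm_apply_apply _).trans
        (Abelian.Ext.mk₀_comp_mk₀ ψ ((SheafOfModules.toSheaf _).map (Formal2.tmodMap A φ))))
  show SiteCoh.secEquiv V _ (Abelian.Ext.addEquiv₀ (Formal2.HVmap A φ 0 V (Abelian.Ext.mk₀ ψ))) =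
    mapS (ModuleCat.ofHom φ) V (show Sec A M V from SiteCoh.secEquiv V _ (Abelian.Ext.addEquiv₀ (Abelian.Ext.mk₀ ψ)))
  refine (congrArg (SiteCoh.secEquiv V _) key).trans ((SiteCoh.secEquiv_comp ψ _).trans ?_)
  exact congrArg (fun z => mapS (ModuleCat.ofHom φ) V (show Sec A M V from SiteCoh.secEquiv V _ z))
    (Abelian.Ext.addEquiv₀.apply_symm_apply ψ).symm

theorem secRes_mapS {X Y : ModuleCat.{u} A} (f : X ⟶ Y) {V W : (Spec (CommRingCat.of A)).Opens} (h : W ≤ V)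
    (s : Sec A X V) : secRes A Y h (mapS f V s) = mapS f W (secRes A X h s) :=
  (ConcreteCategory.congr_hom ((modulesSpecToSheaf.map (tilde.map (R := CommRingCat.of A) f)).hom.naturality
    (homOfLE h).op) s).symm

theorem mapS_comp {X Y Z : ModuleCat.{u} A} (f : X ⟶ Y) (g : Y ⟶ Z) (V : (Spec (CommRingCat.of A)).Opens)
    (s : Sec A X V) : mapS (f ≫ g) V s = mapS g V (mapS f V s) := by
  show ((modulesSpecToSheaf.map ((tilde.functor (CommRingCat.of A)).map (f ≫ g))).hom.app (op V)).hom s = _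
  rw [Functor.map_comp, Functor.map_comp]
  rfl

theorem mapS_id (X : ModuleCat.{u} A) (V : (Spec (CommRingCat.of A)).Opens) (s : Sec A X V) :
    mapS (𝟙 X) V s = s := by
  refine (congrArg (fun φ => (modulesSpecToSheaf.map φ).hom.app (op V) s)
    ((tilde.functor (CommRingCat.of A)).map_id X)).trans ?_
  exact congrArg (fun φ => φ.hom.app (op V) s) (modulesSpecToSheaf.map_id _)

theorem mapS_zero {X Y : ModuleCat.{u} A} (V : (Spec (CommRingCat.of A)).Opens) (s : Sec A X V) :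
    mapS (0 : X ⟶ Y) V s = 0 := by
  rw [show (0 : X ⟶ Y) = (0 : X ⟶ Y) ≫ ((0 : A) • 𝟙 Y) from zero_comp.symm, mapS_comp, mapS_smul, zero_smul]

theorem mapS_smul_hom {X Y : ModuleCat.{u} A} (r : A) (f : X ⟶ Y) (V : (Spec (CommRingCat.of A)).Opens)
    (s : Sec A X V) : mapS (r • f) V s = r • mapS f V s := by
  rw [show r • f = f ≫ (r • 𝟙 Y) by rw [Linear.comp_smul, Category.comp_id], mapS_comp, mapS_smul]

section LeftExact

variable {S : ShortComplex (ModuleCat.{u} A)} (hS : S.ShortExact) (V : (Spec (CommRingCat.of A)).Opens)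

include hS in
theorem mapS_f_injective : Function.Injective (mapS S.f V) := fun a b h => by
  refine (PunctArt.sec0 V S.X₁).injective (PunctArt.mapH_f_injective hS ?_)
  rw [← PunctArt.sec0_natural, ← PunctArt.sec0_natural, h]

include hS in
theorem exists_of_mapS_g {s : Sec A S.X₂ V} (h : mapS S.g V s = 0) : ∃ t, mapS S.f V t = s := by
  obtain ⟨y, hy⟩ := (PunctArt.mapH_g_eq_zero_iff hS 0 (PunctArt.sec0 V S.X₂ s)).1 (by
    rw [← PunctArt.sec0_natural, h, map_zero])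
  obtain ⟨t, rfl⟩ := (PunctArt.sec0 V S.X₁).surjective y
  exact ⟨t, (PunctArt.sec0 V S.X₂).injective (by rw [PunctArt.sec0_natural, hy])⟩

end LeftExact

variable (𝔞 : Ideal A)

local notation "U𝔞" => EGA4.openCompl A 𝔞

theorem secOf_eq_zero_iff [IsNoetherianRing A] {X : ModuleCat.{u} A} (x : X) :
    secOf A X U𝔞 x = 0 ↔ x ∈ DRing.torsionSub 𝔞 X :=
  (LocH.secOf_openCompl_eq_zero_iff 𝔞 x).trans (LocH.mem_torsionSub_iff_forall_pow 𝔞 x).symm

theorem sec_eq_zero_of_torsion {X : ModuleCat.{u} A} {s : Sec A X U𝔞}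
    (hs : s ∈ DRing.torsionSub 𝔞 (Sec A X U𝔞)) : s = 0 :=
  ((congrArg (fun φ => φ s) ((LocH.secSheaf A X).obj.map_id (op U𝔞))).symm.trans
    (LocH.res_eq_zero_of_torsion 𝔞 (le_refl U𝔞) le_rfl hs) : _)

variable [IsNoetherianRing A]

/-- Sections of an injective module come from the module. -/
theorem surjective_secOf_injective (E : ModuleCat.{u} A) [Injective E] :
    Function.Surjective (secOf A E U𝔞) := by
  intro s
  obtain ⟨n, hn⟩ := LocH.isPowerTorsion_coker (M := E) 𝔞 (Submodule.Quotient.mk s)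
  have hmem : ∀ a : ↥(𝔞 ^ n), ∃ e : E, secOf A E U𝔞 e = (a : A) • s := fun a =>
    (Submodule.Quotient.mk_eq_zero _).1 ((Submodule.Quotient.mk_smul _ _ _).trans (hn a a.2))
  haveI : Module.Injective A E := Module.injective_module_of_injective_object A _ (inj := inferInstance)
  haveI : Module.Injective A ↥(DRing.torsionSub 𝔞 E) := by
    have h := InjHull.injective_iSup_torsionBySet (R := A) E 𝔞
    have e : (⨆ m : ℕ, Submodule.torsionBySet A E ((𝔞 ^ m : Ideal A) : Set A)) = DRing.torsionSub 𝔞 E :=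
      Submodule.ext fun x => InjHull.mem_iSup_torsionBySet_iff 𝔞 x
    rwa [e] at h
  obtain ⟨p, hp⟩ := Module.Injective.out (DRing.torsionSub 𝔞 E).subtype (Submodule.injective_subtype _) LinearMap.id
  let pr : E →ₗ[A] E := LinearMap.id - (DRing.torsionSub 𝔞 E).subtype.comp p
  have hpr0 : ∀ x ∈ DRing.torsionSub 𝔞 E, pr x = 0 := fun x hx => by
    show x - ((p x : _) : E) = 0
    rw [show p x = ⟨x, hx⟩ from hp ⟨x, hx⟩, sub_self]
  have hpr : ∀ x, secOf A E U𝔞 (pr x) = secOf A E U𝔞 x := fun x => by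
    show secOf A E U𝔞 (x - ((p x : _) : E)) = _
    rw [map_sub, (secOf_eq_zero_iff 𝔞 _).2 (p x).2, sub_zero]
  choose g hg using hmem
  have hcong : ∀ x y : E, secOf A E U𝔞 x = secOf A E U𝔞 y → pr x = pr y := fun x y h => by
    rw [← sub_eq_zero, ← map_sub]
    exact hpr0 _ ((secOf_eq_zero_iff 𝔞 _).1 (by rw [map_sub, h, sub_self]))
  let f : ↥(𝔞 ^ n) →ₗ[A] E :=
    { toFun := fun a => pr (g a)
      map_add' := fun a b => by
        rw [← map_add]
        exact hcong _ _ (by rw [map_add, hg, hg, hg, Submodule.coe_add, add_smul])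
      map_smul' := fun r a => by
        rw [RingHom.id_apply, ← map_smul]
        exact hcong _ _ (by rw [map_smul, hg, hg, Submodule.coe_smul, smul_eq_mul, mul_smul]) }
  obtain ⟨F, hF⟩ := Module.Injective.out (Submodule.subtype (𝔞 ^ n : Ideal A)) (Submodule.injective_subtype _) f
  refine ⟨F 1, sub_eq_zero.1 (sec_eq_zero_of_torsion 𝔞 ⟨n, fun a ha => ?_⟩)⟩
  rw [smul_sub, sub_eq_zero, ← map_smul, ← map_smul, smul_eq_mul, mul_one]
  have h1 : F a = pr (g ⟨a, ha⟩) := hF ⟨a, ha⟩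
  rw [h1, hpr, hg]

/-- `w ∈ H^1_𝔞(X)` is the class of the section `s`. -/
def Cls {X : ModuleCat.{u} A} (s : Sec A X U𝔞) (w : ↑((localCohomology 𝔞 1).obj X)) : Prop :=
  ∃ (e : (injSES X).X₂) (he : (injSES X).g e ∈ DRing.torsionSub 𝔞 (injSES X).X₃),
    secOf A (injSES X).X₂ U𝔞 e = mapS (injSES X).f U𝔞 s ∧
      w = LocH.delta (injSES_shortExact X) 0 ((LocH.zeroIso 𝔞).inv.app (injSES X).X₃ ⟨(injSES X).g e, he⟩)

variable {𝔞} {X Y : ModuleCat.{u} A}

theorem exists_cls (s : Sec A X U𝔞) : ∃ w, Cls 𝔞 s w := by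
  haveI : Injective (injSES X).X₂ := inferInstanceAs (Injective (Injective.under X))
  obtain ⟨e, he⟩ := surjective_secOf_injective 𝔞 (injSES X).X₂ (mapS (injSES X).f U𝔞 s)
  refine ⟨_, e, (secOf_eq_zero_iff 𝔞 _).1 ?_, he, rfl⟩
  rw [← mapS_secOf, he, ← mapS_comp, (injSES X).zero, mapS_zero]

theorem exists_sec_cls (w : ↑((localCohomology 𝔞 1).obj X)) : ∃ s : Sec A X U𝔞, Cls 𝔞 s w := by
  haveI : Injective (injSES X).X₂ := inferInstanceAs (Injective (Injective.under X))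
  haveI : Subsingleton ↑((localCohomology 𝔞 (0 + 1)).obj (injSES X).X₂) :=
    LocH.subsingleton_of_injective (injSES X).X₂ 0
  obtain ⟨y, rfl⟩ := LocH.exact₁ (injSES_shortExact X) 0 (x := w) (Subsingleton.elim _ _)
  obtain ⟨e, he⟩ := (ModuleCat.epi_iff_surjective _).1 (injSES_shortExact X).epi_g ((LocH.zeroIso 𝔞).hom.app _ y).1
  have hmem : (injSES X).g e ∈ DRing.torsionSub 𝔞 (injSES X).X₃ := he.symm ▸ ((LocH.zeroIso 𝔞).hom.app _ y).2
  obtain ⟨s, hs⟩ := exists_of_mapS_g (injSES_shortExact X) U𝔞 (s := secOf A (injSES X).X₂ U𝔞 e) (by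
    rw [mapS_secOf]
    exact (secOf_eq_zero_iff 𝔞 _).2 hmem)
  refine ⟨s, e, hmem, hs.symm, congrArg _ ?_⟩
  rw [show (⟨(injSES X).g e, hmem⟩ : DRing.torsionSub 𝔞 (injSES X).X₃) = (LocH.zeroIso 𝔞).hom.app _ y from Subtype.ext he]
  exact (((LocH.zeroIso 𝔞).app _).toLinearEquiv.symm_apply_apply y).symm

/-- the map of embeddings into injectives -/
def injMap (f : X ⟶ Y) : injSES X ⟶ injSES Y :=
  haveI : Mono (Injective.ι X) := Injective.ι_mono X
  haveI : Injective (injSES Y).X₂ := inferInstanceAs (Injective (Injective.under Y))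
  { τ₁ := f
    τ₂ := Injective.factorThru (f ≫ Injective.ι Y) (Injective.ι X)
    τ₃ := ModuleCat.ofHom (Submodule.mapQ _ _ (Injective.factorThru (f ≫ Injective.ι Y) (Injective.ι X)).hom (by
      rintro _ ⟨x, rfl⟩
      exact ⟨f.hom x, congrArg (fun φ => φ.hom x) (Injective.comp_factorThru (f ≫ Injective.ι Y) (Injective.ι X)).symm⟩))
    comm₁₂ := (Injective.comp_factorThru (f ≫ Injective.ι Y) (Injective.ι X)).symm
    comm₂₃ := rfl }

theorem Cls.map {s : Sec A X U𝔞} {w : ↑((localCohomology 𝔞 1).obj X)} (h : Cls 𝔞 s w) (f : X ⟶ Y) :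
    Cls 𝔞 (mapS f U𝔞 s) ((localCohomology 𝔞 1).map f w) := by
  obtain ⟨e, he, hs, rfl⟩ := h
  let τ := injMap f
  have hc : (injSES Y).g (τ.τ₂ e) = τ.τ₃ ((injSES X).g e) := congrArg (fun φ => φ.hom e) τ.comm₂₃
  refine ⟨τ.τ₂ e, hc ▸ DRing.map_mem_torsionSub 𝔞 τ.τ₃.hom he, ?_, ?_⟩
  · refine (mapS_secOf _ _ e).symm.trans ((congrArg (mapS τ.τ₂ U𝔞) hs).trans ?_)
    refine ((mapS_comp _ _ _ s).symm.trans ?_).trans (mapS_comp _ _ _ s)
    exact congrArg (fun φ => mapS φ U𝔞 s) τ.comm₁₂.symm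
  · refine (HTLib.delta_natural (injSES_shortExact X) (injSES_shortExact Y) τ 𝔞 0
      ((LocH.zeroIso 𝔞).inv.app (injSES X).X₃ ⟨(injSES X).g e, he⟩)).trans ?_
    refine congrArg _ ((LocH.zero_map_apply τ.τ₃ _).trans ?_)
    exact congrArg _ (Subtype.ext hc.symm)

theorem Cls.sub {s s' : Sec A X U𝔞} {w w' : ↑((localCohomology 𝔞 1).obj X)} (h : Cls 𝔞 s w) (h' : Cls 𝔞 s' w') :
    Cls 𝔞 (s - s') (w - w') := by
  obtain ⟨e, he, hs, rfl⟩ := h
  obtain ⟨e', he', hs', rfl⟩ := h'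
  have hc : (injSES X).g (e - e') = (injSES X).g e - (injSES X).g e' := map_sub (injSES X).g.hom e e'
  refine ⟨e - e', hc ▸ sub_mem he he', by rw [map_sub, map_sub, hs, hs'], ?_⟩
  refine (map_sub _ _ _).symm.trans (congrArg _ ?_)
  exact (map_sub _ _ _).symm.trans (congrArg _ (Subtype.ext hc.symm))

theorem Cls.mem_range {s : Sec A X U𝔞} (h : Cls 𝔞 s 0) : s ∈ LinearMap.range (secOf A X U𝔞) := by
  obtain ⟨e, he, hs, h0⟩ := h
  obtain ⟨y, hy⟩ := LocH.exact₃ (injSES_shortExact X) 0 h0.symm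
  let e' := (LocH.zeroIso 𝔞).hom.app (injSES X).X₂ y
  have hy' : (injSES X).g e'.1 = (injSES X).g e := by
    have h1 := (LocH.zero_map_apply (I := 𝔞) (injSES X).g e').symm
    rw [show (LocH.zeroIso 𝔞).inv.app _ e' = y from ((LocH.zeroIso 𝔞).app _).toLinearEquiv.symm_apply_apply y, hy] at h1
    exact congrArg Subtype.val ((((LocH.zeroIso 𝔞).app (injSES X).X₃).toLinearEquiv.symm.injective) h1)
  obtain ⟨m, hm⟩ := (ShortComplex.moduleCat_exact_iff _).1 (injSES_shortExact X).exact (e - e'.1)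
    (by rw [map_sub, hy', sub_self])
  refine ⟨m, mapS_f_injective (injSES_shortExact X) U𝔞 ?_⟩
  refine (mapS_secOf _ _ m).trans ((congrArg (secOf A _ U𝔞) hm).trans ?_)
  rw [map_sub, hs, (secOf_eq_zero_iff 𝔞 e'.1).2 e'.2, sub_zero]

theorem mem_range_of_map_one (f : X ⟶ Y) (h : (localCohomology 𝔞 1).map f = 0) (s : Sec A X U𝔞) :
    mapS f U𝔞 s ∈ LinearMap.range (secOf A Y U𝔞) := by
  obtain ⟨w, hw⟩ := exists_cls s
  refine Cls.mem_range ?_
  have h1 := hw.map f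
  rwa [h] at h1

theorem exists_lift_of_map_two {S₁ S₂ : ShortComplex (ModuleCat.{u} A)} (h₁ : S₁.ShortExact) (h₂ : S₂.ShortExact)
    (τ : S₁ ⟶ S₂) (h : (localCohomology 𝔞 2).map τ.τ₁ = 0) (s : Sec A S₁.X₃ U𝔞) :
    ∃ z, mapS S₂.g U𝔞 z = mapS τ.τ₃ U𝔞 s := by
  obtain ⟨w, hw⟩ := exists_cls s
  have h1 : LocH.delta h₂ 1 ((localCohomology 𝔞 1).map τ.τ₃ w) = 0 := by
    rw [← HTLib.delta_natural h₁ h₂ τ, h]
    rfl
  obtain ⟨v, hv⟩ := LocH.exact₃ h₂ 1 h1
  obtain ⟨z, hz⟩ := exists_sec_cls v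
  have h3 := (hw.map τ.τ₃).sub (hz.map S₂.g)
  rw [hv, sub_self] at h3
  obtain ⟨m, hm⟩ := h3.mem_range
  obtain ⟨m', rfl⟩ := (ModuleCat.epi_iff_surjective _).1 h₂.epi_g m
  refine ⟨z + secOf A S₂.X₂ U𝔞 m', ?_⟩
  rw [map_add, mapS_secOf, hm]
  abel

end

end Groth.Agent.FormAlg
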