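import Groth.Agent.FormAlg.LocFreeFormal
import Groth.Agent.FormAlg.HomFullGen
import Groth.Agent.FormAlg.Sect
import Groth.Agent.FormAlg.OpenModel

/-!
Formal sections of `M~` on an open of `Spec A`, in the two formulations; full faithfulness of completion there.
-/

set_option autoImplicit false
set_option maxHeartbeats 1000000
set_option linter.style.haveILetI false
set_option backward.isDefEq.respectTransparency false
set_option backward.isDefEq.respectTransparency.types false
universe u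

namespace Groth.Agent.FormAlg

open CategoryTheory CategoryTheory.Limits AlgebraicGeometry TopologicalSpace Opposite
open Groth.Agent.PunctArt (RR sec0 sec0_natural mapS)

noncomputable section

/-- Formal sections of isomorphic modules. -/
theorem bijective_toHHlim_congr {A : Type u} [CommRing A] {X : Scheme.{u}} [X.Over (Spec (CommRingCat.of A))]
    (I : Ideal A) {F G : X.Modules} (e : F ≅ G) (h : Function.Bijective (Formal.toHHlim I F 0)) :
    Function.Bijective (Formal.toHHlim I G 0) := by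
  obtain ⟨s, hs⟩ := W7Rees.exists_zero_natural (X := X)
  have hd : ∀ n, ∃ d : Formal.modPow I (n + 1) F ≅ Formal.modPow I (n + 1) G,
      Formal.modPowπ I (n + 1) F ≫ d.hom = e.hom ≫ Formal.modPowπ I (n + 1) G := fun n => by
    obtain ⟨d, hd⟩ := W7Exist.exists_desc_modPow I (n + 1) (e.hom ≫ Formal.modPowπ I (n + 1) G) fun a ha => by
      rw [← Category.assoc, W7Cech.smulMod_natural, Category.assoc, W7Exist.smulMod_π I (n + 1) G a ha, comp_zero]
    obtain ⟨d', hd'⟩ := W7Exist.exists_desc_modPow I (n + 1) (e.inv ≫ Formal.modPowπ I (n + 1) F) fun a ha => by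
      rw [← Category.assoc, W7Cech.smulMod_natural, Category.assoc, W7Exist.smulMod_π I (n + 1) F a ha, comp_zero]
    refine ⟨⟨d, d', ?_, ?_⟩, hd⟩
    · haveI : Epi (Formal.modPowπ I (n + 1) F) := inferInstanceAs (Epi (cokernel.π _))
      rw [← cancel_epi (Formal.modPowπ I (n + 1) F), ← Category.assoc, hd, Category.assoc, hd', Iso.hom_inv_id_assoc,
        Category.comp_id]
    · haveI : Epi (Formal.modPowπ I (n + 1) G) := inferInstanceAs (Epi (cokernel.π _))
      rw [← cancel_epi (Formal.modPowπ I (n + 1) G), ← Category.assoc, hd', Category.assoc, hd, Iso.inv_hom_id_assoc,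
        Category.comp_id]
  choose d hd using hd
  have ht : ∀ n, Formal.modPowTrans I (n + 1) G ≫ (d n).inv = (d (n + 1)).inv ≫ Formal.modPowTrans I (n + 1) F :=
    fun n => by
    rw [Iso.comp_inv_eq, Category.assoc, Iso.eq_inv_comp]
    haveI : Epi (Formal.modPowπ I (n + 1 + 1) F) := inferInstanceAs (Epi (cokernel.π _))
    rw [← cancel_epi (Formal.modPowπ I (n + 1 + 1) F), ← Category.assoc, hd, Category.assoc, ← Category.assoc
      (Formal.modPowπ I (n + 1 + 1) F), Formal.modPowπ_trans, Formal.modPowπ_trans, hd]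
  have hcomp : ∀ {P Q R : X.Modules} (f : P ⟶ Q) (g : Q ⟶ R) (x : Coh.HH X P 0),
      Sheaf.H.map ((SheafOfModules.toSheaf _).map g) 0 (Sheaf.H.map ((SheafOfModules.toSheaf _).map f) 0 x) =
        Sheaf.H.map ((SheafOfModules.toSheaf _).map (f ≫ g)) 0 x := fun f g x => Formal.HHmap_comp f g 0 x
  let em : ∀ {P Q : X.Modules}, (P ⟶ Q) → Coh.HH X P 0 → Coh.HH X Q 0 := fun f x =>
    Sheaf.H.map ((SheafOfModules.toSheaf _).map f) 0 x
  have hinj : ∀ {P Q : X.Modules} (i : P ≅ Q), Function.Injective (em i.hom) := fun {P Q} i x y hxy => by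
    refine (s P).injective ?_
    have h1 : i.hom.app ⊤ (s P x) = i.hom.app ⊤ (s P y) := by
      rw [← hs, ← hs]
      exact congrArg (s Q) hxy
    have h2 := congrArg (i.inv.app ⊤) h1
    rwa [← ConcreteCategory.comp_apply, ← ConcreteCategory.comp_apply, ← Scheme.Modules.Hom.comp_app,
      Iso.hom_inv_id] at h2
  refine ⟨fun x y hxy => hinj e.symm (h.1 (Subtype.ext (funext fun n => hinj (d n) ?_))), fun Y => ?_⟩
  · show em (d n).hom (Sheaf.H.map _ 0 (em e.inv x)) = em (d n).hom (Sheaf.H.map _ 0 (em e.inv y))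
    simp only [em, hcomp]
    rw [show (e.inv ≫ Formal.modPowπ I (n + 1) F) ≫ (d n).hom = Formal.modPowπ I (n + 1) G by
      rw [Category.assoc, hd, Iso.inv_hom_id_assoc]]
    exact congrFun (congrArg Subtype.val hxy) n
  · obtain ⟨x, hx⟩ := h.2 ⟨fun n => em (d n).inv (Y.1 n), fun n => by
      show Sheaf.H.map _ 0 (em (d (n + 1)).inv (Y.1 (n + 1))) = _
      simp only [em, hcomp]
      rw [← ht, ← hcomp]
      exact congrArg _ (Y.2 n)⟩
    refine ⟨em e.hom x, Subtype.ext (funext fun n => hinj (d n).symm ?_)⟩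
    show em (d n).inv (Sheaf.H.map _ 0 (em e.hom x)) = em (d n).inv (Y.1 n)
    refine Eq.trans ?_ (congrFun (congrArg Subtype.val hx) n)
    show em (d n).inv (Sheaf.H.map _ 0 (em e.hom x)) = Sheaf.H.map _ 0 x
    simp only [em, hcomp]
    rw [show (e.hom ≫ Formal.modPowπ I (n + 1) G) ≫ (d n).inv = Formal.modPowπ I (n + 1) F by
      rw [← hd, Category.assoc, Iso.hom_inv_id, Category.comp_id]]

variable {A : Type u} [CommRing A] [IsNoetherianRing A] (I : Ideal A) (U : (Spec (CommRingCat.of A)).Opens)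
  (M : ModuleCat.{u} A)

/-- `M~/I^nM~ = (M/I^nM)~` on an open. -/
theorem exists_RR_modPow_iso (n : ℕ) :
    ∃ κ : Formal.modPow I n ((RR U).obj M) ≅ (RR U).obj (ModuleCat.of A (M ⧸ (I ^ n • (⊤ : Submodule A M)))),
      Formal.modPowπ I n ((RR U).obj M) ≫ κ.hom =
        (RR U).map (ModuleCat.ofHom (I ^ n • (⊤ : Submodule A M)).mkQ) := by
  obtain ⟨r, g, hg⟩ := Submodule.fg_iff_exists_fin_generating_family.1 (IsNoetherian.noetherian (I ^ n))
  let P := ModuleCat.of A (Fin r → M)
  let p : ∀ i, P ⟶ M := fun i => ModuleCat.ofHom (LinearMap.proj i)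
  let f : P ⟶ M := ∑ i, g i • p i
  let q : M ⟶ ModuleCat.of A (M ⧸ (I ^ n • (⊤ : Submodule A M))) :=
    ModuleCat.ofHom (I ^ n • (⊤ : Submodule A M)).mkQ
  have hf : ∀ v : Fin r → M, f.hom v = ∑ i, g i • v i := fun v => by
    simp only [f, ModuleCat.hom_sum, ModuleCat.hom_smul, LinearMap.coe_sum, Finset.sum_apply, LinearMap.smul_apply]
    rfl
  have hgI : ∀ i, g i ∈ I ^ n := fun i => hg ▸ Submodule.subset_span ⟨i, rfl⟩
  have hfq : f ≫ q = 0 := ModuleCat.hom_ext (LinearMap.ext fun v => by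
    show Submodule.Quotient.mk (f.hom v) = 0
    rw [hf, Submodule.Quotient.mk_eq_zero]
    exact Submodule.sum_mem _ fun i _ => Submodule.smul_mem_smul (hgI i) trivial)
  have hex : (ShortComplex.mk f q hfq).Exact := (ShortComplex.moduleCat_exact_iff _).2 fun x hx => by
    have hx' : x ∈ I ^ n • (⊤ : Submodule A M) := (Submodule.Quotient.mk_eq_zero _).1 hx
    suffices h : I ^ n • (⊤ : Submodule A M) ≤ LinearMap.range f.hom from h hx'
    rw [← hg, Submodule.smul_le]
    intro a ha y _
    refine Submodule.span_induction (p := fun a _ => a • y ∈ LinearMap.range f.hom) ?_ ?_ ?_ ?_ ha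
    · rintro _ ⟨i, rfl⟩
      refine ⟨Pi.single i y, ?_⟩
      rw [hf, Finset.sum_eq_single i]
      · rw [Pi.single_eq_same]
      · intro j _ hj
        rw [Pi.single_eq_of_ne hj, smul_zero]
      · exact fun h => absurd (Finset.mem_univ i) h
    · rw [zero_smul]; exact zero_mem _
    · intro a b _ _ ha hb; rw [add_smul]; exact add_mem ha hb
    · intro c a _ ha; rw [smul_eq_mul, mul_smul]; exact Submodule.smul_mem _ c ha
  haveI : Epi q := (ModuleCat.epi_iff_surjective _).2 (Submodule.mkQ_surjective _)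
  haveI hqe : Epi ((RR U).map q) := Functor.map_epi _ _
  have hS := hex.map (RR U)
  haveI : Epi ((ShortComplex.mk f q hfq).map (RR U)).g := hqe
  let π := Formal.modPowπ I n ((RR U).obj M)
  haveI : Epi π := inferInstanceAs (Epi (cokernel.π _))
  have hfπ : (RR U).map f ≫ π = 0 := by
    simp only [f, Functor.map_sum, Preadditive.sum_comp]
    refine Finset.sum_eq_zero fun i _ => ?_
    rw [show g i • p i = p i ≫ (g i • 𝟙 M) by rw [Linear.comp_smul, Category.comp_id], Functor.map_comp,
      RR_map_smul, Category.assoc, W7Exist.smulMod_π I n _ _ (hgI i), comp_zero]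
  obtain ⟨d, hd⟩ := W7Exist.exists_desc_modPow I n ((RR U).map q) fun a ha => by
    rw [← RR_map_smul, ← Functor.map_comp]
    refine (congrArg (RR U).map (ModuleCat.hom_ext (LinearMap.ext fun m => ?_))).trans ((RR U).map_zero _ _)
    exact (Submodule.Quotient.mk_eq_zero _).2 (Submodule.smul_mem_smul ha trivial)
  obtain ⟨d', hd'⟩ : ∃ d', (RR U).map q ≫ d' = π :=
    ⟨hS.desc π hfπ, hS.g_desc π hfπ⟩
  refine ⟨⟨d, d', ?_, ?_⟩, hd⟩
  · rw [← cancel_epi π, ← Category.assoc, hd, hd', Category.comp_id]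
  · rw [← cancel_epi ((RR U).map q), ← Category.assoc, hd', hd, Category.comp_id]

/-- The two formulations of formal sections agree. -/
theorem bijective_toHHlim_RR (h : Formal2.FormalCohBijective A I M 0 U) :
    Function.Bijective (Formal.toHHlim I ((RR U).obj M) 0) := by
  choose κ hκ using fun n => exists_RR_modPow_iso I U M (n + 1)
  let Φ : Coh.HH (↑U : Scheme.{u}) ((RR U).obj M) 0 ≃+ Formal2.HV A M 0 U :=
    ((h0 M U).trans (sec0 U M)).symm
  let Ψ : ∀ n, Formal2.HV A (Formal2.quotPow A I M n) 0 U ≃+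
      Coh.HH (↑U : Scheme.{u}) ((RR U).obj (ModuleCat.of A (Formal2.quotPow A I M n))) 0 := fun n =>
    (h0 (Formal2.quotPow A I M n) U).trans (sec0 U (ModuleCat.of A (Formal2.quotPow A I M n)))
  have hΨ : ∀ n (x : Formal2.HV A M 0 U), Ψ n (Formal2.HVmap A (Formal2.quotPowπ A I M n) 0 U x) =
      Sheaf.H.map ((SheafOfModules.toSheaf _).map ((RR U).map (ModuleCat.ofHom
        (I ^ (n + 1) • (⊤ : Submodule A M)).mkQ))) 0 (Φ.symm x) := fun n x => by
    show sec0 U _ (h0 _ U _) = _
    rw [h0_map, sec0_natural]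
    rfl
  have hT : ∀ n (y : Formal2.HV A (Formal2.quotPow A I M (n + 1)) 0 U),
      Ψ n (Formal2.HVmap A (Formal2.quotPowTrans A I M n) 0 U y) =
      Sheaf.H.map ((SheafOfModules.toSheaf _).map ((RR U).map (ModuleCat.ofHom (Formal2.quotPowTrans A I M n)))) 0
        (Ψ (n + 1) y) := fun n y => by
    show sec0 U _ (h0 _ U _) = _
    rw [h0_map, sec0_natural]
    rfl
  have hcomp : ∀ {P Q R : (↑U : Scheme.{u}).Modules} (f : P ⟶ Q) (g : Q ⟶ R) (x : Coh.HH (↑U : Scheme.{u}) P 0),
      Sheaf.H.map ((SheafOfModules.toSheaf _).map g) 0 (Sheaf.H.map ((SheafOfModules.toSheaf _).map f) 0 x) =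
        Sheaf.H.map ((SheafOfModules.toSheaf _).map (f ≫ g)) 0 x := fun f g x => Formal.HHmap_comp f g 0 x
  have htr : ∀ n, (κ (n + 1)).hom ≫ (RR U).map (ModuleCat.ofHom (Formal2.quotPowTrans A I M n)) =
      Formal.modPowTrans I (n + 1) ((RR U).obj M) ≫ (κ n).hom := fun n => by
    haveI : Epi (Formal.modPowπ I (n + 1 + 1) ((RR U).obj M)) := inferInstanceAs (Epi (cokernel.π _))
    rw [← cancel_epi (Formal.modPowπ I (n + 1 + 1) ((RR U).obj M)), ← Category.assoc, hκ, ← Category.assoc,
      Formal.modPowπ_trans, hκ, ← Functor.map_comp]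
    rfl
  have hπ : ∀ n x, Sheaf.H.map ((SheafOfModules.toSheaf _).map (κ n).hom) 0
      ((Formal.toHHlim I ((RR U).obj M) 0 x).1 n) = Ψ n (Formal2.HVmap A (Formal2.quotPowπ A I M n) 0 U (Φ x)) :=
    fun n x => by
    rw [hΨ, AddEquiv.symm_apply_apply, ← hκ n]
    exact hcomp _ _ x
  refine ⟨fun x x' hx => Φ.injective (h.1 _ _ fun n => (Ψ n).injective ?_), fun Y => ?_⟩
  · rw [← hπ, ← hπ, hx]
  · obtain ⟨x, hx⟩ := h.2 (fun n => (Ψ n).symm (Sheaf.H.map ((SheafOfModules.toSheaf _).map (κ n).hom) 0 (Y.1 n)))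
      fun n => (Ψ n).injective (by
        rw [hT, AddEquiv.apply_symm_apply, AddEquiv.apply_symm_apply, hcomp, htr, ← hcomp]
        exact congrArg _ (Y.2 n))
    refine ⟨Φ.symm x, Subtype.ext (funext fun n => ?_)⟩
    have h2 := hπ n (Φ.symm x)
    rw [AddEquiv.apply_symm_apply, hx n, AddEquiv.apply_symm_apply] at h2
    have h3 := congrArg (Sheaf.H.map ((SheafOfModules.toSheaf _).map (κ n).inv) 0) h2
    rw [hcomp, hcomp, Iso.hom_inv_id] at h3
    have hid : ∀ z, Sheaf.H.map ((SheafOfModules.toSheaf _).map (𝟙 (Formal.modPow I (n + 1) ((RR U).obj M)))) 0 z = z :=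
      fun z => CohFinite.hhMap_id (A := A) _ 0 z
    rwa [hid, hid] at h3

/-- Completion is fully faithful on finite locally free modules of an open of an affine scheme. -/
theorem completion_full_open (h : Formal2.FormalCohBijective A I A 0 U) (E E' : (↑U : Scheme.{u}).Modules)
    (hE : FlatMod.IsFinLocFree E) (hE' : FlatMod.IsFinLocFree E')
    (ψ : Formal.completion I E ⟶ Formal.completion I E') :
    ∃! φ : E ⟶ E', ∀ n : ℕ, Formal.modPowπ I (n + 1) E ≫ ψ.app (op n) = φ ≫ Formal.modPowπ I (n + 1) E' := by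
  haveI : IsNoetherian (↑U : Scheme.{u}) := by
    haveI : IsLocallyNoetherian (↑U : Scheme.{u}) := LocallyOfFiniteType.isLocallyNoetherian U.ι
    haveI : CompactSpace (↑U : Scheme.{u}) := isCompact_iff_compactSpace.1
      ((inferInstance : NoetherianSpace (Spec (CommRingCat.of A))).isCompact _)
    exact ⟨⟩
  haveI : (↑U : Scheme.{u}).IsQuasiAffine := Scheme.IsQuasiAffine.of_isImmersion U.ι
  exact completion_full_locFree I (fun F hF => bijective_toHHlim_of_quasiAffine I
    (bijective_toHHlim_congr I (RRselfIso U) (bijective_toHHlim_RR I U (ModuleCat.of A A) h)) hF) hE hE' ψ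

end

end Groth.Agent.FormAlg
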