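import Groth.Agent.FormAlg.Colim
import Groth.Agent.RefStalk.Extend
import Groth.Agent.LocH.AdjDepthChange
import Groth.Agent.QC.SpecFT

/-!
`Γ(U, M~) = lim Γ(U, M/I^{n+1}M)` when moreover the depth is two away from `V(I)`.
-/

set_option autoImplicit false
set_option maxHeartbeats 1000000
set_option linter.style.haveILetI false
set_option backward.isDefEq.respectTransparency false
set_option backward.isDefEq.respectTransparency.types false
universe u

namespace Groth.Agent.FormAlg

open CategoryTheory CategoryTheory.Limits AlgebraicGeometry TopologicalSpace Opposite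
open Groth.Agent.LocH (Sec secOf secRes secRes_secOf secRes_secRes sec_ext exists_basicOpen_le)
open Groth.Agent.PunctArt (mapS)

noncomputable section

variable {A : Type u} [CommRing A] [IsNoetherianRing A] {M : Type u} [AddCommGroup M] [Module A M] [Module.Finite A M]

theorem depth_stalk_tilde (p : PrimeSpectrum A) :
    LocCoh.depth ((Spec (CommRingCat.of A)).presheaf.stalk p)
        ((tilde (R := CommRingCat.of A) (ModuleCat.of A M)).presheaf.stalk p) =
      LocCoh.depth (Localization.AtPrime p.asIdeal) (LocalizedModule p.asIdeal.primeCompl M) := by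
  letI : Algebra A ((Spec (CommRingCat.of A)).presheaf.stalk p) := StructureSheaf.stalkAlgebra A p
  haveI : IsLocalization.AtPrime ((Spec (CommRingCat.of A)).presheaf.stalk p) p.asIdeal :=
    StructureSheaf.IsLocalization.to_stalk A p
  haveI : IsNoetherianRing ((Spec (CommRingCat.of A)).presheaf.stalk p) :=
    IsLocalization.isNoetherianRing p.asIdeal.primeCompl _ inferInstance
  letI : Module A ((tilde (R := CommRingCat.of A) (ModuleCat.of A M)).presheaf.stalk p) :=
    Module.compHom _ (algebraMap A ((Spec (CommRingCat.of A)).presheaf.stalk p))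
  haveI : IsScalarTower A ((Spec (CommRingCat.of A)).presheaf.stalk p)
      ((tilde (R := CommRingCat.of A) (ModuleCat.of A M)).presheaf.stalk p) :=
    IsScalarTower.of_algebraMap_smul fun _ _ => rfl
  letI f : M →ₗ[A] (tilde (R := CommRingCat.of A) (ModuleCat.of A M)).presheaf.stalk p := StructureSheaf.toStalkₗ A M p
  haveI : IsLocalizedModule p.asIdeal.primeCompl f :=
    (inferInstance : IsLocalizedModule p.asIdeal.primeCompl (StructureSheaf.toStalkₗ A M p))
  exact LocH.depth_eq_of_isLocalizedModule M p.asIdeal _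
    (fun r => IsLocalization.map_units _ r)
    (fun a => let ⟨⟨r, s⟩, h⟩ := IsLocalization.surj p.asIdeal.primeCompl a; ⟨r, s, h⟩) _
    f

/-- Sections extend uniquely across points of depth two. -/
theorem bijective_secRes_of_depth {U V : (Spec (CommRingCat.of A)).Opens} (hVU : V ≤ U)
    (h : ∀ p ∈ U, p ∉ V → (2 : ℕ∞) ≤
      LocCoh.depth (Localization.AtPrime p.asIdeal) (LocalizedModule p.asIdeal.primeCompl M)) :
    Function.Bijective (secRes A M hVU) :=
  RefStalk.bijective_rs_of_depth (X := Spec (CommRingCat.of A))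
    (F := tilde (R := CommRingCat.of A) (ModuleCat.of A M))
    ⟨QC.isQCoh_tilde (R := CommRingCat.of A) _, QC.isFT_tilde (R := CommRingCat.of A) _⟩ hVU
    fun p hp hpV => (h p hp hpV).trans (depth_stalk_tilde p).ge

variable {I : Ideal A}

omit [IsNoetherianRing A] [Module.Finite A M] in
/-- Sections of `M/I^{n+1}M` are determined near `V(I)`. -/
theorem quot_secRes_injective {U V : (Spec (CommRingCat.of A)).Opens} (hV : Formal2.Admissible A I U V) (n : ℕ) :
    Function.Injective (secRes A (Formal2.quotPow A I M n) hV.1) := by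
  refine (injective_iff_map_eq_zero _).2 fun s hs => sec_ext fun p hp => ?_
  by_cases hpV : p ∈ V
  · obtain ⟨g, hpg, hg⟩ := exists_basicOpen_le hpV
    refine ⟨g, hg.trans hV.1, hpg, ?_⟩
    rw [map_zero, ← secRes_secRes hV.1 hg, hs, map_zero]
  · obtain ⟨b, hb, hbp⟩ := SetLike.not_le_iff_exists.1 (show ¬ I ≤ p.asIdeal from fun h => hpV (hV.2 p hp h))
    obtain ⟨g, hpg, hg⟩ := exists_basicOpen_le (show p ∈ U ⊓ PrimeSpectrum.basicOpen b from ⟨hp, hbp⟩)
    refine ⟨g, hg.trans inf_le_left, hpg, (sec_eq_zero_of_killed _ fun q hq => ?_).trans (map_zero _).symm⟩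
    refine ⟨b ^ (n + 1), fun hm => (hg hq).2 (q.isPrime.mem_of_pow_mem _ hm), fun x => ?_⟩
    refine Submodule.Quotient.induction_on _ x fun m => ?_
    rw [← Submodule.Quotient.mk_smul, Submodule.Quotient.mk_eq_zero]
    exact Submodule.smul_mem_smul (Ideal.pow_mem_pow hb _) Submodule.mem_top

/-- Bijectivity from `Alg`. -/
theorem bijective_of_alg {U : (Spec (CommRingCat.of A)).Opens} (h : Alg I M U)
    (hres : ∀ V, ∀ hV : Formal2.Admissible A I U V, Function.Bijective (secRes A M hV.1)) :
    Formal2.FormalCohBijective A I M 0 U := by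
  refine ⟨fun x x' hx => (h0 M U).injective ?_, fun y hy => ?_⟩
  · obtain ⟨V', ⟨hV', hle⟩, h0'⟩ := exists_adm_zero (I := I) (U := U) ⟨le_rfl, fun p hp _ => hp⟩
      (h0 M U x - h0 M U x') fun n => by rw [map_sub, ← h0_map, ← h0_map, hx n, sub_self]
    exact sub_eq_zero.1 ((hres V' hV').1 (h0'.trans (map_zero _).symm))
  · obtain ⟨V, hV, x, hx⟩ := h (fun n => h0 _ U (y n)) fun n => by rw [← h0_map, hy n]
    obtain ⟨z, hz⟩ := (hres V hV).2 x
    refine ⟨(h0 M U).symm z, fun n => (h0 _ U).injective (quot_secRes_injective hV n ?_)⟩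
    rw [h0_map, AddEquiv.apply_symm_apply]
    refine (secRes_mapS (qπ I M n) hV.1 z).trans ?_
    rw [hz]
    exact (hx n).symm

/-- Points of `U` off an admissible open. -/
theorem forall_mem_of_not_mem {𝔞 : Ideal A} {U V : (Spec (CommRingCat.of A)).Opens}
    (hV : Formal2.Admissible A I U V) (hU : ∀ q : PrimeSpectrum A, ¬ 𝔞 ≤ q.asIdeal → q ∈ U) {p : PrimeSpectrum A}
    (hpV : p ∉ V) (r : Ideal A) (hr : r.IsPrime) (hpr : p.asIdeal ≤ r) (hIr : I ≤ r) : 𝔞 ≤ r := by
  by_contra h𝔞
  refine hpV (((PrimeSpectrum.le_iff_specializes p ⟨r, hr⟩).1 hpr).mem_open V.2 (hV.2 _ (hU ⟨r, hr⟩ h𝔞) hIr))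

end

end Groth.Agent.FormAlg
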