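import Groth.Agent.AmpleDesc.Basic
import Groth.Agent.Purity.DepthApps
import Groth.Agent.AdicBasics.Dimension
import Groth.Prelude.Def_Formal2

/-!
Pullback of invertible modules on punctured spectra along flat local maps trivial on residue fields.
-/

set_option autoImplicit false
set_option maxHeartbeats 800000
set_option linter.style.haveILetI false
set_option backward.isDefEq.respectTransparency false
set_option backward.isDefEq.respectTransparency.types false
universe u

namespace Groth.Agent.FormAlg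

open CategoryTheory CategoryTheory.Limits AlgebraicGeometry TopologicalSpace Opposite
open TMul (IsGen val homOf)

noncomputable section

/-- Injectivity for a flat local map trivial on residue fields with target of depth two. -/
theorem picPullbackInjective_punctured {A B : Type u} [CommRing A] [IsNoetherianRing A] [IsLocalRing A]
    [CommRing B] [IsNoetherianRing B] [IsLocalRing B] [Algebra A B] [Module.Flat A B]
    [IsLocalHom (algebraMap A B)]
    (hmax : IsLocalRing.maximalIdeal B = (IsLocalRing.maximalIdeal A).map (algebraMap A B))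
    (hres : ∀ b : B, ∃ a : A, b - algebraMap A B a ∈ IsLocalRing.maximalIdeal B)
    (hdepth : (2 : ℕ∞) ≤ LocCoh.depth B B) :
    Formal2.PicPullbackInjective (Spec.map (CommRingCat.ofHom (algebraMap A B)) ∣_ FEt.puncturedSpec A) := by
  intro L hL he
  obtain ⟨e⟩ := he
  let g := Spec.map (CommRingCat.ofHom (algebraMap A B))
  let U := FEt.puncturedSpec A
  let W := g ⁻¹ᵁ U
  haveI : NoetherianSpace (Spec (CommRingCat.of A)) := inferInstanceAs (NoetherianSpace (PrimeSpectrum A))
  haveI : QuasiCompact U.ι := inferInstance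
  haveI : Flat g := (HasRingHomProperty.Spec_iff (P := @Flat)).2 (by
    rw [CommRingCat.hom_ofHom]; exact RingHom.flat_algebraMap_iff.2 inferInstance)
  -- sections over the punctured spectrum
  have hW : ∀ x : Spec (CommRingCat.of B), x ∉ W → x = IsLocalRing.closedPoint B := fun x hx => by
    have hx' : g.base x = IsLocalRing.closedPoint A := not_not.1 hx
    refine PrimeSpectrum.ext (((IsLocalRing.maximalIdeal.isMaximal B).eq_of_le x.2.ne_top ?_).symm)
    rw [hmax, Ideal.map_le_iff_le_comap]
    exact (congrArg PrimeSpectrum.asIdeal hx').ge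
  have hbij : Function.Bijective (W.ι.appTop) := by
    have hV : IsAffineOpen (⊤ : (Spec (CommRingCat.of B)).Opens) := isAffineOpen_top _
    have h1 := Purity.bijective_ι_app_top W hV (Purity.exists_pair_chart_of_depth W (fun x hx => by
      obtain rfl := hW x hx
      exact hdepth.trans_eq (Purity.depth_stalk_closedPoint B).symm) ⊤ hV)
    haveI := (ConcreteCategory.isIso_iff_bijective _).2 h1
    have h2 : W.ι.appTop = (Spec (CommRingCat.of B)).presheaf.map (homOfLE (le_top : W ≤ ⊤)).op ≫
        W.topIso.inv := by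
      simp [Scheme.Opens.topIso, Scheme.Opens.ι_appTop, ← Functor.map_comp]
    rw [h2]
    exact ConcreteCategory.bijective_of_isIso _
  obtain ⟨k, b, m, hz⟩ := AmpleDesc.exists_combination (isPullback_morphismRestrict g U)
    (TMul.isQCoh_of_isInvertible hL) (val e.inv ⊤)
  let z := val e.inv ⊤
  have hzgen : IsGen z := (TMul.isIso_restrict_iff e.inv ⊤).1 inferInstance
  let eB := Scheme.ΓSpecIso (CommRingCat.of B)
  let ψ := (Scheme.ΓSpecIso (CommRingCat.of A)).inv
  have key : ∀ x : A, g.appTop (ψ x) = eB.inv (algebraMap A B x) := fun x =>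
    (congrArg (fun φ => φ x) (Scheme.ΓSpecIso_inv_naturality (CommRingCat.ofHom (algebraMap A B)))).symm
  let η := AmpleDesc.eta (g ∣_ U) L
  have hc : ∀ i, ∃ d : B, η (m i) = W.ι.appTop (eB.inv d) • z := fun i => by
    obtain ⟨c, hc⟩ := (hzgen ⊤ le_rfl).2 (η (m i))
    simp only [Groth.Agent.QC.res_self] at hc
    obtain ⟨t, rfl⟩ := hbij.2 c
    refine ⟨eB.hom t, hc.symm.trans ?_⟩
    rw [show eB.inv (eB.hom t) = t from congrArg (fun φ => φ t) eB.hom_inv_id]
  choose d hd using hc
  choose a ha using fun i => hres (eB.hom (b i))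
  have hone : ∑ i, eB.hom (b i) * d i = 1 := by
    have h1 : z = W.ι.appTop (eB.inv (∑ i, eB.hom (b i) * d i)) • z := by
      conv_lhs => rw [show z = _ from hz]
      rw [map_sum, map_sum, Finset.sum_smul]
      refine Finset.sum_congr rfl fun i _ => ?_
      rw [map_mul, map_mul, mul_smul, show eB.inv (eB.hom (b i)) = b i from congrArg (fun φ => φ (b i)) eB.hom_inv_id]
      exact congrArg (fun q => W.ι.appTop (b i) • q) (hd i)
    have h2 := (hzgen ⊤ le_rfl).1 (a₁ := W.ι.appTop (eB.inv (∑ i, eB.hom (b i) * d i))) (a₂ := 1) (by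
      simp only [Groth.Agent.QC.res_self, one_smul]; exact h1.symm)
    have h3 : eB.inv (∑ i, eB.hom (b i) * d i) = eB.inv 1 := hbij.1 (h2.trans (by rw [map_one, map_one]))
    exact (ConcreteCategory.bijective_of_isIso eB.inv).1 h3
  let m₀ : Γ(L, ⊤) := ∑ i, U.ι.appTop (ψ (a i)) • m i
  have hη : η m₀ = W.ι.appTop (eB.inv (∑ i, algebraMap A B (a i) * d i)) • z := by
    refine (map_sum (((Scheme.Modules.pullbackPushforwardAdjunction (g ∣_ U)).unit.app L).app ⊤).hom _ _).trans ?_
    rw [map_sum, map_sum, Finset.sum_smul]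
    refine Finset.sum_congr rfl fun i _ => ?_
    refine (Scheme.Modules.Hom.app_smul ((Scheme.Modules.pullbackPushforwardAdjunction (g ∣_ U)).unit.app L)
      (U.ι.appTop (ψ (a i))) (m i)).trans ?_
    rw [map_mul, map_mul, mul_smul, ← hd i, ← key]
    show HSMul.hSMul (α := Γ(↑W, ⊤)) ((g ∣_ U).appTop (U.ι.appTop (ψ (a i)))) (η (m i)) = _
    refine congrArg (fun c : Γ(↑W, ⊤) => c • η (m i)) ?_
    exact congrArg (fun φ => (Scheme.Hom.appTop φ) (ψ (a i))) (morphismRestrict_ι g U)
  have hunit : IsUnit (∑ i, algebraMap A B (a i) * d i) := by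
    refine IsLocalRing.notMem_maximalIdeal.1 fun hmem => ?_
    refine (IsLocalRing.maximalIdeal.isMaximal B).ne_top ((Ideal.eq_top_iff_one _).2 ?_)
    rw [← hone, show (∑ i, eB.hom (b i) * d i) = ∑ i, algebraMap A B (a i) * d i +
        ∑ i, (eB.hom (b i) - algebraMap A B (a i)) * d i by rw [← Finset.sum_add_distrib]; congr! 1; ring]
    exact add_mem hmem (sum_mem fun i _ => Ideal.mul_mem_right _ _ (ha i))
  have hgen : IsGen (η m₀) := by
    rw [hη]
    exact TMul.isGen_smul hzgen ((hunit.map eB.inv.hom).map W.ι.appTop.hom)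
  have hG : (⊤ : (↑U : Scheme.{u}).Opens) ≤ CohB1.genLocus L (homOf m₀) := fun y _ => by
    haveI : Module.FaithfullyFlat A B := Module.FaithfullyFlat.of_flat_of_isLocalHom
    obtain ⟨p, hp⟩ := PrimeSpectrum.comap_surjective_of_faithfullyFlat (A := A) (B := B) y.1
    have hpW : p ∈ W := by
      show g.base p ∈ U
      rw [show g.base p = y.1 from hp]
      exact y.2
    have h := TMul.genLocus_pullback (g ∣_ U) hL (homOf m₀) (PicLoc.pullbackStructureIso (g ∣_ U)).symm
    have h' : IsGen (val ((PicLoc.pullbackStructureIso (g ∣_ U)).symm.hom ≫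
        (Scheme.Modules.pullback (g ∣_ U)).map (homOf m₀)) ⊤) := by
      rw [Iso.symm_hom, AmpleDesc.val_pullback, TMul.val_homOf, Groth.Agent.QC.res_self]
      exact hgen
    have h2 : (g ∣_ U).base ⟨p, hpW⟩ ∈ CohB1.genLocus L (homOf m₀) :=
      h.le (TMul.le_genLocus _ h' (trivial : (⟨p, hpW⟩ : (↑W : Scheme.{u})) ∈ (⊤ : (↑W : Scheme.{u}).Opens)))
    have h3 : (g ∣_ U).base ⟨p, hpW⟩ = y :=
      U.ι.isOpenEmbedding.injective ((congrArg (fun φ => φ.base ⟨p, hpW⟩) (morphismRestrict_ι g U)).trans hp)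
    exact h3 ▸ h2
  haveI : IsIso (homOf m₀) := by
    have h := (TMul.isIso_restrict_iff (homOf m₀) ⊤).2 ((top_le_iff.1 hG) ▸ TMul.isGen_genLocus (homOf m₀))
    rw [Scheme.Modules.Hom.isIso_iff_isIso_app] at h ⊢
    intro V
    have h1 := h ((⊤ : (↑U : Scheme.{u}).Opens).ι ⁻¹ᵁ V)
    have e1 : (⊤ : (↑U : Scheme.{u}).Opens).ι ''ᵁ ((⊤ : (↑U : Scheme.{u}).Opens).ι ⁻¹ᵁ V) = V := by
      rw [Scheme.Hom.image_preimage_eq_opensRange_inf, Scheme.Opens.opensRange_ι, top_inf_eq]
    exact e1 ▸ h1
  exact ⟨(asIso (homOf m₀)).symm⟩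

/-- Injectivity for the completion of a local ring of depth two. -/
theorem picPullbackInjective_completion (A : Type u) [CommRing A] [IsNoetherianRing A] [IsLocalRing A]
    (h : (2 : ℕ∞) ≤ LocCoh.depth (AdicCompletion (IsLocalRing.maximalIdeal A) A) (AdicCompletion (IsLocalRing.maximalIdeal A) A)) :
    Formal2.PicPullbackInjective
      (Spec.map (CommRingCat.ofHom (algebraMap A (AdicCompletion (IsLocalRing.maximalIdeal A) A))) ∣_ FEt.puncturedSpec A) := by
  refine picPullbackInjective_punctured AdicCompletion.maximalIdeal_eq_map (fun b => ?_) h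
  obtain ⟨a, ha⟩ := Ideal.Quotient.mk_surjective (AdicCompletion.evalOneₐ (IsLocalRing.maximalIdeal A) b)
  refine ⟨a, IsLocalRing.le_maximalIdeal
    (RingHom.ker_ne_top (AdicCompletion.evalOneₐ (IsLocalRing.maximalIdeal A)).toRingHom) ?_⟩
  rw [RingHom.mem_ker, map_sub, sub_eq_zero]
  show AdicCompletion.evalOneₐ _ b = AdicCompletion.evalOneₐ _ (algebraMap A _ a)
  rw [AlgHom.commutes]
  exact ha.symm

end

end Groth.Agent.FormAlg
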