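import Groth.Agent.FormAlg.PicExtend
import Groth.Agent.FormAlg.PicInjCompletion
import Groth.Agent.TorCI.CILoc
import Groth.Agent.EGA41CM.Basic
import Groth.Agent.CMChain.Basic
import Groth.Agent.CMFlat.Quotient
import Groth.Agent.FlatDepth.CMTensor
import Groth.Agent.EGA41FS.LiftUnique
import Groth.Agent.EGA41Cohen.Basic
import Groth.Agent.GrpAct.DimClosed
import Groth.Agent.RegTrans.Basic
import Groth.Agent.S5810
import Groth.Agent.S9549
import Groth.Agent.S2824
import Groth.Prelude.Def_SGA2

/-!
Triviality of the Picard group of the punctured spectrum of a complete intersection of dimension at least four.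
-/

set_option autoImplicit false
set_option maxHeartbeats 1000000
set_option linter.style.haveILetI false
set_option backward.isDefEq.respectTransparency false
set_option backward.isDefEq.respectTransparency.types false
universe u

namespace Groth.Agent.FormAlg

open CategoryTheory AlgebraicGeometry IsLocalRing RingTheory.Sequence

noncomputable section

theorem picTrivial_of_isIso {X Y : Scheme.{u}} (v : Y ⟶ X) [IsIso v] (h : Formal2.PicTrivial X) :
    Formal2.PicTrivial Y := fun L hL => by
  obtain ⟨e⟩ := h _ (PicLoc.isInvertible_pullback (inv v) hL)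
  exact ⟨(((Scheme.Modules.pullbackComp v (inv v)).app L ≪≫
    (Scheme.Modules.pullbackCongr (IsIso.hom_inv_id v)).app L ≪≫ (Scheme.Modules.pullbackId Y).app L)).symm ≪≫
    (Scheme.Modules.pullback v).mapIso e ≪≫ PicLoc.pullbackStructureIso v⟩

theorem preimage_punctured {A B : Type u} [CommRing A] [IsLocalRing A] [CommRing B] [IsLocalRing B] (φ : A →+* B)
    (hmax : maximalIdeal B ≤ ((maximalIdeal A).map φ).radical) [IsLocalHom φ] :
    Spec.map (CommRingCat.ofHom φ) ⁻¹ᵁ FEt.puncturedSpec A = FEt.puncturedSpec B := by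
  refine TopologicalSpace.Opens.ext (Set.ext fun x => not_congr ?_)
  constructor
  · intro hx
    refine PrimeSpectrum.ext (((maximalIdeal.isMaximal B).eq_of_le x.2.ne_top ?_).symm)
    refine hmax.trans (x.2.radical_le_iff.2 (Ideal.map_le_iff_le_comap.2 ?_))
    exact (congrArg PrimeSpectrum.asIdeal (hx : (Spec.map (CommRingCat.ofHom φ)).base x = closedPoint A)).ge
  · rintro rfl
    exact PrimeSpectrum.ext (((IsLocalRing.local_hom_TFAE φ).out 0 4).1 ‹IsLocalHom φ›)

theorem picTrivial_punctured_congr {A B : Type u} [CommRing A] [IsLocalRing A] [CommRing B] [IsLocalRing B]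
    (e : A ≃+* B) (h : Formal2.PicTrivial (↑(FEt.puncturedSpec A) : Scheme.{u})) :
    Formal2.PicTrivial (↑(FEt.puncturedSpec B) : Scheme.{u}) := by
  let u' := Spec.map (CommRingCat.ofHom e.toRingHom)
  haveI : IsIso u' := inferInstanceAs (IsIso (Spec.map e.toCommRingCatIso.hom))
  haveI : IsLocalHom e.toRingHom := inferInstanceAs (IsLocalHom (e : A →+* B))
  have hpre := preimage_punctured e.toRingHom (by
    rw [IsLocalRing.map_maximalIdeal_of_surjective e.toRingHom e.surjective]; exact Ideal.le_radical)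
  haveI : IsIso (u' ∣_ FEt.puncturedSpec A) := inferInstance
  exact picTrivial_of_isIso ((Scheme.isoOfEq _ hpre.symm).hom ≫ u' ∣_ FEt.puncturedSpec A) h

theorem picTrivial_of_completion (A : Type u) [CommRing A] [IsNoetherianRing A] [IsLocalRing A]
    (hd : (2 : ℕ∞) ≤ LocCoh.depth A A)
    (h : Formal2.PicTrivial (↑(FEt.puncturedSpec (AdicCompletion (maximalIdeal A) A)) : Scheme.{u})) :
    Formal2.PicTrivial (↑(FEt.puncturedSpec A) : Scheme.{u}) := fun L hL => by
  let φ := algebraMap A (AdicCompletion (maximalIdeal A) A)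
  have hpre := preimage_punctured φ (by rw [AdicCompletion.maximalIdeal_eq_map]; exact Ideal.le_radical)
  have h' : Formal2.PicTrivial (↑(Spec.map (CommRingCat.ofHom φ) ⁻¹ᵁ FEt.puncturedSpec A) : Scheme.{u}) :=
    picTrivial_of_isIso (Scheme.isoOfEq _ hpre).hom h
  exact picPullbackInjective_completion A (hd.trans_eq (S5810.result A A).symm) L hL
    (h' _ (PicLoc.isInvertible_pullback _ hL))

/-- Depth and dimension of the quotient of a regular local ring by a regular sequence. -/
theorem ci_facts {R A : Type u} [CommRing R] [IsRegularLocalRing R] [CommRing A] [IsNoetherianRing A] [IsLocalRing A]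
    (π : R →+* A) (hπ : Function.Surjective π) (rs : List R) (hreg : IsRegular R rs)
    (hker : RingHom.ker π = Ideal.ofList rs) :
    ringKrullDim A + rs.length = ringKrullDim R ∧ ringKrullDim A = ((LocCoh.depth A A : ℕ∞) : WithBot ℕ∞) := by
  have hm : ∀ x ∈ rs, x ∈ maximalIdeal R := fun x hx =>
    le_maximalIdeal (RingHom.ker_ne_top π) (hker.ge (Ideal.subset_span hx))
  let J := Ideal.ofList rs
  let e : (R ⧸ J) ≃+* A := (Ideal.quotEquivOfEq hker.symm).trans (RingHom.quotientKerEquivOfSurjective hπ)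
  haveI : IsLocalRing (R ⧸ J) := e.symm.isLocalRing
  refine ⟨by rw [← ringKrullDim_eq_of_ringEquiv e]; exact ringKrullDim_add_length_eq_ringKrullDim_of_isRegular rs hreg, ?_⟩
  haveI hR := CMFlat.isCohenMacaulayLocalRing_of_isRegularLocalRing R
  have hcm := EGA41CM.cm_quotient (A := R) (M := R) hR.supportDim_eq_depth hm hreg.toIsWeaklyRegular
  have hJ : J • (⊤ : Submodule R R) = J := by rw [smul_eq_mul, Ideal.mul_top]
  rw [show Ideal.ofList rs • (⊤ : Submodule R R) = J from hJ] at hcm
  rw [← ringKrullDim_eq_of_ringEquiv e, Purity.depth_eq_of_ringEquiv e, FlatDepth.depth_quotient_ring J (R ⧸ J)]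
  refine Eq.trans ?_ hcm
  exact (Module.supportDim_quotient_eq_ringKrullDim J).symm

/-- A prime maximal among those avoiding an element is of codimension one. -/
theorem eq_closedPoint_of_maximal {A : Type u} [CommRing A] [IsNoetherianRing A] [IsLocalRing A] (q : Ideal A)
    [hq : q.IsPrime] (f : A) (hfq : f ∉ q) (hmax : ∀ q' : Ideal A, q'.IsPrime → q ≤ q' → f ∉ q' → q' = q)
    (r : Ideal A) [hr : r.IsPrime] (hqr : q ≤ r) (hfr : f ∈ r) : r = maximalIdeal A := by
  classical
  by_contra hne
  let S := (Ideal.span {f} ⊔ q).minimalPrimes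
  have hSf : S.Finite := Ideal.finite_minimalPrimes_of_isNoetherianRing A _
  obtain ⟨g, hgm, hg⟩ : ∃ g ∈ maximalIdeal A, ∀ s ∈ S, g ∉ s := by
    by_contra hc
    push_neg at hc
    have hsub : (maximalIdeal A : Set A) ⊆ ⋃ s ∈ (↑hSf.toFinset : Set (Ideal A)), (s : Set A) := fun x hx => by
      obtain ⟨s, hs, hxs⟩ := hc x hx
      exact Set.mem_biUnion (hSf.mem_toFinset.2 hs) hxs
    obtain ⟨s, hs, hms⟩ := (Ideal.subset_union_prime ⊥ ⊥ fun s hs _ _ => (hSf.mem_toFinset.1 hs).1.1).1 hsub
    have hs' := hSf.mem_toFinset.1 hs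
    have hsm : s = maximalIdeal A := ((maximalIdeal.isMaximal A).eq_of_le hs'.1.1.ne_top hms).symm
    exact hne (le_antisymm (le_maximalIdeal hr.ne_top)
      (hsm ▸ hs'.2 ⟨hr, sup_le ((Ideal.span_singleton_le_iff_mem _).2 hfr) hqr⟩ (hsm ▸ le_maximalIdeal hr.ne_top)))
  obtain ⟨r', hr', hr'm⟩ := Ideal.exists_minimalPrimes_le
    (sup_le ((Ideal.span_singleton_le_iff_mem _).2 hgm) (le_maximalIdeal hq.ne_top) : Ideal.span {g} ⊔ q ≤ maximalIdeal A)
  haveI := hr'.1.1
  have hqr' : q ≤ r' := le_trans le_sup_right hr'.1.2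
  have hgr' : g ∈ r' := hr'.1.2 (le_sup_left (b := q) (Ideal.mem_span_singleton_self g))
  have hgq : g ∉ q := fun hgq => by
    obtain ⟨s, hs, -⟩ := Ideal.exists_minimalPrimes_le
      (sup_le ((Ideal.span_singleton_le_iff_mem _).2 hfr) hqr : Ideal.span {f} ⊔ q ≤ r)
    exact hg s hs (hs.1.2 ((le_sup_right : q ≤ Ideal.span {f} ⊔ q) hgq))
  have hfr' : f ∈ r' := by
    by_contra hc
    exact hgq (hmax r' inferInstance hqr' hc ▸ hgr')
  obtain ⟨s, hs, hsr'⟩ := Ideal.exists_minimalPrimes_le
    (sup_le ((Ideal.span_singleton_le_iff_mem _).2 hfr') hqr' : Ideal.span {f} ⊔ q ≤ r')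
  haveI := hs.1.1
  have hqs : q ≤ s := le_trans le_sup_right hs.1.2
  have hsne : s ≠ r' := fun e => hg s hs (e ▸ hgr')
  let p := Ideal.Quotient.mk q
  have hp : Function.Surjective p := Ideal.Quotient.mk_surjective
  have hker : RingHom.ker p = q := Ideal.mk_ker
  have key : ∀ x : Ideal A, q ≤ x → (x.map p).comap p = x := fun x hx => by
    rw [Ideal.comap_map_of_surjective p hp, ← RingHom.ker_eq_comap_bot, hker]
    exact sup_eq_left.2 hx
  haveI hS : (s.map p).IsPrime := Ideal.map_isPrime_of_surjective hp (hker.le.trans hqs)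
  haveI hR : (r'.map p).IsPrime := Ideal.map_isPrime_of_surjective hp (hker.le.trans hqr')
  have h1 : (⊥ : Ideal (A ⧸ q)) < s.map p := bot_lt_iff_ne_bot.2 fun e => hfq (by
    rw [← hker, RingHom.mem_ker]
    exact (Submodule.mem_bot _).1 (e ▸ Ideal.mem_map_of_mem p (hs.1.2 (le_sup_left (b := q) (Ideal.mem_span_singleton_self f)))))
  have h2 : s.map p < r'.map p := lt_of_le_of_ne (Ideal.map_mono hsr') fun e => hsne (by
    rw [← key s hqs, e, key r' hqr'])
  have h3 : r'.map p ∈ (Ideal.span {p g}).minimalPrimes := by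
    refine ⟨⟨hR, (Ideal.span_singleton_le_iff_mem _).2 (Ideal.mem_map_of_mem p hgr')⟩, fun J hJ hJM => ?_⟩
    haveI := hJ.1
    have hle : J.comap p ≤ r' := (Ideal.comap_mono hJM).trans (key r' hqr').le
    have h' := hr'.2 ⟨Ideal.IsPrime.comap p, sup_le ((Ideal.span_singleton_le_iff_mem _).2
      (show p g ∈ J from hJ.2 (Ideal.mem_span_singleton_self _))) (hker.symm.le.trans (Ideal.comap_mono bot_le))⟩ hle
    exact (Ideal.map_mono h').trans Ideal.map_comap_le
  haveI : Submodule.IsPrincipal (Ideal.span {p g}) := ⟨⟨p g, rfl⟩⟩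
  have h4 := Ideal.height_le_one_of_isPrincipal_of_mem_minimalPrimes _ _ h3
  have h5 := Ideal.height_add_one_le_of_lt_of_isPrime h2
  have h6 := Ideal.height_add_one_le_of_lt_of_isPrime h1
  have : (2 : ℕ∞) ≤ 1 := by
    calc (2 : ℕ∞) = 0 + 1 + 1 := by norm_num
      _ ≤ (⊥ : Ideal (A ⧸ q)).height + 1 + 1 := by gcongr; exact zero_le
      _ ≤ (s.map p).height + 1 := by gcongr
      _ ≤ _ := h5.trans h4
  exact absurd this (by decide)

/-- The inductive statement. -/
def CIPicProp (c : ℕ) : Prop :=
  ∀ (R : Type u) [CommRing R] [IsRegularLocalRing R] (A : Type u) [CommRing A] [IsNoetherianRing A] [IsLocalRing A]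
    (π : R →+* A), Function.Surjective π → ∀ rs : List R, rs.length = c → IsRegular R rs →
      RingHom.ker π = Ideal.ofList rs → (4 : WithBot ℕ∞) ≤ ringKrullDim A →
        Formal2.PicTrivial (↑(FEt.puncturedSpec A) : Scheme.{u})

theorem four_le_depth {R A : Type u} [CommRing R] [IsRegularLocalRing R] [CommRing A] [IsNoetherianRing A] [IsLocalRing A]
    (π : R →+* A) (hπ : Function.Surjective π) (rs : List R) (hreg : IsRegular R rs)
    (hker : RingHom.ker π = Ideal.ofList rs) (hdim : (4 : WithBot ℕ∞) ≤ ringKrullDim A) :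
    (4 : ℕ∞) ≤ LocCoh.depth A A := by
  rw [(ci_facts π hπ rs hreg hker).2] at hdim
  exact WithBot.coe_le_coe.1 hdim

theorem picTrivial_step (c : ℕ) (ih : CIPicProp.{u} c) (R : Type u) [CommRing R] [IsRegularLocalRing R]
    [IsAdicComplete (maximalIdeal R) R] (l : List R) (t : R) (hl : l.length = c) (hreg : IsRegular R (l ++ [t]))
    [IsLocalRing (R ⧸ Ideal.ofList l)] [IsLocalRing ((R ⧸ Ideal.ofList l) ⧸ Ideal.span {Ideal.Quotient.mk (Ideal.ofList l) t})]
    (hdim : (4 : WithBot ℕ∞) ≤ ringKrullDim ((R ⧸ Ideal.ofList l) ⧸ Ideal.span {Ideal.Quotient.mk (Ideal.ofList l) t})) :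
    Formal2.PicTrivial (↑(FEt.puncturedSpec ((R ⧸ Ideal.ofList l) ⧸ Ideal.span {Ideal.Quotient.mk (Ideal.ofList l) t})) : Scheme.{u}) := by
  let B := R ⧸ Ideal.ofList l
  let p := Ideal.Quotient.mk (Ideal.ofList l)
  have hp : Function.Surjective p := Ideal.Quotient.mk_surjective
  let f : B := p t
  let A := B ⧸ Ideal.span {f}
  have hwreg := hreg.toIsWeaklyRegular
  rw [isWeaklyRegular_append_iff] at hwreg
  have hmem : ∀ x ∈ l ++ [t], x ∈ maximalIdeal R := fun x hx =>
    le_maximalIdeal (J := Ideal.ofList (l ++ [t])) (fun e => hreg.top_ne_smul (by rw [e, Submodule.top_smul])) (Ideal.subset_span hx)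
  have hlreg : IsRegular R l := (IsLocalRing.isRegular_iff_isWeaklyRegular_of_subset_maximalIdeal fun x hx =>
    hmem x (List.mem_append_left _ hx)).2 hwreg.1
  have hnzd : f ∈ nonZeroDivisors B := by
    have h := (isWeaklyRegular_singleton_iff _ t).1 hwreg.2
    refine mem_nonZeroDivisors_iff_right.2 fun b hb => ?_
    obtain ⟨b, rfl⟩ := hp b
    rw [← map_mul, Ideal.Quotient.eq_zero_iff_mem] at hb
    have hJ : Ideal.ofList l • (⊤ : Submodule R R) = Ideal.ofList l := by rw [smul_eq_mul, Ideal.mul_top]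
    have h0 : t • (Submodule.Quotient.mk b : R ⧸ Ideal.ofList l • (⊤ : Submodule R R)) = t • 0 := by
      rw [smul_zero, ← Submodule.Quotient.mk_smul, Submodule.Quotient.mk_eq_zero, hJ, smul_eq_mul, mul_comm]
      exact hb
    have h1 := h h0
    rw [Submodule.Quotient.mk_eq_zero, hJ] at h1
    exact Ideal.Quotient.eq_zero_iff_mem.2 h1
  have hf : f ∈ maximalIdeal B := by
    rw [← IsLocalRing.map_maximalIdeal_of_surjective p hp]
    exact Ideal.mem_map_of_mem p (hmem t (List.mem_append_right _ (List.mem_singleton_self t)))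
  haveI : IsAdicComplete (maximalIdeal B) B := EGA41FS.isAdicComplete_quotient _
  haveI : IsAdicComplete (Ideal.span {f}) B := EGA41Cohen.isAdicComplete_ideal _ fun e =>
    (maximalIdeal.isMaximal B).ne_top (top_le_iff.1 (e ▸ (Ideal.span_singleton_le_iff_mem _).2 hf))
  have hpA : RingHom.ker ((Ideal.Quotient.mk (Ideal.span {f})).comp p) = Ideal.ofList (l ++ [t]) := by
    rw [← RingHom.comap_ker, Ideal.mk_ker, show Ideal.span {f} = (Ideal.span {t}).map p by rw [Ideal.map_span, Set.image_singleton],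
      Ideal.comap_map_of_surjective p hp, ← RingHom.ker_eq_comap_bot, Ideal.mk_ker, Ideal.ofList_append, sup_comm]
    simp
  have hdA : (4 : ℕ∞) ≤ LocCoh.depth A A :=
    four_le_depth ((Ideal.Quotient.mk (Ideal.span {f})).comp p) (Ideal.Quotient.mk_surjective.comp hp) _ hreg hpA hdim
  have hH : ∀ i < 4, Subsingleton (LocCoh.H (maximalIdeal B) i A) := by
    refine (LocH.le_idealDepth_iff (maximalIdeal B) A 4).1 ?_
    exact hdA.trans_eq (FlatDepth.depth_quotient_ring (Ideal.span {f}) A)
  haveI := hH 1 (by norm_num)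
  haveI := hH 2 (by norm_num)
  have h₅ : ∀ (q : Ideal B) [q.IsPrime], f ∉ q → (∀ (q' : Ideal B), q'.IsPrime → q ≤ q' → f ∉ q' → q' = q) →
      Formal2.PicTrivial (↑(FEt.puncturedSpec (Localization.AtPrime q)) : Scheme.{u}) := by
    intro q _ hfq hmax
    let q' := q.comap p
    haveI : IsRegularRing R := SerreReg.isRegularRing_of_isRegularLocalRing R
    haveI : IsRegularLocalRing (Localization.AtPrime q') := IsRegularRing.isRegularLocalRing_localization _
    haveI : Module.Flat R (Localization.AtPrime q') := IsLocalization.flat _ q'.primeCompl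
    let φ := Localization.localRingHom q' q p rfl
    have hφ : Function.Surjective φ := fun y => by
      obtain ⟨⟨a, s⟩, rfl⟩ := IsLocalization.mk'_surjective q.primeCompl y
      obtain ⟨a, rfl⟩ := hp a
      obtain ⟨t', ht⟩ := hp (s : B)
      refine ⟨IsLocalization.mk' _ a (⟨t', show p t' ∉ q from ht ▸ s.2⟩ : q'.primeCompl), ?_⟩
      rw [Localization.localRingHom_mk']
      congr 1
      exact Subtype.ext ht
    have hkerφ : RingHom.ker φ = Ideal.ofList (l.map (algebraMap R (Localization.AtPrime q'))) := by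
      rw [TorCI.ker_localRingHom p hp q, Ideal.mk_ker, Ideal.map_ofList]
    have hregφ : IsRegular (Localization.AtPrime q') (l.map (algebraMap R (Localization.AtPrime q'))) :=
      (IsLocalRing.isRegular_iff_isWeaklyRegular_of_subset_maximalIdeal fun x hx =>
        le_maximalIdeal (RingHom.ker_ne_top φ) (hkerφ.ge (Ideal.subset_span hx))).2
        hlreg.toIsWeaklyRegular.of_flat
    haveI : IsNoetherianRing (Localization.AtPrime q) := IsLocalization.isNoetherianRing q.primeCompl _ inferInstance
    refine ih (Localization.AtPrime q') (Localization.AtPrime q) φ hφ _ (by rw [List.length_map, hl]) hregφ hkerφ ?_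
    have h1 := (ci_facts φ hφ _ hregφ hkerφ).1
    rw [List.length_map, IsLocalization.AtPrime.ringKrullDim_eq_height q' (Localization.AtPrime q')] at h1
    have h2 : ringKrullDim (R ⧸ q') = 1 := by
      rw [ringKrullDim_eq_of_ringEquiv ((RingHom.quotientKerEquivOfSurjective (f := (Ideal.Quotient.mk q).comp p)
        (Ideal.Quotient.mk_surjective.comp hp)).symm.trans (Ideal.quotEquivOfEq (by rw [← RingHom.comap_ker, Ideal.mk_ker]))).symm]
      refine ringKrullDim_quotient_eq_one (⟨q, inferInstance⟩ : PrimeSpectrum B) (fun e => hfq ?_) fun r hr => ?_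
      · rw [show q = maximalIdeal B from congrArg PrimeSpectrum.asIdeal e]; exact hf
      · by_cases hfr : f ∈ r.asIdeal
        · exact Or.inr (PrimeSpectrum.ext (eq_closedPoint_of_maximal q f hfq hmax r.asIdeal hr hfr))
        · exact Or.inl (PrimeSpectrum.ext (hmax r.asIdeal r.2 hr hfr))
    haveI hR := CMFlat.isCohenMacaulayLocalRing_of_isRegularLocalRing R
    have h3 := CMChain.height_add_dim (A := R) (M := R) hR.supportDim_eq_depth (by rw [Module.support_eq_zeroLocus, Module.annihilator_eq_bot.2 inferInstance]; simp)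
      (⟨q', inferInstance⟩ : PrimeSpectrum R)
    change ringKrullDim (R ⧸ q') + _ = _ at h3
    have h4 := (ci_facts ((Ideal.Quotient.mk (Ideal.span {f})).comp p) (Ideal.Quotient.mk_surjective.comp hp) _ hreg hpA).1
    rw [List.length_append, List.length_singleton, hl] at h4
    obtain ⟨a, ha⟩ := GrpAct.exists_nat_ringKrullDim (Localization.AtPrime q)
    obtain ⟨b, hb⟩ := GrpAct.exists_nat_ringKrullDim R
    obtain ⟨d, hd⟩ := GrpAct.exists_nat_ringKrullDim A
    rw [ha, hl] at h1
    rw [h2, ← h1, hb] at h3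
    rw [hd, hb] at h4
    rw [hd] at hdim
    rw [ha]
    norm_cast at h3 h4 hdim ⊢
    omega
  intro L₀ hL₀
  have hpre : Formal2.specQuotMap B f ⁻¹ᵁ FEt.puncturedSpec B = FEt.puncturedSpec A := by
    haveI : IsLocalHom (Ideal.Quotient.mk (Ideal.span {f})) := IsLocalHom.of_surjective _ Ideal.Quotient.mk_surjective
    exact preimage_punctured _ (by
      rw [IsLocalRing.map_maximalIdeal_of_surjective _ Ideal.Quotient.mk_surjective]; exact Ideal.le_radical)
  refine picTrivial_of_isIso (Scheme.isoOfEq _ hpre.symm).hom ?_ L₀ hL₀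
  intro L hL
  obtain ⟨L', hL', ⟨e⟩⟩ := local_pic_surjective f hf hnzd (Module.Finite.of_finite) (Module.Finite.of_finite)
    (hH 3 (by norm_num)) h₅ L hL
  have hB : Formal2.PicTrivial (↑(FEt.puncturedSpec B) : Scheme.{u}) := by
    refine ih R B p hp l hl hlreg Ideal.mk_ker (hdim.trans ?_)
    exact ringKrullDim_quotient_le _
  obtain ⟨τ⟩ := hB L' hL'
  exact ⟨e.symm ≪≫ (Scheme.Modules.pullback _).mapIso τ ≪≫ PicLoc.pullbackStructureIso _⟩

theorem ciPicProp : ∀ c, CIPicProp.{u} c := by
  intro c
  induction c with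
  | zero =>
    intro R _ _ A _ _ _ π hπ rs hlen hreg hker _
    obtain rfl := List.length_eq_zero_iff.1 hlen
    haveI : IsRegularLocalRing A := IsRegularLocalRing.of_ringEquiv (RingEquiv.ofBijective π
      ⟨(RingHom.injective_iff_ker_eq_bot π).2 (by rw [hker]; simp), hπ⟩)
    exact S9549.result A
  | succ c ih =>
    intro R _ _ A _ _ _ π hπ rs hlen hreg hker hdim
    refine picTrivial_of_completion A ((by norm_num : (2 : ℕ∞) ≤ 4).trans (four_le_depth π hπ rs hreg hker hdim)) ?_
    obtain ⟨ψ, hψ, -, hkerψ⟩ := FlatDepth.exists_cpl_quotient π hπ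
    let R' := AdicCompletion (maximalIdeal R) R
    let A' := AdicCompletion (maximalIdeal A) A
    haveI : IsRegularLocalRing R' := (AdicBasics.isRegularLocalRing_completion_iff R).1 inferInstance
    let rs' := rs.map (algebraMap R R')
    have hker' : RingHom.ker ψ = Ideal.ofList rs' := by rw [hkerψ, hker, Ideal.map_ofList]
    have hreg' : IsRegular R' rs' := (IsLocalRing.isRegular_iff_isWeaklyRegular_of_subset_maximalIdeal fun x hx =>
      le_maximalIdeal (RingHom.ker_ne_top ψ) (hker'.ge (Ideal.subset_span hx))).2 hreg.toIsWeaklyRegular.of_flat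
    have hdim' : (4 : WithBot ℕ∞) ≤ ringKrullDim A' := by rw [AdicBasics.ringKrullDim_completion]; exact hdim
    obtain ⟨l, t, hlt⟩ : ∃ l t, rs' = l ++ [t] := by
      have hne : rs' ≠ [] := fun e => by simp [rs', List.map_eq_nil_iff] at e; simp [e] at hlen
      exact ⟨_, _, (List.dropLast_append_getLast hne).symm⟩
    have hl : l.length = c := by
      have h := congrArg List.length hlt
      rw [List.length_map, hlen, List.length_append, List.length_singleton] at h
      omega
    rw [hlt] at hker' hreg'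
    let p := Ideal.Quotient.mk (Ideal.ofList l)
    have htop : Ideal.ofList l ≠ ⊤ := fun e => RingHom.ker_ne_top ψ (by
      rw [hker', Ideal.ofList_append, e, top_sup_eq])
    haveI : Nontrivial (R' ⧸ Ideal.ofList l) := Ideal.Quotient.nontrivial_iff.2 htop
    haveI : IsLocalRing (R' ⧸ Ideal.ofList l) := .of_surjective' p Ideal.Quotient.mk_surjective
    have hkp : RingHom.ker ((Ideal.Quotient.mk (Ideal.span {p t})).comp p) = Ideal.ofList (l ++ [t]) := by
      rw [← RingHom.comap_ker, Ideal.mk_ker, show Ideal.span {p t} = (Ideal.span {t}).map p by rw [Ideal.map_span, Set.image_singleton],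
        Ideal.comap_map_of_surjective p Ideal.Quotient.mk_surjective, ← RingHom.ker_eq_comap_bot, Ideal.mk_ker, Ideal.ofList_append, sup_comm]
      simp
    let e : ((R' ⧸ Ideal.ofList l) ⧸ Ideal.span {p t}) ≃+* A' :=
      (RingHom.quotientKerEquivOfSurjective (f := (Ideal.Quotient.mk (Ideal.span {p t})).comp p)
        (Ideal.Quotient.mk_surjective.comp Ideal.Quotient.mk_surjective)).symm.trans
        ((Ideal.quotEquivOfEq (hkp.trans hker'.symm)).trans (RingHom.quotientKerEquivOfSurjective hψ))
    haveI : IsLocalRing ((R' ⧸ Ideal.ofList l) ⧸ Ideal.span {p t}) := e.symm.isLocalRing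
    exact picTrivial_punctured_congr e (picTrivial_step c ih R' l t hl hreg'
      (by rw [ringKrullDim_eq_of_ringEquiv e]; exact hdim'))

theorem picTrivial_punctured_ci (A : Type u) [CommRing A] [IsNoetherianRing A] [IsLocalRing A]
    (hci : Pi1.IsCompleteIntersection A) (hdim : (4 : WithBot ℕ∞) ≤ ringKrullDim A) :
    (4 : ℕ∞) ≤ LocCoh.depth A A ∧ Formal2.PicTrivial (↑(FEt.puncturedSpec A) : Scheme.{u}) := by
  let A' := AdicCompletion (maximalIdeal A) A
  obtain ⟨R, _, _, π, hπ⟩ := TorCI.exists_regular_cover A'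
  obtain ⟨rs, hreg, hker⟩ := (TorCI.isCI_iff_regular π hπ).1 ((TorCI.isCI_adicCompletion A).2 hci)
  have hdim' : (4 : WithBot ℕ∞) ≤ ringKrullDim A' := by rw [AdicBasics.ringKrullDim_completion]; exact hdim
  have hd : (4 : ℕ∞) ≤ LocCoh.depth A A :=
    (four_le_depth π hπ rs hreg hker hdim').trans_eq (S5810.result A A)
  exact ⟨hd, picTrivial_of_completion A ((by norm_num : (2 : ℕ∞) ≤ 4).trans hd)
    (ciPicProp rs.length R A' π hπ rs rfl hreg hker hdim')⟩

end

end Groth.Agent.FormAlg

namespace Groth.Agent.FormAlg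

open CategoryTheory AlgebraicGeometry IsLocalRing

/-- Functions on the punctured spectrum of a local ring of depth at least two. -/
theorem bijective_restrict_punctured (A : Type u) [CommRing A] [IsNoetherianRing A] [IsLocalRing A]
    (h : (2 : ℕ∞) ≤ LocCoh.depth A A) :
    Function.Bijective ((Spec (CommRingCat.of A)).presheaf.map (homOfLE (le_top : FEt.puncturedSpec A ≤ ⊤)).op) := by
  have hV : IsAffineOpen (⊤ : (Spec (CommRingCat.of A)).Opens) := isAffineOpen_top _
  haveI : TopologicalSpace.NoetherianSpace (Spec (CommRingCat.of A)) :=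
    inferInstanceAs (TopologicalSpace.NoetherianSpace (PrimeSpectrum A))
  exact Purity.bijective_ι_app_top _ hV (Purity.exists_pair_chart_of_depth _ (fun x hx => by
    obtain rfl : x = IsLocalRing.closedPoint A := not_not.1 hx
    exact h.trans_eq (Purity.depth_stalk_closedPoint A).symm) ⊤ hV)

/-- Complete intersections of dimension at least four are parafactorial. -/
theorem isParafactorial_ci (A : Type u) [CommRing A] [IsNoetherianRing A] [IsLocalRing A]
    (hci : Pi1.IsCompleteIntersection A) (hdim : (4 : WithBot ℕ∞) ≤ ringKrullDim A) :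
    ParaF.IsParafactorialLocalRing A := by
  obtain ⟨hd, hP⟩ := picTrivial_punctured_ci A hci hdim
  exact (S2824.result A).2 ⟨bijective_restrict_punctured A ((by norm_num : (2 : ℕ∞) ≤ 4).trans hd), hP⟩

theorem isCI_of_abs {A : Type u} [CommRing A] [IsNoetherianRing A] [IsLocalRing A] (h : SGA2.IsAbsCompleteIntersection A) :
    Pi1.IsCompleteIntersection A := by
  obtain ⟨B, _, _, rs, -, hreg, ⟨e⟩⟩ := h
  refine (TorCI.isCI_iff_regular (e.symm.toRingHom.comp (Ideal.Quotient.mk _))
    (e.symm.surjective.comp Ideal.Quotient.mk_surjective)).2 ⟨rs, hreg, ?_⟩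
  rw [← RingHom.comap_ker, (RingHom.injective_iff_ker_eq_bot e.symm.toRingHom).1 e.symm.injective,
    ← RingHom.ker_eq_comap_bot, Ideal.mk_ker]

end Groth.Agent.FormAlg
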