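import Groth.Agent.LefDiv.Formal
import Groth.Agent.ExpSeq.SquareKer
import Groth.Agent.ThickPic.Basic
import Groth.Agent.ThickSys.Sys
import Groth.Agent.ThickSys.Sheaf
import Groth.Agent.ClosedUnion.Pushout
import Groth.Agent.LefConn.Basic
import Groth.Agent.SymAlg.InvDual
import Groth.Agent.ResDesc.ResProp
import Groth.Agent.ResDesc.Main
import Groth.Agent.InvExt.Push

/-!
Injectivity of restriction of invertible modules to a thickening under the Lefschetz condition.
-/

set_option autoImplicit false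
set_option maxHeartbeats 1000000
set_option linter.style.haveILetI false
set_option backward.isDefEq.respectTransparency false
set_option backward.isDefEq.respectTransparency.types false
universe u

namespace Groth.Agent.FormAlg.LefPic

open CategoryTheory CategoryTheory.Limits CategoryTheory.Abelian AlgebraicGeometry TopologicalSpace Opposite
open Groth.Agent.QC (res resO res_res res_smul resO_resO app_res)
open Groth.Agent.ZarPicLib (sec rr secZ secZ_comp)
open ExpSeq.Deform (res0 GG)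
open TMul (IsGen)

noncomputable section

/-- Global sections surject when the first cohomology of the kernel vanishes. -/
theorem surjective_top {X : TopCat.{u}} {S : ShortComplex (CohTop.Ab X)} (hS : S.ShortExact)
    (h : Subsingleton (CohTop.H S.X₁ 1)) : Function.Surjective (S.g.hom.app (op (⊤ : Opens X))) := fun q => by
  obtain ⟨d, hd⟩ := Ext.covariant_sequence_exact₃ _ hS (Ext.mk₀ ((secZ S.X₃).symm q)) (zero_add 1)
    (h.elim _ _)
  obtain ⟨ψ, rfl⟩ := (Ext.mk₀_bijective _ _).2 d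
  rw [Ext.mk₀_comp_mk₀] at hd
  exact ⟨secZ _ ψ, by rw [← secZ_comp, (Ext.mk₀_bijective _ _).1 hd, AddEquiv.apply_symm_apply]⟩

/-- Sections on a closed subscheme surject to a smaller one. -/
theorem appTop_surjective {Z Y : Scheme.{u}} (t : Z ⟶ Y) [IsClosedImmersion t]
    (h : Subsingleton (CohTop.H (kernel (res0 t)) 1)) : Function.Surjective t.appTop := by
  haveI := ExpSeq.SquareKer.epi_res0 t
  have hS : (ShortComplex.mk (kernel.ι (res0 t)) (res0 t) (kernel.condition _)).ShortExact :=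
    { exact := ShortComplex.exact_of_f_is_kernel _ (kernelIsKernel _) }
  exact surjective_top hS h

/-- The kernel of restriction along the inclusion of two subschemes, from the kernel of the quotient map. -/
theorem subsingleton_kernel_inclusion {X : Scheme.{u}} {I J : X.IdealSheafData} (h : I ≤ J) (q : ℕ)
    (hk : Subsingleton (Coh.HH X (kernel (Lef.quotMap h)) q)) :
    Subsingleton (CohTop.H (kernel (res0 (Scheme.IdealSheafData.inclusion h))) q) := by
  let t := Scheme.IdealSheafData.inclusion h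
  haveI : PreservesFiniteLimits (SheafOfModules.toSheaf.{u} X.ringCatSheaf) := inferInstance
  haveI : PreservesFiniteLimits (CohTop.push I.subschemeι.base) := by
    haveI := (TopCat.Sheaf.pullbackPushforwardAdjunction AddCommGrpCat.{u} I.subschemeι.base).rightAdjoint_preservesLimits
    infer_instance
  let b : (Scheme.Modules.pushforward I.subschemeι).obj ((Scheme.Modules.pushforward t).obj (Coh.structureModule J.subscheme)) ⟶
      ClSub.quotMod J := (Scheme.Modules.pushforwardComp t I.subschemeι).hom.app _ ≫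
    (Scheme.Modules.pushforwardCongr (Scheme.IdealSheafData.inclusion_subschemeι h)).hom.app _
  have hb : IsIso b := inferInstance
  let a := (Scheme.Modules.pushforward I.subschemeι).map (ClSub.unitToPush t)
  have e₁ : kernel (Lef.quotMap h) ≅ kernel a := kernelCompMono a b
  have e₂ : Coh.toAb (kernel a) ≅ (CohTop.push I.subschemeι.base).obj (kernel (res0 t)) :=
    PreservesKernel.iso (SheafOfModules.toSheaf.{u} X.ringCatSheaf) a ≪≫
      kernelIsoOfEq (g := (CohTop.push I.subschemeι.base).map (res0 t)) rfl ≪≫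
      (PreservesKernel.iso (CohTop.push I.subschemeι.base) (res0 t)).symm
  obtain ⟨e⟩ := S0459.result (X := I.subscheme.toTopCat) (Y := X.toTopCat) I.subschemeι.base
    I.subschemeι.isClosedEmbedding (kernel (res0 t)) q
  obtain ⟨e'⟩ := ExpSeq.h_congr ((SheafOfModules.toSheaf.{u} X.ringCatSheaf).mapIso e₁ ≪≫ e₂) q
  exact e.toEquiv.subsingleton_congr.2 (e'.toEquiv.subsingleton_congr.1 hk)

/-- Kernels of restriction along equal morphisms. -/
def kerCongr {Z Y : Scheme.{u}} {f f' : Z ⟶ Y} (h : f = f') : kernel (res0 f) ≅ kernel (res0 f') := by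
  subst h; exact Iso.refl _

/-- Transport of the kernel along isomorphisms of the two schemes. -/
theorem subsingleton_kernel_transfer {Z Y Z' Y' : Scheme.{u}} (t : Z ⟶ Y) (t' : Z' ⟶ Y') (a : Z ⟶ Z') (b : Y ⟶ Y')
    [IsIso a] [IsIso b] (w : t ≫ b = a ≫ t') (q : ℕ) (h : Subsingleton (CohTop.H (kernel (res0 t')) q)) :
    Subsingleton (CohTop.H (kernel (res0 t)) q) := by
  haveI := ExpSeq.SquareKer.isIso_res0 b
  haveI : PreservesFiniteLimits (CohTop.push b.base) := by
    haveI := (TopCat.Sheaf.pullbackPushforwardAdjunction AddCommGrpCat.{u} b.base).rightAdjoint_preservesLimits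
    infer_instance
  obtain ⟨e₁⟩ := ExpSeq.SquareKer.nonempty_kernel_comp a t'
  have e₂ : kernel (res0 t') ≅ (CohTop.push b.base).obj (kernel (res0 t)) :=
    e₁ ≪≫ kerCongr w.symm ≪≫ kernelIsoOfEq (ExpSeq.SquareKer.res0_comp t b) ≪≫
      kernelIsIsoComp (res0 b) ((CohTop.push b.base).map (res0 t)) ≪≫ (PreservesKernel.iso (CohTop.push b.base) (res0 t)).symm
  obtain ⟨e⟩ := S0459.result (X := Y.toTopCat) (Y := Y'.toTopCat) b.base
    b.isClosedEmbedding (kernel (res0 t)) q
  obtain ⟨e'⟩ := ExpSeq.h_congr e₂ q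
  exact e.toEquiv.subsingleton_congr.2 (e'.toEquiv.subsingleton_congr.1 h)

variable {X : Scheme.{u}}

/-- The restriction of a closed subscheme to an open containing it. -/
theorem exists_iso_comap (I : X.IdealSheafData) (U : X.Opens) (hU : (I.support : Set X) ⊆ U) :
    ∃ q : (I.comap U.ι).subscheme ⟶ I.subscheme, IsIso q ∧ q ≫ I.subschemeι = (I.comap U.ι).subschemeι ≫ U.ι := by
  haveI : Surjective (pullback.snd U.ι I.subschemeι) := ⟨fun z => by
    have hz : I.subschemeι.base z ∈ U := hU (by rw [← I.range_subschemeι]; exact ⟨z, rfl⟩)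
    obtain ⟨w, -, hw⟩ := Scheme.Pullback.exists_preimage_pullback (f := U.ι) (g := I.subschemeι) ⟨_, hz⟩ z rfl
    exact ⟨w, hw⟩⟩
  haveI : IsIso (pullback.snd U.ι I.subschemeι) := by
    rw [isIso_iff_isOpenImmersion_and_epi_base]
    exact ⟨inferInstance, (TopCat.epi_iff_surjective _).2 (pullback.snd U.ι I.subschemeι).surjective⟩
  exact ⟨(I.comapIso U.ι).hom ≫ pullback.snd _ _, inferInstance, by
    rw [Category.assoc, ← pullback.condition, Scheme.IdealSheafData.comapIso_hom_fst_assoc]⟩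

theorem subsingleton_kernel_restrict (𝓘 : X.IdealSheafData) (U : X.Opens) (hU : (𝓘.support : Set X) ⊆ U) (m : ℕ)
    (h : Subsingleton (Coh.HH X (kernel (Lef.quotMap (Lef.pow_succ_le 𝓘 m))) 1)) :
    Subsingleton (CohTop.H (kernel (res0 (Scheme.IdealSheafData.inclusion (Lef.pow_succ_le (𝓘.comap U.ι) m)))) 1) := by
  have hs : ∀ k : ℕ, ((𝓘 ^ (k + 1)).support : Set X) ⊆ U := fun k => by
    rw [Scheme.IdealSheafData.support_pow _ _ (Nat.succ_ne_zero _)]; exact hU
  obtain ⟨a, ha, haι⟩ : ∃ a : ((𝓘.comap U.ι) ^ (m + 1)).subscheme ⟶ (𝓘 ^ (m + 1)).subscheme, IsIso a ∧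
      a ≫ (𝓘 ^ (m + 1)).subschemeι = ((𝓘.comap U.ι) ^ (m + 1)).subschemeι ≫ U.ι := by
    rw [← ThickSys.comap_pow]; exact exists_iso_comap _ U (hs m)
  obtain ⟨b, hb, hbι⟩ : ∃ b : ((𝓘.comap U.ι) ^ (m + 2)).subscheme ⟶ (𝓘 ^ (m + 2)).subscheme, IsIso b ∧
      b ≫ (𝓘 ^ (m + 2)).subschemeι = ((𝓘.comap U.ι) ^ (m + 2)).subschemeι ≫ U.ι := by
    rw [← ThickSys.comap_pow]; exact exists_iso_comap _ U (hs (m + 1))
  haveI := ha
  haveI := hb
  refine subsingleton_kernel_transfer _ (Scheme.IdealSheafData.inclusion (Lef.pow_succ_le 𝓘 m)) a b ?_ 1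
    (subsingleton_kernel_inclusion _ 1 h)
  rw [← cancel_mono (𝓘 ^ (m + 2)).subschemeι, Category.assoc, Category.assoc, hbι,
    Scheme.IdealSheafData.inclusion_subschemeι, haι, Scheme.IdealSheafData.inclusion_subschemeι_assoc]

variable {U : Scheme.{u}} (J : U.IdealSheafData)

local notation "Z" => fun (k : ℕ) => Scheme.IdealSheafData.subscheme (J ^ (k + 1))

theorem ker_inclusion_mul (k : ℕ) :
    (Scheme.IdealSheafData.inclusion (Lef.pow_succ_le J k)).ker * (Scheme.IdealSheafData.inclusion (Lef.pow_succ_le J k)).ker = ⊥ := by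
  let t := Scheme.IdealSheafData.inclusion (Lef.pow_succ_le J k)
  haveI : IsClosedImmersion (t ≫ (J ^ (k + 2)).subschemeι) := by
    rw [Scheme.IdealSheafData.inclusion_subschemeι]; infer_instance
  haveI : IsClosedImmersion t := IsClosedImmersion.of_comp _ (J ^ (k + 2)).subschemeι
  rw [ThickSys.ker_eq_comap_ker_comp t (J ^ (k + 2)).subschemeι, Scheme.IdealSheafData.inclusion_subschemeι,
    Scheme.IdealSheafData.ker_subschemeι, ← BlowUpLib.comap_mul, ← pow_add, eq_bot_iff]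
  have h0 : (J ^ (k + 2)).comap (J ^ (k + 2)).subschemeι = ⊥ := by
    conv_lhs => arg 1; rw [← (J ^ (k + 2)).ker_subschemeι]
    exact ThickSys.comap_ker_self _
  rw [← h0]
  rw [show k + 1 + (k + 1) = (2 * k + 1) + 1 by omega]
  exact Scheme.IdealSheafData.comap_mono _ (LefDiv.pow_le_pow (show k + 1 ≤ 2 * k + 1 by omega))

theorem subsingleton_idealMod_ker {Z' Y : Scheme.{u}} (t : Z' ⟶ Y) [IsClosedImmersion t]
    (h : Subsingleton (CohTop.H (kernel (res0 t)) 1)) : Subsingleton (Coh.HH Y (ClSub.idealMod t.ker) 1) := by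
  obtain ⟨e⟩ := ExpSeq.SquareKer.nonempty_toAb_idealMod t
  obtain ⟨e'⟩ := ExpSeq.h_congr e 1
  exact e'.toEquiv.subsingleton_congr.2 h

/-- An invertible module trivial on a square-zero subscheme with acyclic ideal is trivial. -/
theorem nonempty_trivial_of_pullback {Z' Y : Scheme.{u}} (t : Z' ⟶ Y) [IsClosedImmersion t] (hI : t.ker * t.ker = ⊥)
    (h : Subsingleton (CohTop.H (kernel (res0 t)) 1)) {L : Y.Modules} (hL : PicF.IsInvertible L)
    (e : (Scheme.Modules.pullback t).obj L ≅ Coh.structureModule Z') : Nonempty (L ≅ Coh.structureModule Y) := by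
  let s := inv t.toImage
  have hs : s ≫ t = t.ker.subschemeι := by
    rw [IsIso.inv_comp_eq]; exact t.toImage_imageι.symm
  exact ThickPic.nonempty_iso_of_pullback_iso hI (subsingleton_idealMod_ker t h)
    (PicLoc.isInvertible_structureModule Y) hL
    ((Scheme.Modules.pullbackCongr hs.symm).app L ≪≫ ((Scheme.Modules.pullbackComp s t).app L).symm ≪≫
      (Scheme.Modules.pullback s).mapIso e ≪≫ PicLoc.pullbackStructureIso s ≪≫ (PicLoc.pullbackStructureIso _).symm)

/-- Lifts of units to a square-zero thickening are units. -/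
theorem isUnit_lift {Z' Y : Scheme.{u}} (t : Z' ⟶ Y) [IsClosedImmersion t] (hI : t.ker * t.ker = ⊥) {v : Γ(Y, ⊤)}
    (w : Γ(Y, ⊤)) (h : t.appTop (v * w) = 1) : IsUnit v := by
  have hs : inv t.toImage ≫ t = t.ker.subschemeι := by rw [IsIso.inv_comp_eq]; exact t.toImage_imageι.symm
  refine ThickPic.isUnit_of_app hI ⟨w, ?_⟩
  rw [← hs]
  show (inv t.toImage).app _ (t.appTop (v * w)) = 1
  rw [h, map_one]

/-- Morphisms out of a module with local generators agree when they agree on generators. -/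
theorem hom_ext_gen {Y : Scheme.{u}} {D M : Y.Modules} (hD : PicF.IsInvertible D) {φ ψ : D ⟶ M}
    (h : ∀ (W : Y.Opens) (e : Γ(D, W)), IsGen e → φ.app W e = ψ.app W e) : φ = ψ := by
  refine Scheme.Modules.hom_ext _ _ fun O => ?_
  ext s
  refine QC.section_eq_of_locally fun x hx => ?_
  obtain ⟨N, e, hxN, he⟩ := TMul.exists_isGen hD x
  refine ⟨O ⊓ N, inf_le_left, ⟨hx, hxN⟩, ?_⟩
  obtain ⟨c, hc⟩ := (he (O ⊓ N) inf_le_right).2 (res D inf_le_left s)
  rw [app_res, app_res, ← hc, Scheme.Modules.Hom.app_smul, Scheme.Modules.Hom.app_smul, h _ _ (he.res inf_le_right)]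

/-- A functional to functions on a subscheme taking unit values on generators. -/
def UnitVal {Y Z' : Scheme.{u}} (j : Z' ⟶ Y) {D : Y.Modules}
    (y : D ⟶ (Scheme.Modules.pushforward j).obj (Coh.structureModule Z')) : Prop :=
  ∀ (W : Y.Opens) (e : Γ(D, W)), IsGen e → IsUnit (show Γ(Z', j ⁻¹ᵁ W) from y.app W e)

theorem exists_unitVal {Y Z' : Scheme.{u}} (j : Z' ⟶ Y) {D : Y.Modules}
    (e : (Scheme.Modules.pullback j).obj D ≅ Coh.structureModule Z') :
    ∃ y : D ⟶ (Scheme.Modules.pushforward j).obj (Coh.structureModule Z'), UnitVal j y := by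
  refine ⟨(Scheme.Modules.pullbackPushforwardAdjunction j).unit.app D ≫ (Scheme.Modules.pushforward j).map e.hom,
    fun W g hg => ?_⟩
  have h1 : IsGen (N := Coh.structureModule Z') (e.hom.app (j ⁻¹ᵁ W) (ProjMor.eta j D W g)) :=
    ZarPicLib.isGen_iso e (C1Cap.isGen_eta j hg)
  obtain ⟨c, hc⟩ := (h1 _ le_rfl).2 (1 : Γ(Z', j ⁻¹ᵁ W))
  simp only [Groth.Agent.QC.res_self] at hc
  exact IsUnit.of_mul_eq_one_right c hc

theorem exists_unit_ratio {Y Z' : Scheme.{u}} (j : Z' ⟶ Y) {D : Y.Modules} (hD : PicF.IsInvertible D)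
    {y y' : D ⟶ (Scheme.Modules.pushforward j).obj (Coh.structureModule Z')} (hy : UnitVal j y) (hy' : UnitVal j y') :
    ∃ r : Γ(Z', ⊤), IsUnit r ∧ ∀ (W : Y.Opens) (e : Γ(D, W)), IsGen e →
      (show Γ(Z', j ⁻¹ᵁ W) from y.app W e) = resO Z' le_top r * (show Γ(Z', j ⁻¹ᵁ W) from y'.app W e) := by
  choose N g hxN hg using fun x => TMul.exists_isGen hD x
  let v : ∀ x, Γ(Z', j ⁻¹ᵁ N x) := fun x =>
    (show Γ(Z', j ⁻¹ᵁ N x) from y.app _ (g x)) * ((hy' _ _ (hg x)).unit⁻¹ : Γ(Z', j ⁻¹ᵁ N x)ˣ).1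
  have hkey : ∀ (x) (W : Y.Opens) (hW : W ≤ N x) (e : Γ(D, W)), IsGen e →
      (show Γ(Z', j ⁻¹ᵁ W) from y.app W e) = resO Z' (j.preimage_mono hW) (v x) * (show Γ(Z', j ⁻¹ᵁ W) from y'.app W e) := by
    intro x W hW e he
    obtain ⟨c, rfl⟩ := (hg x W hW).2 e
    have h1 : ∀ (f : D ⟶ (Scheme.Modules.pushforward j).obj (Coh.structureModule Z')),
        (show Γ(Z', j ⁻¹ᵁ W) from f.app W (c • res D hW (g x))) =
          j.app W c * resO Z' (j.preimage_mono hW) (show Γ(Z', j ⁻¹ᵁ N x) from f.app _ (g x)) := fun f => by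
      rw [Scheme.Modules.Hom.app_smul, ← app_res f hW]
      rfl
    rw [h1, h1, ← mul_assoc, mul_comm (resO Z' _ (v x)), mul_assoc, ← map_mul]
    congr 2
    simp [v, mul_assoc]
  have hcompat : ∀ x x', resO Z' (inf_le_left : j ⁻¹ᵁ N x ⊓ j ⁻¹ᵁ N x' ≤ j ⁻¹ᵁ N x) (v x) =
      resO Z' inf_le_right (v x') := fun x x' => by
    have a := hkey x (N x ⊓ N x') inf_le_left _ ((hg x).res inf_le_left)
    have b := hkey x' (N x ⊓ N x') inf_le_right _ ((hg x).res inf_le_left)
    exact (hy' _ _ ((hg x).res (inf_le_left : N x ⊓ N x' ≤ N x))).mul_right_cancel (a.symm.trans b)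
  obtain ⟨r, hr, -⟩ := Z'.sheaf.existsUnique_gluing' (fun x => j ⁻¹ᵁ N x) ⊤ (fun x => homOfLE le_top)
    (fun z _ => Opens.mem_iSup.2 ⟨j.base z, hxN _⟩) v hcompat
  refine ⟨r, ?_, fun W e he => ?_⟩
  · refine (RingedSpace.isUnit_of_isUnit_germ Z'.toRingedSpace ⊤ r fun z _ => ?_)
    have h : IsUnit (v (j.base z)) := (hy _ _ (hg _)).mul (Units.isUnit _)
    rw [← hr (j.base z)] at h
    have h' := h.map (Z'.presheaf.germ (j ⁻¹ᵁ N (j.base z)) z (hxN _)).hom
    erw [TopCat.Presheaf.germ_res_apply] at h'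
    exact h'
  · refine TopCat.Presheaf.IsSheaf.section_ext Z'.sheaf.2 fun z hz => ?_
    refine ⟨j ⁻¹ᵁ (W ⊓ N (j.base z)), j.preimage_mono inf_le_left, ⟨hz, hxN _⟩, ?_⟩
    change resO Z' _ _ = resO Z' _ _
    rw [map_mul, resO_resO]
    have h1 := hkey (j.base z) (W ⊓ N (j.base z)) inf_le_right _ (he.res inf_le_left)
    rw [← app_res y inf_le_left, ← app_res y' inf_le_left, ← hr (j.base z)] at h1
    exact h1.trans (congrArg (· * _) (resO_resO _ le_top r))

/-- The quotient map on sections. -/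
theorem quotMap_app_eq {I K : U.IdealSheafData} (h : I ≤ K) (W : U.Opens) (z : Γ(I.subscheme, I.subschemeι ⁻¹ᵁ W)) :
    ((Lef.quotMap h).app W z : Γ(K.subscheme, K.subschemeι ⁻¹ᵁ W)) =
      resO K.subscheme (le_of_eq (by rw [← Scheme.Hom.comp_preimage, Scheme.IdealSheafData.inclusion_subschemeι h] :
          K.subschemeι ⁻¹ᵁ W = Scheme.IdealSheafData.inclusion h ⁻¹ᵁ (I.subschemeι ⁻¹ᵁ W)))
        ((Scheme.IdealSheafData.inclusion h).app (I.subschemeι ⁻¹ᵁ W) z) := by
  rfl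

theorem unitVal_quotMap {I K : U.IdealSheafData} (h : I ≤ K) {D : U.Modules} {y : D ⟶ ClSub.quotMod I}
    (hy : UnitVal I.subschemeι y) : UnitVal K.subschemeι (y ≫ Lef.quotMap h) := fun W e he => by
  rw [Scheme.Modules.Hom.comp_app, ConcreteCategory.comp_apply, quotMap_app_eq]
  exact ((hy W e he).map ((Scheme.IdealSheafData.inclusion h).app _).hom).map _

theorem quotMap_trans {I K M : U.IdealSheafData} (h : I ≤ K) (h' : K ≤ M) :
    Lef.quotMap h ≫ Lef.quotMap h' = Lef.quotMap (h.trans h') :=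
  (cancel_epi (ClSub.toSubscheme I)).1 (by
    rw [LefDiv.toSubscheme_quotMap_assoc, LefDiv.toSubscheme_quotMap, LefDiv.toSubscheme_quotMap])

variable {J}

theorem step {k : ℕ} (hk : Subsingleton (CohTop.H (kernel (res0 (Scheme.IdealSheafData.inclusion (Lef.pow_succ_le J k)))) 1))
    {D : U.Modules} (hD : PicF.IsInvertible D)
    (e : (Scheme.Modules.pullback (J ^ (k + 2)).subschemeι).obj D ≅ Coh.structureModule _)
    (y : D ⟶ ClSub.quotMod (J ^ (k + 1))) (hy : UnitVal (J ^ (k + 1)).subschemeι y) :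
    ∃ y' : D ⟶ ClSub.quotMod (J ^ (k + 2)), UnitVal (J ^ (k + 2)).subschemeι y' ∧
      y' ≫ Lef.quotMap (Lef.pow_succ_le J k) = y := by
  let h := Lef.pow_succ_le J k
  let t := Scheme.IdealSheafData.inclusion h
  haveI : IsClosedImmersion (t ≫ (J ^ (k + 2)).subschemeι) := by
    rw [Scheme.IdealSheafData.inclusion_subschemeι]; infer_instance
  haveI : IsClosedImmersion t := IsClosedImmersion.of_comp _ (J ^ (k + 2)).subschemeι
  obtain ⟨y₁, hy₁⟩ := exists_unitVal (J ^ (k + 2)).subschemeι e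
  obtain ⟨r, hr, hry⟩ := exists_unit_ratio (J ^ (k + 1)).subschemeι hD hy (unitVal_quotMap h hy₁)
  obtain ⟨v, hv⟩ := appTop_surjective t hk r
  let R : Type u := Γ((J ^ (k + 1)).subscheme, ⊤)
  obtain ⟨w, hw⟩ := appTop_surjective t hk ((hr.unit⁻¹ : Rˣ) : R)
  have hvu : IsUnit v := isUnit_lift t (ker_inclusion_mul J k) w (by rw [map_mul, hv, hw]; exact hr.mul_val_inv)
  let Y' := (J ^ (k + 2)).subscheme
  let v' : Γ(Coh.structureModule Y', ⊤) := v
  refine ⟨y₁ ≫ (Scheme.Modules.pushforward (J ^ (k + 2)).subschemeι).map (TMul.homOf v'), fun W g hg => ?_,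
    hom_ext_gen hD fun W g hg => ?_⟩
  · let a : Γ(Y', (J ^ (k + 2)).subschemeι ⁻¹ᵁ W) := y₁.app W g
    show IsUnit (show Γ(Y', (J ^ (k + 2)).subschemeι ⁻¹ᵁ W) from (TMul.homOf v').app _ a)
    rw [TMul.app_eq_smul, TMul.val_homOf]
    exact (hy₁ W g hg).mul (hvu.map (resO Y' le_top))
  · refine Eq.trans ?_ (hry W g hg).symm
    let a : Γ(Y', (J ^ (k + 2)).subschemeι ⁻¹ᵁ W) := y₁.app W g
    show (Lef.quotMap h).app W ((TMul.homOf v').app _ a) = _
    rw [TMul.app_eq_smul, TMul.val_homOf, quotMap_app_eq]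
    show resO _ _ (t.app _ (a * resO Y' le_top v)) = _
    rw [map_mul, map_mul, mul_comm]
    refine congrArg₂ (· * ·) ?_ ?_
    · rw [← ExpSeq.Deform.resO_app t le_top, resO_resO, ← hv]
      rfl
    · exact (quotMap_app_eq h W _).symm

theorem ev_comp {Y : Scheme.{u}} {M N : Y.Modules} (a : Coh.structureModule Y ⟶ M) (b : M ⟶ N) :
    LefConn.ev (a ≫ b) = b.app ⊤ (LefConn.ev a) := rfl

variable {D : U.Modules} {p n : ℕ}

theorem exists_trivial (hH : ∀ k, p ≤ k →
      Subsingleton (CohTop.H (kernel (res0 (Scheme.IdealSheafData.inclusion (Lef.pow_succ_le J k)))) 1))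
    (hn : p ≤ n) (hD : PicF.IsInvertible D)
    (h₀ : Nonempty ((Scheme.Modules.pullback (J ^ (n + 1)).subschemeι).obj D ≅ Coh.structureModule _))
    (k : ℕ) (hk : n ≤ k) :
    Nonempty ((Scheme.Modules.pullback (J ^ (k + 1)).subschemeι).obj D ≅ Coh.structureModule _) := by
  induction k, hk using Nat.le_induction with
  | base => exact h₀
  | succ k hk ih =>
    obtain ⟨e⟩ := ih
    let t := Scheme.IdealSheafData.inclusion (Lef.pow_succ_le J k)
    haveI : IsClosedImmersion (t ≫ (J ^ (k + 2)).subschemeι) := by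
      rw [Scheme.IdealSheafData.inclusion_subschemeι]; infer_instance
    haveI : IsClosedImmersion t := IsClosedImmersion.of_comp _ (J ^ (k + 2)).subschemeι
    exact nonempty_trivial_of_pullback t (ker_inclusion_mul J k) (hH k (hn.trans hk))
      (PicLoc.isInvertible_pullback _ hD)
      ((Scheme.Modules.pullbackComp t (J ^ (k + 2)).subschemeι).app D ≪≫
        (Scheme.Modules.pullbackCongr (Scheme.IdealSheafData.inclusion_subschemeι _)).app D ≪≫ e)

/-- A functional which is invertible on all thickenings. -/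
theorem exists_hom_unitVal (hJ : Lef.HomToFormalBijective J D) (hH : ∀ k, p ≤ k →
      Subsingleton (CohTop.H (kernel (res0 (Scheme.IdealSheafData.inclusion (Lef.pow_succ_le J k)))) 1))
    (hn : p ≤ n) (hD : PicF.IsInvertible D)
    (h₀ : Nonempty ((Scheme.Modules.pullback (J ^ (n + 1)).subschemeι).obj D ≅ Coh.structureModule _)) :
    ∃ φ : D ⟶ Coh.structureModule U, ∀ m, UnitVal (J ^ (m + 1)).subschemeι (φ ≫ ClSub.toSubscheme (J ^ (m + 1))) := by
  obtain ⟨e₀⟩ := h₀
  obtain ⟨y₀, hy₀⟩ := exists_unitVal (J ^ (n + 1)).subschemeι e₀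
  have hs : ∀ (i : ℕ) (y : D ⟶ ClSub.quotMod (J ^ (n + i + 1))), UnitVal (J ^ (n + i + 1)).subschemeι y →
      ∃ y' : D ⟶ ClSub.quotMod (J ^ (n + (i + 1) + 1)), UnitVal (J ^ (n + (i + 1) + 1)).subschemeι y' ∧
        y' ≫ Lef.quotMap (Lef.pow_succ_le J (n + i)) = y := fun i y hy =>
    step (hH (n + i) (by omega)) hD (exists_trivial hH hn hD ⟨e₀⟩ (n + i + 1) (by omega)).some y hy
  choose F hF₁ hF₂ using hs
  let Y : (i : ℕ) → {y : D ⟶ ClSub.quotMod (J ^ (n + i + 1)) // UnitVal (J ^ (n + i + 1)).subschemeι y} :=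
    fun i => Nat.rec ⟨y₀, hy₀⟩ (fun i q => ⟨F i q.1 q.2, hF₁ i q.1 q.2⟩) i
  obtain ⟨φ, hφ⟩ := hJ.2 (fun m => (Y m).1 ≫ Lef.quotMap (LefDiv.pow_le_pow (show m ≤ n + m by omega))) fun m => by
    rw [Category.assoc, quotMap_trans]
    have h1 : (Y m).1 = (Y (m + 1)).1 ≫ Lef.quotMap (Lef.pow_succ_le J (n + m)) := (hF₂ m _ _).symm
    show _ = (Y m).1 ≫ _
    rw [h1, Category.assoc, quotMap_trans]
  exact ⟨φ, fun m => hφ m ▸ unitVal_quotMap _ (Y m).2⟩

/-- An invertible module trivial on one thickening is trivial. -/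
theorem nonempty_trivial (hJ : ∀ E : U.Modules, FlatMod.IsFinLocFree E → Lef.HomToFormalBijective J E)
    (hH : ∀ k, p ≤ k →
      Subsingleton (CohTop.H (kernel (res0 (Scheme.IdealSheafData.inclusion (Lef.pow_succ_le J k)))) 1))
    (hn : p ≤ n) (hD : PicF.IsInvertible D)
    (h₀ : Nonempty ((Scheme.Modules.pullback (J ^ (n + 1)).subschemeι).obj D ≅ Coh.structureModule _)) :
    Nonempty (D ≅ Coh.structureModule U) := by
  obtain ⟨D', hD', ⟨ε⟩⟩ := SymAlg.exists_inverse hD
  obtain ⟨e₀⟩ := h₀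
  let i₀ := (J ^ (n + 1)).subschemeι
  obtain ⟨pt⟩ := TMul.nonempty_pullTensorIso i₀ D D'
  have h₀' : Nonempty ((Scheme.Modules.pullback i₀).obj D' ≅ Coh.structureModule _) :=
    ⟨(TMul.leftUnitIso _).symm ≪≫ PicGrp.tensorModIso e₀.symm (Iso.refl _) ≪≫ pt ≪≫
      (Scheme.Modules.pullback i₀).mapIso ε ≪≫ PicLoc.pullbackStructureIso i₀⟩
  obtain ⟨φ, hφ⟩ := exists_hom_unitVal (hJ D (ResDesc.isFinLocFree_of_isInvertible hD)) hH hn hD ⟨e₀⟩
  obtain ⟨φ', hφ'⟩ := exists_hom_unitVal (hJ D' (ResDesc.isFinLocFree_of_isInvertible hD')) hH hn hD' h₀'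
  let B : ∀ W : U.Opens, Γ(D, W) →ₗ[Γ(U, W)] Γ(D', W) →ₗ[Γ(U, W)] Γ(Coh.structureModule U, W) := fun W =>
    LinearMap.mk₂ Γ(U, W)
      (fun a b => (show Γ(U, W) from φ.app W a) • φ'.app W b)
      (fun a a' b => by
        rw [map_add]
        exact add_smul (show Γ(U, W) from φ.app W a) (show Γ(U, W) from φ.app W a') _)
      (fun r a b => by
        rw [Scheme.Modules.Hom.app_smul]
        exact mul_smul r (show Γ(U, W) from φ.app W a) _)
      (fun a b b' => by rw [map_add, smul_add])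
      (fun r a b => by rw [Scheme.Modules.Hom.app_smul, smul_comm])
  let Φ := TMul.lift (P := Coh.structureModule U) B fun {V W} h a b => by
    show res _ h ((show Γ(U, W) from φ.app W a) • φ'.app W b) = (show Γ(U, V) from φ.app V _) • φ'.app V _
    rw [res_smul, ← app_res φ' h]
    refine congrArg (· • _) ?_
    exact app_res φ h a
  let c : Γ(U, ⊤) := TMul.val (ε.inv ≫ Φ) ⊤
  have hloc : ∀ x : U, ∃ (W : U.Opens) (e : Γ(D, W)) (e' : Γ(D', W)) (u : Γ(U, W)), x ∈ W ∧ IsGen e ∧ IsGen e' ∧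
      IsUnit u ∧ (show Γ(U, W) from φ.app W e) * (show Γ(U, W) from φ'.app W e') = u * resO U le_top c := fun x => by
    obtain ⟨N, g, hxN, hg⟩ := TMul.exists_isGen hD x
    obtain ⟨N', g', hxN', hg'⟩ := TMul.exists_isGen hD' x
    let W := N ⊓ N'
    let e : Γ(D, W) := res D inf_le_left g
    let e' : Γ(D', W) := res D' inf_le_right g'
    refine ⟨W, e, e', ε.hom.app W (TMul.tm e e'), ⟨hxN, hxN'⟩, hg.res _, hg'.res _, ?_, ?_⟩
    · have hgen := ZarPicLib.isGen_iso ε (TMul.isGen_tm (hg.res (inf_le_left : W ≤ N)) (hg'.res (inf_le_right : W ≤ N')))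
      obtain ⟨a, ha⟩ := (hgen _ le_rfl).2 (1 : Γ(U, W))
      simp only [Groth.Agent.QC.res_self] at ha
      exact IsUnit.of_mul_eq_one_right a ha
    have h1 : (ε.inv ≫ Φ).app W (ε.hom.app W (TMul.tm e e')) = Φ.app W (TMul.tm e e') := by
      rw [← ConcreteCategory.comp_apply, ← Scheme.Modules.Hom.comp_app, ε.hom_inv_id_assoc]
    rw [TMul.lift_tm, TMul.app_eq_smul, ← TMul.res_val _ (le_top : W ≤ ⊤)] at h1
    exact h1.symm
  choose W e e' u hxW he he' hu hec using hloc
  have hcu : ∀ m, IsUnit ((J ^ (m + 1)).subschemeι.appTop c) := fun m => by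
    refine RingedSpace.isUnit_of_isUnit_germ (J ^ (m + 1)).subscheme.toRingedSpace ⊤ _ fun z _ => ?_
    let j := (J ^ (m + 1)).subschemeι
    let x := j.base z
    have h1 : IsUnit (j.app (W x) ((show Γ(U, W x) from φ.app (W x) (e x)) * (show Γ(U, W x) from φ'.app (W x) (e' x)))) := by
      rw [map_mul]
      exact (hφ m _ _ (he x)).mul (hφ' m _ _ (he' x))
    rw [hec, map_mul] at h1
    have h2 : IsUnit (resO (J ^ (m + 1)).subscheme (le_top : j ⁻¹ᵁ W x ≤ ⊤) (j.appTop c)) := by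
      rw [show resO _ (le_top : j ⁻¹ᵁ W x ≤ ⊤) (j.appTop c) = j.app (W x) (resO U le_top c) from
        (ExpSeq.Deform.resO_app j le_top c)]
      exact isUnit_of_mul_isUnit_right h1
    have h3 := h2.map ((J ^ (m + 1)).subscheme.presheaf.germ (j ⁻¹ᵁ W x) z (hxW x)).hom
    erw [TopCat.Presheaf.germ_res_apply] at h3
    exact h3
  have hO := hJ _ (ResDesc.isFinLocFree_structureModule U)
  let d : ∀ m, Γ(ClSub.quotMod (J ^ (m + 1)), ⊤) := fun m => ((hcu m).unit⁻¹ : Γ((J ^ (m + 1)).subscheme, ⊤)ˣ).1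
  obtain ⟨ψ, hψ⟩ := hO.2 (fun m => CohQC.secHom (d m)) fun m => LefConn.ev_ext (by
    rw [LefConn.ev_secHom]
    show (Lef.quotMap (Lef.pow_succ_le J m)).app ⊤ (LefConn.ev (CohQC.secHom (d (m + 1)))) = d m
    rw [LefConn.ev_secHom]
    refine (LefConn.quotMap_app (Lef.pow_succ_le J m) (d (m + 1))).trans ?_
    refine left_inv_eq_right_inv (a := (J ^ (m + 1)).subschemeι.appTop c) ?_ (IsUnit.mul_val_inv _)
    rw [← Scheme.IdealSheafData.inclusion_subschemeι (Lef.pow_succ_le J m), Scheme.Hom.comp_appTop]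
    show (Scheme.IdealSheafData.inclusion _).appTop (d (m + 1)) * (Scheme.IdealSheafData.inclusion _).appTop _ = 1
    rw [← map_mul, ← map_one (Scheme.IdealSheafData.inclusion (Lef.pow_succ_le J m)).appTop.hom]
    exact congrArg _ (IsUnit.val_inv_mul _))
  let d' : Γ(U, ⊤) := LefConn.ev ψ
  have hcd : c * d' = 1 := by
    have h1 := hO.1 (CohQC.secHom (show Γ(Coh.structureModule U, ⊤) from c * d'))
      (CohQC.secHom (show Γ(Coh.structureModule U, ⊤) from (1 : Γ(U, ⊤)))) fun m => LefConn.ev_ext (by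
        rw [ev_comp, ev_comp]
        rw [LefConn.ev_secHom, LefConn.ev_secHom]
        show (J ^ (m + 1)).subschemeι.appTop (c * d') = (J ^ (m + 1)).subschemeι.appTop 1
        have h2 := congrArg LefConn.ev (hψ m)
        rw [ev_comp, LefConn.ev_secHom] at h2
        rw [map_one, map_mul, show (J ^ (m + 1)).subschemeι.appTop d' = d m from h2]
        exact IsUnit.mul_val_inv _)
    have h3 := congrArg LefConn.ev h1
    rwa [LefConn.ev_secHom, LefConn.ev_secHom] at h3
  haveI : IsIso φ := InvExt.isIso_of_hits_gen hD φ fun x => by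
    refine ⟨W x, e x, hxW x, ?_⟩
    have hc : IsUnit (resO U (le_top : W x ≤ ⊤) c) := (IsUnit.of_mul_eq_one d' hcd).map _
    have h2 : IsUnit (show Γ(U, W x) from φ.app (W x) (e x)) :=
      isUnit_of_mul_isUnit_left ((hec x) ▸ (hu x).mul hc)
    have h4 := UfdExtend.isGen_unit_smul (TMul.isGen_one (X := U) (W x)) h2
    rw [show (show Γ(U, W x) from φ.app (W x) (e x)) • (show Γ(Coh.structureModule U, W x) from (1 : Γ(U, W x))) =
      φ.app (W x) (e x) from mul_one (show Γ(U, W x) from φ.app (W x) (e x))] at h4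
    exact h4
  exact ⟨asIso φ⟩

/-- Restriction to a thickening is injective on isomorphism classes. -/
theorem nonempty_iso_of_restrict {X : Scheme.{u}} (𝓘 : X.IdealSheafData) (h : Lef.LefCond X 𝓘) (p : ℕ)
    (hH1 : ∀ n : ℕ, p ≤ n → Subsingleton (Coh.HH X (kernel (Lef.quotMap (Lef.pow_succ_le 𝓘 n))) 1))
    (V : X.Opens) (hV : (𝓘.support : Set X) ⊆ (V : Set X)) (n : ℕ) (hn : p ≤ n) (L L' : (V : Scheme.{u}).Modules)
    (hL : PicF.IsInvertible L) (hL' : PicF.IsInvertible L')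
    (e : (Scheme.Modules.pullback (((𝓘.comap V.ι) ^ (n + 1)).subschemeι)).obj L ≅
      (Scheme.Modules.pullback (((𝓘.comap V.ι) ^ (n + 1)).subschemeι)).obj L') : Nonempty (L ≅ L') := by
  obtain ⟨N, hN, ⟨ε⟩⟩ := SymAlg.exists_inverse hL'
  let i := ((𝓘.comap V.ι) ^ (n + 1)).subschemeι
  obtain ⟨p₁⟩ := TMul.nonempty_pullTensorIso i L N
  obtain ⟨p₂⟩ := TMul.nonempty_pullTensorIso i L' N
  obtain ⟨δ⟩ := nonempty_trivial (D := CohB1.tensorMod L N) (fun E hE => h V hV E hE)
    (fun k hk => subsingleton_kernel_restrict 𝓘 V hV k (hH1 k hk)) hn (TMul.isInvertible_tensorMod hL hN)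
    ⟨p₁.symm ≪≫ PicGrp.tensorModIso e (Iso.refl _) ≪≫ p₂ ≪≫ (Scheme.Modules.pullback i).mapIso ε ≪≫
      PicLoc.pullbackStructureIso i⟩
  exact ⟨(SecTwist.unitorR L).symm ≪≫ PicGrp.tensorModIso (Iso.refl L) (ε.symm ≪≫ TMul.commIso L' N) ≪≫
    (TMul.assocIso L N L').symm ≪≫ PicGrp.tensorModIso δ (Iso.refl L') ≪≫ TMul.leftUnitIso L'⟩

end

end Groth.Agent.FormAlg.LefPic
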