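import Groth.Agent.FormAlg.Thicken
import Groth.Agent.FormAlg.Tower
import Mathlib.CategoryTheory.Abelian.Exact

/-!
Systems of modules on the thickenings of a principal closed subscheme as towers, and back.
-/

set_option autoImplicit false
set_option maxHeartbeats 1000000
set_option linter.style.haveILetI false
set_option backward.isDefEq.respectTransparency false
set_option backward.isDefEq.respectTransparency.types false
universe u

namespace Groth.Agent.FormAlg

open CategoryTheory CategoryTheory.Limits AlgebraicGeometry TopologicalSpace Opposite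

noncomputable section

variable {A : Type u} [CommRing A] {X : Scheme.{u}} [X.Over (Spec (CommRingCat.of A))] {t : A} {𝓘 : X.IdealSheafData}
  (h𝓘 : ∀ V : X.affineOpens, 𝓘.ideal V = Ideal.span {W7Cech.secRing A V.1 t})

local notation "j" => FSch.completionToX X 𝓘

include h𝓘 in
theorem ker_completionToX (n : ℕ) (V : X.affineOpens) :
    (j n).ker.ideal V = Ideal.span {W7Cech.secRing A V.1 t ^ (n + 1)} := by
  rw [Scheme.IdealSheafData.ker_subschemeι, Scheme.IdealSheafData.ideal_pow, Pi.pow_apply, h𝓘 V,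
    Ideal.span_singleton_pow]

variable (𝔐 : FSch.ModSys (FSch.completionAlong X 𝓘))

theorem app_trans_natural {C D E : Type*} [Category* C] [Category* D] [Category* E] (P : C ⥤ D) (Q : D ⥤ E)
    {H K : C ⥤ E} (α : P ⋙ Q ≅ H) (β : H ≅ K) {M N : C} (f : M ⟶ N) :
    Q.map (P.map f) ≫ (α.app N ≪≫ β.app N).hom = (α.app M ≪≫ β.app M).hom ≫ K.map f :=
  (α ≪≫ β).hom.naturality f

theorem ker_congr {C : Type*} [Category* C] [Abelian C] {M N : C} {f g : M ⟶ N} (e : f = g) :
    kernelSubobject f = kernelSubobject g := by subst e; rfl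

theorem image_congr {C : Type*} [Category* C] [Abelian C] {M N : C} {f g : M ⟶ N} (e : f = g) :
    imageSubobject f = imageSubobject g := by subst e; rfl

/-- The direct images. -/
def sysObj (n : ℕ) : X.Modules := (Scheme.Modules.pushforward (j n)).obj (𝔐.F n)

/-- The composite of two pullbacks along a commutative triangle. -/
def ppIso {Z Z' Y : Scheme.{u}} (a : Z ⟶ Z') (b : Z' ⟶ Y) (c : Z ⟶ Y) (w : a ≫ b = c) (M : Y.Modules) :
    (Scheme.Modules.pullback a).obj ((Scheme.Modules.pullback b).obj M) ≅ (Scheme.Modules.pullback c).obj M :=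
  (Scheme.Modules.pullbackComp a b).app M ≪≫ (Scheme.Modules.pullbackCongr w).app M

theorem ppIso_natural {Z Z' Y : Scheme.{u}} (a : Z ⟶ Z') (b : Z' ⟶ Y) (c : Z ⟶ Y) (w : a ≫ b = c)
    {M N : Y.Modules} (f : M ⟶ N) :
    (Scheme.Modules.pullback a).map ((Scheme.Modules.pullback b).map f) ≫ (ppIso a b c w N).hom =
      (ppIso a b c w M).hom ≫ (Scheme.Modules.pullback c).map f :=
  app_trans_natural (Scheme.Modules.pullback b) (Scheme.Modules.pullback a) (Scheme.Modules.pullbackComp a b)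
    (Scheme.Modules.pullbackCongr w) f

theorem ι_completionToX (n : ℕ) : (FSch.completionAlong X 𝓘).ι n ≫ j (n + 1) = j n :=
  Scheme.IdealSheafData.inclusion_subschemeι (FSch.pow_succ_le X 𝓘 n)

/-- The composite of the two pullbacks. -/
abbrev pullPullIso (n : ℕ) (M : X.Modules) :
    (Scheme.Modules.pullback ((FSch.completionAlong X 𝓘).ι n)).obj ((Scheme.Modules.pullback (j (n + 1))).obj M) ≅
      (Scheme.Modules.pullback (j n)).obj M :=
  ppIso ((FSch.completionAlong X 𝓘).ι n) (j (n + 1)) (j n) (ι_completionToX n) M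

/-- The pullback of one level to the previous one. -/
def sysPull (n : ℕ) : (Scheme.Modules.pullback (j n)).obj (sysObj 𝔐 (n + 1)) ≅ 𝔐.F n :=
  (pullPullIso n (sysObj 𝔐 (n + 1))).symm ≪≫
    (Scheme.Modules.pullback ((FSch.completionAlong X 𝓘).ι n)).mapIso
      (@asIso _ _ _ _ ((Scheme.Modules.pullbackPushforwardAdjunction (j (n + 1))).counit.app (𝔐.F (n + 1)))
        (haveI := GrothSS.isIso_counit_push (j (n + 1)); inferInstance)) ≪≫ 𝔐.e n

/-- The transition maps. -/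
def sysTn (n : ℕ) : sysObj 𝔐 (n + 1) ⟶ sysObj 𝔐 n :=
  (Scheme.Modules.pullbackPushforwardAdjunction (j n)).homEquiv _ _ (sysPull 𝔐 n).hom

/-- The system. -/
def sysFun : ℕᵒᵖ ⥤ X.Modules := Functor.ofOpSequence (X := fun n => sysObj 𝔐 n) (fun n => sysTn 𝔐 n)

theorem sysFun_tn (n : ℕ) : W7Exist.tn (sysFun 𝔐) n = sysTn 𝔐 n :=
  Functor.ofOpSequence_map_homOfLE_succ _ n

include h𝓘 in
theorem isCohFormal_sysFun (hcoh : 𝔐.IsCoh) : Formal.IsCohFormal (Ideal.span {t}) (sysFun 𝔐) := by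
  refine ⟨fun n => ?_, fun n a ha => ?_, fun n => ?_⟩
  · haveI : (𝔐.F n).IsQuasicoherent := (hcoh n).1
    exact QC.isCoh_pushforward_of_isFinite (j n) (hcoh n).2
  · exact smulMod_push_of_mem (j n) (ker_completionToX h𝓘 n) (𝔐.F n) ha
  · obtain ⟨α, hα⟩ := exists_iso_modPow (j n) (ker_completionToX h𝓘 n) (sysObj 𝔐 (n + 1))
    have e : W7Exist.tn (sysFun 𝔐) n = Formal.modPowπ (Ideal.span {t}) (n + 1) (sysObj 𝔐 (n + 1)) ≫
        α.hom ≫ (Scheme.Modules.pushforward (j n)).map (sysPull 𝔐 n).hom := by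
      rw [sysFun_tn, sysTn, Adjunction.homEquiv_unit, ← Category.assoc, hα]
    have h : Formal.smulFamily (Ideal.span {t} ^ (n + 1)) (sysObj 𝔐 (n + 1)) ≫ W7Exist.tn (sysFun 𝔐) n = 0 := by
      rw [e, Formal.modPowπ, ← Category.assoc, cokernel.condition, zero_comp]
    refine ⟨h, ?_⟩
    have e2 : cokernel.desc _ (W7Exist.tn (sysFun 𝔐) n) h =
        α.hom ≫ (Scheme.Modules.pushforward (j n)).map (sysPull 𝔐 n).hom :=
      coequalizer.hom_ext ((cokernel.π_desc _ _ h).trans e)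
    exact e2 ▸ inferInstanceAs (IsIso (α.hom ≫ ((Scheme.Modules.pushforward (j n)).mapIso (sysPull 𝔐 n)).hom))

variable (t) in
/-- The kernel of `t^N` on the `N`-th level is the image of `t`. -/
def SysReg : Prop := ∀ N : ℕ, 1 ≤ N →
  kernelSubobject (Formal.smulModΓ (𝔐.F N) ((j N).appTop.hom (Coh.toGlobal (X ↘ Spec (CommRingCat.of A)) t) ^ N)) =
    imageSubobject (Formal.smulModΓ (𝔐.F N) ((j N).appTop.hom (Coh.toGlobal (X ↘ Spec (CommRingCat.of A)) t)))

variable (hreg : SysReg t 𝔐)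

include h𝓘 hreg in
theorem exists_lift_of_pow (N : ℕ) (hN : 1 ≤ N) {K : X.Modules} (y : K ⟶ sysObj 𝔐 N)
    (hy : y ≫ Formal.smulMod A (sysObj 𝔐 N) (t ^ N) = 0) :
    ∃ (K' : X.Modules) (π : K' ⟶ K) (_ : Epi π) (z : K' ⟶ sysObj 𝔐 N),
      π ≫ y = z ≫ Formal.smulMod A (sysObj 𝔐 N) t := by
  letI : ((FSch.completionAlong X 𝓘).X N).Over (Spec (CommRingCat.of A)) := ⟨j N ≫ (X ↘ Spec (CommRingCat.of A))⟩
  haveI := KFlat.preservesHomology_pushforward (f := j N)
  have hc : ∀ a : A, Formal.smulModΓ (𝔐.F N) ((j N).appTop.hom (Coh.toGlobal (X ↘ Spec (CommRingCat.of A)) a)) =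
      Formal.smulMod A (𝔐.F N) a := fun a => by
    refine congrArg (Formal.smulModΓ (𝔐.F N)) ?_
    show _ = Coh.toGlobal (j N ≫ (X ↘ Spec (CommRingCat.of A))) a
    simp only [Coh.toGlobal, Scheme.Hom.comp_appTop]
    rfl
  have hp : ∀ a : A, (Scheme.Modules.pushforward (j N)).map (Formal.smulMod A (𝔐.F N) a) =
      Formal.smulMod A (sysObj 𝔐 N) a := fun a => W7Rees.smulMod_push (j N) rfl (𝔐.F N) a
  have hk : kernelSubobject (Formal.smulMod A (𝔐.F N) (t ^ N)) = imageSubobject (Formal.smulMod A (𝔐.F N) t) := by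
    have h := hreg N hN
    have e1 := hc (t ^ N)
    rw [map_pow, map_pow] at e1
    exact ((ker_congr e1).symm.trans h).trans (image_congr (hc t))
  have hw : Formal.smulMod A (𝔐.F N) t ≫ Formal.smulMod A (𝔐.F N) (t ^ N) = 0 := by
    rw [W7Exist.smulMod_comp, ← pow_succ]
    refine (pushFF (j N)).map_injective ?_
    rw [hp, Functor.map_zero]
    exact smulMod_push_eq_zero (j N) (ker_completionToX h𝓘 N) (𝔐.F N)
  have hex : (ShortComplex.mk _ _ hw).Exact := (ShortComplex.exact_iff_image_eq_kernel _).2 hk.symm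
  have hex' := hex.map (Scheme.Modules.pushforward (j N))
  obtain ⟨K', π, hπ, z, hz⟩ := hex'.exact_up_to_refinements y ((congrArg (y ≫ ·) (hp (t ^ N))).trans hy)
  exact ⟨K', π, hπ, z, hz.trans (congrArg (z ≫ ·) (hp t))⟩

include h𝓘 hreg in
theorem smul_kill (n : ℕ) {K : X.Modules} (x : K ⟶ sysObj 𝔐 (n + 1))
    (hx : x ≫ Formal.smulMod A (sysObj 𝔐 (n + 1)) t = 0) : ∀ i, i ≤ n + 1 →
    ∃ (K' : X.Modules) (π : K' ⟶ K) (_ : Epi π) (y : K' ⟶ sysObj 𝔐 (n + 1)),
      π ≫ x = y ≫ Formal.smulMod A (sysObj 𝔐 (n + 1)) (t ^ i) ∧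
        y ≫ Formal.smulMod A (sysObj 𝔐 (n + 1)) (t ^ (i + 1)) = 0
  | 0, _ => ⟨K, 𝟙 K, inferInstance, x, by rw [pow_zero, smulMod_one, Category.comp_id, Category.id_comp],
      by rw [zero_add, pow_one]; exact hx⟩
  | i + 1, hi => by
    obtain ⟨K', π, hπ, y, h1, h2⟩ := smul_kill n x hx i (by omega)
    have hy : y ≫ Formal.smulMod A (sysObj 𝔐 (n + 1)) (t ^ (n + 1)) = 0 := by
      obtain ⟨d, hd⟩ := Nat.exists_eq_add_of_le hi
      have e : t ^ (n + 1) = t ^ d * t ^ (i + 1) := by rw [← pow_add, hd, add_comm]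
      rw [e, ← W7Exist.smulMod_comp, ← Category.assoc, h2, zero_comp]
    obtain ⟨K'', π', hπ', z, hz⟩ := exists_lift_of_pow h𝓘 𝔐 hreg (n + 1) (Nat.le_add_left 1 n) y hy
    refine ⟨K'', π' ≫ π, epi_comp _ _, z, ?_, ?_⟩
    · rw [Category.assoc, h1, ← Category.assoc, hz, Category.assoc, W7Exist.smulMod_comp, ← pow_succ]
    · rw [pow_succ, ← W7Exist.smulMod_comp, ← Category.assoc, ← hz, Category.assoc, h2, comp_zero]

include h𝓘 hreg in
theorem exists_tower_sys (hcoh : 𝔐.IsCoh) :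
    ∃ T : Tower X t, T.G = sysFun 𝔐 := by
  have hG := isCohFormal_sysFun h𝓘 𝔐 hcoh
  choose μ hμ using W7Exist.exists_mul hG t (Ideal.mem_span_singleton_self t)
  refine ⟨⟨sysFun 𝔐, hG, μ, hμ, fun n => Preadditive.mono_of_cancel_zero _ fun {K} k hk => ?_⟩, rfl⟩
  haveI := W7Exist.epi_tn hG n
  obtain ⟨K₁, π, hπ, x, hx⟩ := surjective_up_to_refinements_of_epi (W7Exist.tn (sysFun 𝔐) n) k
  obtain ⟨K₂, π', hπ', y, h1, -⟩ := smul_kill h𝓘 𝔐 hreg n x (by
    show x ≫ Formal.smulMod A ((sysFun 𝔐).obj (op (n + 1))) t = 0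
    rw [← hμ n, ← Category.assoc, ← hx, Category.assoc, hk, comp_zero]) (n + 1) le_rfl
  haveI := hπ
  haveI := hπ'
  rw [← cancel_epi π, ← cancel_epi π', comp_zero, comp_zero, hx, ← Category.assoc, h1, Category.assoc]
  refine (congrArg (y ≫ ·) ?_).trans comp_zero
  show Formal.smulMod A ((sysFun 𝔐).obj (op (n + 1))) (t ^ (n + 1)) ≫ W7Exist.tn (sysFun 𝔐) n = 0
  rw [W7Cech.smulMod_natural, hG.2.1 n _ (Ideal.pow_mem_pow (Ideal.mem_span_singleton_self t) _), comp_zero]

theorem sysPull_hom (n : ℕ) : (Scheme.Modules.pullback ((FSch.completionAlong X 𝓘).ι n)).map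
      ((Scheme.Modules.pullbackPushforwardAdjunction (j (n + 1))).counit.app (𝔐.F (n + 1))) ≫ (𝔐.e n).hom =
      (pullPullIso n (sysObj 𝔐 (n + 1))).hom ≫ (sysPull 𝔐 n).hom :=
  (Iso.hom_inv_id_assoc (pullPullIso n (sysObj 𝔐 (n + 1))) _).symm

theorem pullPullIso_natural (n : ℕ) {M N : X.Modules} (f : M ⟶ N) :
    (Scheme.Modules.pullback ((FSch.completionAlong X 𝓘).ι n)).map ((Scheme.Modules.pullback (j (n + 1))).map f) ≫
      (pullPullIso n N).hom = (pullPullIso n M).hom ≫ (Scheme.Modules.pullback (j n)).map f :=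
  ppIso_natural _ _ _ (ι_completionToX n) f

variable (F : X.Modules)

/-- The adjoint of a map to the system. -/
def adjMap (n : ℕ) (φ : F ⟶ sysObj 𝔐 n) : (Scheme.Modules.pullback (j n)).obj F ⟶ 𝔐.F n :=
  ((Scheme.Modules.pullbackPushforwardAdjunction (j n)).homEquiv _ _).symm φ

theorem adjMap_comm (φ : ∀ n, F ⟶ sysObj 𝔐 n) (hφ : ∀ n, φ (n + 1) ≫ sysTn 𝔐 n = φ n) (n : ℕ) :
    (Scheme.Modules.pullback ((FSch.completionAlong X 𝓘).ι n)).map (adjMap 𝔐 F (n + 1) (φ (n + 1))) ≫ (𝔐.e n).hom =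
      (pullPullIso n F).hom ≫ adjMap 𝔐 F n (φ n) := by
  rw [adjMap, Adjunction.homEquiv_counit, Functor.map_comp, Category.assoc, sysPull_hom, ← Category.assoc]
  refine (congrArg (· ≫ (sysPull 𝔐 n).hom) (pullPullIso_natural n (φ (n + 1)))).trans ?_
  rw [Category.assoc]
  refine congrArg ((pullPullIso n F).hom ≫ ·) ?_
  refine ((Scheme.Modules.pullbackPushforwardAdjunction (j n)).homEquiv _ _).injective ?_
  rw [Adjunction.homEquiv_naturality_left, adjMap, Equiv.apply_symm_apply]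
  exact hφ n

include h𝓘 in
theorem isIso_adjMap (n : ℕ) (α : Formal.modPow (Ideal.span {t}) (n + 1) F ≅ sysObj 𝔐 n) :
    IsIso (adjMap 𝔐 F n (Formal.modPowπ (Ideal.span {t}) (n + 1) F ≫ α.hom)) := by
  obtain ⟨β, hβ⟩ := exists_iso_modPow (j n) (ker_completionToX h𝓘 n) F
  have e : (Scheme.Modules.pushforward (j n)).map (adjMap 𝔐 F n (Formal.modPowπ (Ideal.span {t}) (n + 1) F ≫ α.hom)) =
      β.inv ≫ α.hom := by
    rw [Iso.eq_inv_comp]
    refine coequalizer.hom_ext ?_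
    show Formal.modPowπ (Ideal.span {t}) (n + 1) F ≫ _ ≫ _ = Formal.modPowπ (Ideal.span {t}) (n + 1) F ≫ α.hom
    rw [← Category.assoc, hβ]
    exact ((Scheme.Modules.pullbackPushforwardAdjunction (j n)).homEquiv_unit _ _ _).symm.trans (Equiv.apply_symm_apply _ _)
  haveI : IsIso ((Scheme.Modules.pushforward (j n)).map
      (adjMap 𝔐 F n (Formal.modPowπ (Ideal.span {t}) (n + 1) F ≫ α.hom))) := by
    rw [e]; infer_instance
  haveI := (pushFF (j n)).full
  haveI := (pushFF (j n)).faithful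
  exact isIso_of_reflects_iso _ (Scheme.Modules.pushforward (j n))

theorem completionMod_e_hom (n : ℕ) : ((FSch.completionMod 𝓘 F).e n).hom = (pullPullIso n F).hom := by
  simp only [FSch.completionMod, pullPullIso, ppIso]
  rfl

/-- An isomorphism of module systems from levelwise isomorphisms. -/
def completionModIso (ψ : ∀ n, (Scheme.Modules.pullback (j n)).obj F ≅ 𝔐.F n)
    (hcomm : ∀ n, (Scheme.Modules.pullback ((FSch.completionAlong X 𝓘).ι n)).map (ψ (n + 1)).hom ≫ (𝔐.e n).hom =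
      (pullPullIso n F).hom ≫ (ψ n).hom) : FSch.completionMod 𝓘 F ≅ 𝔐 where
  hom := ⟨fun n => (ψ n).hom, fun n => (hcomm n).trans (congrArg (· ≫ (ψ n).hom) (completionMod_e_hom F n).symm)⟩
  inv := ⟨fun n => (ψ n).inv, fun n => by
    refine (congrArg ((Scheme.Modules.pullback _).map (ψ (n + 1)).inv ≫ ·) (completionMod_e_hom F n)).trans ?_
    rw [Iso.eq_comp_inv, Category.assoc, ← hcomm n, ← Category.assoc, ← Functor.map_comp, Iso.inv_hom_id,
      CategoryTheory.Functor.map_id, Category.id_comp]⟩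
  hom_inv_id := FSch.ModSys.Hom.ext (funext fun n => (ψ n).hom_inv_id)
  inv_hom_id := FSch.ModSys.Hom.ext (funext fun n => (ψ n).inv_hom_id)

include h𝓘 in
/-- An algebraization of the system algebraizes the module system. -/
theorem nonempty_completionMod_iso (α : Formal.completion (Ideal.span {t}) F ≅ sysFun 𝔐) :
    Nonempty (FSch.completionMod 𝓘 F ≅ 𝔐) := by
  let φ : ∀ n, F ⟶ sysObj 𝔐 n := fun n => Formal.modPowπ (Ideal.span {t}) (n + 1) F ≫ α.hom.app (op n)
  have hφ : ∀ n, φ (n + 1) ≫ sysTn 𝔐 n = φ n := fun n => by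
    show (_ ≫ α.hom.app (op (n + 1))) ≫ sysTn 𝔐 n = _
    rw [← sysFun_tn, Category.assoc]
    refine (congrArg (_ ≫ ·) (α.hom.naturality (homOfLE (Nat.le_succ n)).op).symm).trans ?_
    rw [← Category.assoc]
    refine congrArg (· ≫ α.hom.app (op n)) ?_
    rw [show (Formal.completion (Ideal.span {t}) F).map (homOfLE (Nat.le_succ n)).op =
      Formal.modPowTrans (Ideal.span {t}) (n + 1) F from Functor.ofOpSequence_map_homOfLE_succ _ n]
    exact Formal.modPowπ_trans (Ideal.span {t}) (n + 1) F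
  exact ⟨completionModIso 𝔐 F (fun n => @asIso _ _ _ _ (adjMap 𝔐 F n (φ n)) (isIso_adjMap h𝓘 𝔐 F n (α.app (op n))))
    (adjMap_comm 𝔐 F φ hφ)⟩

end

end Groth.Agent.FormAlg
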