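import Groth.Agent.FormAlg.FreeTower
import Groth.Agent.FormAlg.OpenModel

/-!
Algebraization of locally free formal systems for a principal ideal.
-/

set_option autoImplicit false
set_option maxHeartbeats 1000000
set_option linter.style.haveILetI false
set_option backward.isDefEq.respectTransparency false
set_option backward.isDefEq.respectTransparency.types false
universe u

namespace Groth.Agent.FormAlg

open CategoryTheory CategoryTheory.Limits AlgebraicGeometry TopologicalSpace Opposite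
open Groth.Agent.PunctArt (RR HU')

noncomputable section

/-- Two restrictions as one. -/
def restrictTwiceIso {R : CommRingCat.{u}} (U : (Spec R).Opens) (V : (↑U : Scheme.{u}).Opens) (L : (Spec R).Modules) :
    L.restrict (U.ι ''ᵁ V).ι ≅
      (Scheme.Modules.restrictFunctor (U.ι.isoImage V).inv).obj
        ((Scheme.Modules.restrictFunctor V.ι).obj (L.restrict U.ι)) :=
  (Scheme.Modules.restrictFunctorCongr (Scheme.Hom.isoImage_inv_ι U.ι V).symm).app L ≪≫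
    (Scheme.Modules.restrictFunctorComp (U.ι.isoImage V).inv (V.ι ≫ U.ι)).app L ≪≫
    (Scheme.Modules.restrictFunctor (U.ι.isoImage V).inv).mapIso
      ((Scheme.Modules.restrictFunctorComp V.ι U.ι).app L)

theorem exists_retract_near {R : CommRingCat.{u}} [IsNoetherianRing R] (U : (Spec R).Opens)
    (V : (↑U : Scheme.{u}).Opens) {N Q : ModuleCat.{u} R} [Module.Finite R N] [Module.Finite R Q]
    (e : (Scheme.Modules.restrictFunctor V.ι).obj ((tilde N).restrict U.ι) ≅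
      (Scheme.Modules.restrictFunctor V.ι).obj ((tilde Q).restrict U.ι)) {x : (↑U : Scheme.{u})} (hx : x ∈ V) :
    ∃ (g : R), g ∉ (U.ι.base x).asIdeal ∧ ∃ (φ : N →ₗ[R] Q) (ψ : Q →ₗ[R] N), ∀ y, ψ (φ y) = g • y := by
  obtain ⟨r, hxr, hr⟩ := LocH.exists_basicOpen_le (A := R) (U := U.ι ''ᵁ V) (x := U.ι.base x) ⟨x, hx, rfl⟩
  obtain ⟨n, φ, ψ, h⟩ := exists_retract_of_iso (restrictTwiceIso U V (tilde N) ≪≫
    (Scheme.Modules.restrictFunctor (U.ι.isoImage V).inv).mapIso e ≪≫ (restrictTwiceIso U V (tilde Q)).symm) hr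
  exact ⟨r ^ n, fun h => hxr ((U.ι.base x).isPrime.mem_of_pow_mem n h), φ, ψ, h⟩

variable {A : Type u} [CommRing A] [IsNoetherianRing A] (𝔞 : Ideal A) (f : A)

local notation "U𝔞" => EGA4.openCompl A 𝔞

theorem finite_bottom {G : (↑U𝔞 : Scheme.{u}).Modules} (hc : Coh.IsCoh G)
    (hfree : Formal2.IsFinLocFreeMod (Ideal.span {f}) 1 G)
    (h₁ : Module.Finite A (LocCoh.H 𝔞 1 (A ⧸ Ideal.span {f ^ 1})))
    (h₂ : Module.Finite A (LocCoh.H 𝔞 2 (A ⧸ Ideal.span {f ^ 1}))) :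
    Module.Finite A (Coh.HH (↑U𝔞 : Scheme.{u}) G 0) ∧ Module.Finite A (Coh.HH (↑U𝔞 : Scheme.{u}) G 1) := by
  classical
  obtain ⟨N, hN, ⟨e₀⟩⟩ := ZarPair.exists_tilde_restrict (R := CommRingCat.of A) U𝔞 G hc.1 hc.2
  have hN' : Module.Finite A N := hN
  let S : Set A := {g | ∃ (r : ℕ) (φ : N →ₗ[A] (Fin r → A ⧸ Ideal.span {f ^ 1}))
    (ψ : (Fin r → A ⧸ Ideal.span {f ^ 1}) →ₗ[A] N), ∀ y, ψ (φ y) = g • y}
  have hS : ∀ x : (↑U𝔞 : Scheme.{u}), ∃ g ∈ S, g ∉ ((EGA4.openCompl A 𝔞).ι.base x : PrimeSpectrum A).asIdeal := fun x => by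
    obtain ⟨V, r, hxV, ⟨e⟩⟩ := hfree x
    obtain ⟨i⟩ := nonempty_modPow_free U𝔞 f 1 r
    haveI : Module.Finite (CommRingCat.of A) (pwQ f 1 r) := inferInstanceAs (Module.Finite A (Fin r → A ⧸ Ideal.span {f ^ 1}))
    obtain ⟨g, hg, φ, ψ, h⟩ := exists_retract_near (R := CommRingCat.of A) U𝔞 V (N := N) (Q := pwQ f 1 r)
      ((Scheme.Modules.restrictFunctor V.ι).mapIso e₀ ≪≫ e ≪≫ (Scheme.Modules.restrictFunctor V.ι).mapIso i) hxV
    exact ⟨g, ⟨r, φ, ψ, h⟩, hg⟩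
  obtain ⟨t, ht, hspan⟩ := (Submodule.fg_span_iff_fg_span_finset_subset (R := A) S).1 (IsNoetherian.noetherian _)
  have h𝔞 : 𝔞 ≤ (Ideal.span (Set.range fun i : Fin t.card => (t.equivFin.symm i : A))).radical := by
    rw [Ideal.radical_eq_sInf]
    refine le_sInf fun p ⟨hp, hp'⟩ => ?_
    by_contra h
    obtain ⟨g, hgS, hgp⟩ := hS ⟨⟨p, hp'⟩, h⟩
    refine hgp ?_
    have : g ∈ Submodule.span A (t : Set A) := hspan ▸ Submodule.subset_span hgS
    refine (Submodule.span_le (p := p)).2 (fun y hy => hp (Ideal.subset_span ⟨t.equivFin ⟨y, hy⟩, by simp⟩)) this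
  choose r φ ψ hψ using fun i : Fin t.card => (ht (t.equivFin.symm i).2 : (t.equivFin.symm i : A) ∈ S)
  let P : ModuleCat.{u} A := ModuleCat.of A ((Σ i : Fin t.card, Fin (r i)) → A ⧸ Ideal.span {f ^ 1})
  let Φ : N ⟶ P := ModuleCat.ofHom (LinearMap.pi fun q => (LinearMap.proj q.2).comp (φ q.1))
  let ψ' : ∀ _ : Fin t.card, P ⟶ N := fun i =>
    ModuleCat.ofHom ((ψ i).comp (LinearMap.funLeft A _ fun j : Fin (r i) => (⟨i, j⟩ : Σ i, Fin (r i))))
  have hψ' : ∀ i, Φ ≫ ψ' i = (t.equivFin.symm i : A) • 𝟙 (ModuleCat.of A N) :=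
    fun i => ModuleCat.hom_ext (LinearMap.ext fun y => hψ i y)
  haveI : Module.Finite A (HU' U𝔞 0 (ModuleCat.of A (A ⧸ Ideal.span {f ^ 1}))) := by
    haveI := h₁
    exact finite_HU_zero 𝔞 (A ⧸ Ideal.span {f ^ 1})
  haveI : Module.Finite A (HU' U𝔞 1 (ModuleCat.of A (A ⧸ Ideal.span {f ^ 1}))) := by
    obtain ⟨e⟩ := nonempty_linearEquiv 𝔞 0 (ModuleCat.of A (A ⧸ Ideal.span {f ^ 1}))
    haveI : Module.Finite A ↑((localCohomology 𝔞 (0 + 2)).obj (ModuleCat.of A (A ⧸ Ideal.span {f ^ 1}))) := h₂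
    exact Module.Finite.equiv e.symm
  haveI : Module.Finite A (HU' U𝔞 0 P) := finite_H_pi 𝔞 _ _ 0
  haveI : Module.Finite A (HU' U𝔞 1 P) := finite_H_pi 𝔞 _ _ 1
  haveI := finite_H0_of_retract 𝔞 _ h𝔞 ψ' (fun _ => Φ) hψ'
  haveI := finite_H1_of_retract 𝔞 _ h𝔞 ψ' Φ hψ'
  exact ⟨Module.Finite.equiv (M := HU' U𝔞 0 (ModuleCat.of A N)) (CohFinite.hhEquiv A e₀ 0),
    Module.Finite.equiv (M := HU' U𝔞 1 (ModuleCat.of A N)) (CohFinite.hhEquiv A e₀ 1)⟩

theorem algebraize_free (hf : f ∈ nonZeroDivisors A) [IsAdicComplete (Ideal.span {f}) A]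
    (h₁ : Module.Finite A (LocCoh.H 𝔞 1 (A ⧸ Ideal.span {f})))
    (h₂ : Module.Finite A (LocCoh.H 𝔞 2 (A ⧸ Ideal.span {f})))
    (G : ℕᵒᵖ ⥤ (↑U𝔞 : Scheme.{u}).Modules) (hG : Formal.IsCohFormal (Ideal.span {f}) G)
    (hfree : ∀ n : ℕ, Formal2.IsFinLocFreeMod (Ideal.span {f}) (n + 1) (G.obj (op n))) :
    ∃ F : (↑U𝔞 : Scheme.{u}).Modules, Coh.IsCoh F ∧ Nonempty (Formal.completion (Ideal.span {f}) F ≅ G) := by
  obtain ⟨T, rfl⟩ := exists_tower hf G hG hfree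
  obtain ⟨h0, h1⟩ := finite_bottom 𝔞 f (T.hG.1 0) (hfree 0) (by rwa [pow_one]) (by rwa [pow_one])
  exact algebraize_open T h0 h1

end

end Groth.Agent.FormAlg
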