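import Groth.Agent.FormAlg.PicExtend
import Groth.Agent.ParaFLib.UfdApply
import Groth.Agent.LocH.TildeCompl
import Groth.Agent.S2824
import Groth.Agent.FormAlg.CIPic

/-!
Parafactorial pairs from parafactorial local rings.
-/

set_option autoImplicit false
set_option maxHeartbeats 1000000
set_option linter.style.haveILetI false
set_option backward.isDefEq.respectTransparency false
set_option backward.isDefEq.respectTransparency.types false
universe u

namespace Groth.Agent.FormAlg

open CategoryTheory CategoryTheory.Limits AlgebraicGeometry TopologicalSpace Opposite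
open Groth.Agent.QC (res resO res_res)
open TMul (IsGen val homOf)

noncomputable section

theorem two_le_depth_of_parafactorial (A : Type u) [CommRing A] [IsNoetherianRing A] [IsLocalRing A]
    (h : ParaF.IsParafactorialLocalRing A) : (2 : ℕ∞) ≤ LocCoh.depth A A := by
  have hb := ((S2824.result A).1 h).1
  have h1 : Function.Bijective (EGA4.restrCompl A (IsLocalRing.maximalIdeal A) A) := by
    rw [puncturedSpec_eq A] at hb
    exact hb
  exact (LocH.bijective_restrCompl_iff_two_le (IsLocalRing.maximalIdeal A)).1 h1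

theorem isParafactorial_congr {A B : Type u} [CommRing A] [IsNoetherianRing A] [IsLocalRing A] [CommRing B]
    [IsNoetherianRing B] [IsLocalRing B] (e : A ≃+* B) (h : ParaF.IsParafactorialLocalRing A) :
    ParaF.IsParafactorialLocalRing B :=
  (S2824.result B).2 ⟨bijective_restrict_punctured B
    ((two_le_depth_of_parafactorial A h).trans_eq (Purity.depth_eq_of_ringEquiv e).symm),
    picTrivial_punctured_congr e ((S2824.result A).1 h).2⟩

variable {X : Scheme.{u}} [IsLocallyNoetherian X]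

/-- A generator near a point all whose proper generalisations lie in the open. -/
theorem exists_gen_nhd {V : X.Opens} {F : X.Modules} (hF : UfdExtend.RankOne V F) {z : X} (hz : z ∉ V)
    (hgen : ∀ y : X, y ⤳ z → y ≠ z → y ∈ V)
    (hP : ParaF.PicTrivial (↑(FEt.puncturedSpec (X.presheaf.stalk z)) : Scheme.{u})) :
    ∃ N : X.Opens, z ∈ N ∧ ∃ g : Γ(F, N ⊓ V), IsGen g := by
  classical
  obtain ⟨W, hW, hzW, -⟩ := exists_isAffineOpen_mem_and_subset (x := z) (U := (⊤ : X.Opens)) trivial
  haveI : IsNoetherianRing Γ(X, W) := IsLocallyNoetherian.component_noetherian ⟨W, hW⟩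
  haveI : NoetherianSpace (Spec Γ(X, W)) := inferInstanceAs (NoetherianSpace (PrimeSpectrum Γ(X, W)))
  haveI := hW.isOpenImmersion_fromSpec
  let O : X.Opens := W ⊓ V
  let f : (↑O : Scheme.{u}) ⟶ Spec Γ(X, W) := IsOpenImmersion.lift hW.fromSpec O.ι (by
    rw [hW.range_fromSpec, Scheme.Opens.range_ι]; exact fun y hy => hy.1)
  have hf : f ≫ hW.fromSpec = O.ι := IsOpenImmersion.lift_fac _ _ _
  haveI : IsOpenImmersion f := by
    haveI : IsOpenImmersion (f ≫ hW.fromSpec) := by rw [hf]; infer_instance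
    exact IsOpenImmersion.of_comp f hW.fromSpec
  letI := X.presheaf.algebra_section_stalk (⟨z, hzW⟩ : W)
  haveI := hW.isLocalization_stalk ⟨z, hzW⟩
  let q : PrimeSpectrum Γ(X, W) := hW.primeIdealOf ⟨z, hzW⟩
  let R := X.presheaf.stalk z
  let g := Spec.map (CommRingCat.ofHom (algebraMap Γ(X, W) R))
  let Q := FEt.puncturedSpec R
  have hg : g ≫ hW.fromSpec = X.fromSpecStalk z := by
    rw [← hW.fromSpecStalk_eq_fromSpecStalk hzW]
    rfl
  have hgz : ∀ p : Spec (CommRingCat.of R), hW.fromSpec.base (g.base p) = z → p = IsLocalRing.closedPoint R := fun p hp => by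
    refine (X.fromSpecStalk z).isEmbedding.injective ?_
    rw [Scheme.fromSpecStalk_closedPoint]
    exact (congrArg (fun φ => φ.base p) hg).symm.trans hp
  let ρ : (↑Q : Scheme.{u}) ⟶ X := Q.ι ≫ g ≫ hW.fromSpec
  have hρV : Set.range ρ.base ⊆ Set.range V.ι.base := by
    rw [Scheme.Opens.range_ι]
    rintro _ ⟨y, rfl⟩
    refine hgen _ ?_ fun e => y.2 (hgz y.1 e)
    have h1 : (Q.ι.base y : Spec (CommRingCat.of R)) ⤳ IsLocalRing.closedPoint R :=
      IsLocalRing.specializes_closedPoint (R := R) y.1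
    have h2 := h1.map (X.fromSpecStalk z).continuous
    rw [Scheme.fromSpecStalk_closedPoint, ← hg] at h2
    exact h2
  let σ : (↑Q : Scheme.{u}) ⟶ ↑V := IsOpenImmersion.lift V.ι ρ hρV
  have hσ : σ ≫ V.ι = ρ := IsOpenImmersion.lift_fac _ _ _
  have hVinv : PicF.IsInvertible (F.restrict V.ι) := InvGen.isInvertible_restrict V.ι fun y => by
    obtain ⟨N, t, hyN, ht⟩ := hF.gen (V.ι.base y) y.2
    exact ⟨N, t, hyN, ht⟩
  have hOinv : PicF.IsInvertible (F.restrict O.ι) := InvGen.isInvertible_restrict O.ι fun y => by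
    obtain ⟨N, t, hyN, ht⟩ := hF.gen (O.ι.base y) y.2.2
    exact ⟨N, t, hyN, ht⟩
  obtain ⟨τ⟩ := hP ((Scheme.Modules.pullback σ).obj (F.restrict V.ι)) (PicLoc.isInvertible_pullback σ hVinv)
  have hv : Set.range (pullback.snd f g).base ⊆ Set.range Q.ι.base := by
    rw [Scheme.Opens.range_ι]
    rintro _ ⟨w, rfl⟩ e
    have h1 : f.base ((pullback.fst f g).base w) = g.base ((pullback.snd f g).base w) :=
      congrArg (fun φ : pullback f g ⟶ _ => φ.base w) pullback.condition
    have h2 := congrArg hW.fromSpec.base h1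
    rw [show (pullback.snd f g).base w = IsLocalRing.closedPoint R from e] at h2
    have h3 : O.ι.base ((pullback.fst f g).base w) = z := by
      rw [← hf]
      refine h2.trans ?_
      exact (congrArg (fun φ => φ.base (IsLocalRing.closedPoint R)) hg).trans Scheme.fromSpecStalk_closedPoint
    exact hz (h3 ▸ ((pullback.fst f g).base w).2.2)
  let v := IsOpenImmersion.lift Q.ι (pullback.snd f g) hv
  have hfac : pullback.fst f g ≫ O.ι = (v ≫ σ) ≫ V.ι := by
    rw [Category.assoc, hσ, ← hf, ← Category.assoc, pullback.condition, Category.assoc,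
      show v ≫ ρ = pullback.snd f g ≫ g ≫ hW.fromSpec from by rw [← Category.assoc v, IsOpenImmersion.lift_fac]]
  obtain ⟨m, hm⟩ := exists_section_gen q.asIdeal.primeCompl f (IsPullback.of_hasPullback f g) hOinv
    ((Scheme.Modules.pullback _).mapIso ((Scheme.Modules.restrictFunctorIsoPullback O.ι).app F) ≪≫
      (Scheme.Modules.pullbackComp _ O.ι).app F ≪≫ (Scheme.Modules.pullbackCongr hfac).app F ≪≫
      ((Scheme.Modules.pullbackComp (v ≫ σ) V.ι).app F).symm ≪≫
      (Scheme.Modules.pullback (v ≫ σ)).mapIso ((Scheme.Modules.restrictFunctorIsoPullback V.ι).app F).symm ≪≫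
      ((Scheme.Modules.pullbackComp v σ).app _).symm ≪≫ (Scheme.Modules.pullback v).mapIso τ ≪≫
      PicLoc.pullbackStructureIso v)
  let G := CohB1.genLocus (F.restrict O.ι) (homOf m)
  have hG := (TMul.isGen_restrict_iff O.ι (homOf m) G).1 (TMul.isGen_genLocus (homOf m))
  obtain ⟨s, hsq, hsG⟩ := exists_basicOpen_inf_le (O := f.opensRange) (G := f ''ᵁ G)
    (NoetherianSpace.isCompact _) q (by
      rintro ⟨y, hy⟩
      have h1 : O.ι.base y = z := by
        rw [← hf]
        exact (congrArg hW.fromSpec.base hy).trans (hW.fromSpec_primeIdealOf ⟨z, hzW⟩)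
      exact hz (h1 ▸ y.2.2))
    (by
      rintro r hr ⟨y, rfl⟩
      obtain ⟨p, hp⟩ : f.base y ∈ Set.range g.base := by
        have h1 := PrimeSpectrum.localization_comap_range R q.asIdeal.primeCompl
        exact h1.ge (Set.disjoint_left.2 fun x hx hx' => hx (hr hx'))
      obtain ⟨w, hw1, -⟩ := Scheme.Pullback.exists_preimage_pullback (f := f) (g := g) y p hp.symm
      exact ⟨y, hm ⟨w, hw1⟩, rfl⟩)
  refine ⟨X.basicOpen s, (UfdExtend.mem_basicOpen_iff hW hzW s).2 hsq, ?_⟩
  have hle : X.basicOpen s ⊓ V ≤ O.ι ''ᵁ G := by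
    rintro y ⟨hys, hyV⟩
    have hyW := X.basicOpen_le s hys
    let y' : (↑O : Scheme.{u}) := ⟨y, hyW, hyV⟩
    have hy' : f.base y' = hW.primeIdealOf ⟨y, hyW⟩ := hW.fromSpec.isOpenEmbedding.injective
      ((congrArg (fun φ => φ.base y') hf).trans (hW.fromSpec_primeIdealOf ⟨y, hyW⟩).symm)
    obtain ⟨y'', hy'', e⟩ := hsG (show f.base y' ∈ PrimeSpectrum.basicOpen s ⊓ f.opensRange from
      ⟨hy' ▸ (UfdExtend.mem_basicOpen_iff hW hyW s).1 hys, ⟨y', rfl⟩⟩)
    obtain rfl : y'' = y' := f.isOpenEmbedding.injective e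
    exact ⟨y', hy'', rfl⟩
  exact ⟨_, hG.res hle⟩

/-- The direct image of an invertible module across parafactorial local rings is invertible. -/
theorem isInvertible_push_of_stalks (U : X.Opens)
    (h : ∀ x : X, x ∉ U → ParaF.IsParafactorialLocalRing (X.presheaf.stalk x))
    (L : (↑U : Scheme.{u}).Modules) (hL : PicF.IsInvertible L) :
    PicF.IsInvertible ((Scheme.Modules.pushforward U.ι).obj L) := by
  let F := (Scheme.Modules.pushforward U.ι).obj L
  have hO : ParaFLib.SecBij U (Coh.structureModule X) :=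
    ParaFLib.secBij_of_depth U fun x hx => two_le_depth_of_parafactorial _ (h x hx)
  have hR := S0234.rankOne_pushforward U hL
  let W : X.Opens := ⟨{x | ∃ (N : X.Opens) (e : Γ(F, N)), x ∈ N ∧ IsGen e},
    isOpen_iff_forall_mem_open.2 fun x ⟨N, e, hx, he⟩ => ⟨N, fun y hy => ⟨N, e, hy, he⟩, N.isOpen, hx⟩⟩
  have hUW : U ≤ W := fun x hx => hR.gen x hx
  have key : ∀ (M : X.Modules), ParaFLib.SecBij U M → ParaFLib.SecBij W M := fun M hM V => by
    have h1 := hM V
    have h2 := hM (V ⊓ W)
    have h3 : Function.Bijective (res M (inf_le_inf_right U inf_le_left : V ⊓ W ⊓ U ≤ V ⊓ U)) := by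
      have e : V ⊓ U ≤ V ⊓ W ⊓ U := le_inf (le_inf inf_le_left (inf_le_right.trans hUW)) inf_le_right
      refine Function.bijective_iff_has_inverse.2 ⟨res M e, fun a => ?_, fun a => ?_⟩ <;>
        rw [res_res, Groth.Agent.QC.res_self]
    refine (Function.Bijective.of_comp_iff' h2 _).1 ?_
    have : (res M (inf_le_left : V ⊓ W ⊓ U ≤ V ⊓ W) ∘ res M (inf_le_left : V ⊓ W ≤ V) : _ → _) =
        res M (inf_le_inf_right U inf_le_left) ∘ res M (inf_le_left : V ⊓ U ≤ V) := funext fun a => by
      simp only [Function.comp_apply, res_res]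
    rw [this]
    exact h3.comp h1
  have hWF : UfdExtend.RankOne W F := ⟨key F hR.bij, fun x hx => hx⟩
  refine InvGen.isInvertible fun x => ?_
  suffices hx : x ∈ W by
    obtain ⟨N, e, hxN, he⟩ := hx
    exact ⟨N, e, hxN, he⟩
  by_contra hx
  let C : Set X := (W : Set X)ᶜ
  obtain ⟨z, hzC, hzmax⟩ : ∃ z ∈ C, ∀ y : X, y ⤳ z → y ≠ z → y ∈ W := by
    have hC : IsClosed C := W.isOpen.isClosed_compl
    obtain ⟨T, hT, hxT, hTC, hTmax⟩ : ∃ T : Set X, IsIrreducible T ∧ x ∈ T ∧ T ⊆ C ∧
        ∀ T' : Set X, IsPreirreducible T' → T ⊆ T' → T' ⊆ C → T' = T := by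
      let K := irreducibleComponent (⟨x, hx⟩ : C)
      have hK := irreducibleComponent_mem_irreducibleComponents (⟨x, hx⟩ : C)
      refine ⟨Subtype.val '' K, hK.1.image _ continuous_subtype_val.continuousOn,
        ⟨⟨x, hx⟩, mem_irreducibleComponent, rfl⟩, by rintro _ ⟨a, -, rfl⟩; exact a.2, fun T' hT' hle hT'C => ?_⟩
      refine Set.Subset.antisymm (fun y hy => ?_) hle
      have hne : (Subtype.val ⁻¹' T' : Set C).Nonempty := ⟨⟨x, hx⟩, hle ⟨_, mem_irreducibleComponent, rfl⟩⟩
      have h1 : IsPreirreducible (Subtype.val ⁻¹' T' : Set C) := by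
        rintro u v hu hv ⟨a, haT, hau⟩ ⟨b, hbT, hbv⟩
        obtain ⟨u', hu', rfl⟩ := isOpen_induced_iff.1 hu
        obtain ⟨v', hv', rfl⟩ := isOpen_induced_iff.1 hv
        obtain ⟨c, hcT, hcu, hcv⟩ := hT' u' v' hu' hv' ⟨a.1, haT, hau⟩ ⟨b.1, hbT, hbv⟩
        exact ⟨⟨c, hT'C hcT⟩, hcT, hcu, hcv⟩
      have h2 : (Subtype.val ⁻¹' T' : Set C) ⊆ K := hK.2 ⟨hne, h1⟩ fun a ha => hle ⟨a, ha, rfl⟩
      exact ⟨⟨y, hT'C hy⟩, h2 hy, rfl⟩
    have hcl : closure T = T :=
      hTmax _ hT.2.closure subset_closure (closure_minimal hTC hC)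
    obtain ⟨z, hz⟩ := QuasiSober.sober hT (hcl ▸ isClosed_closure)
    refine ⟨z, hTC hz.mem, fun y hyz hne => ?_⟩
    by_contra hy
    refine hne ?_
    have h1 : closure {y} = T := by
      refine hTmax _ isIrreducible_singleton.closure.2 ?_ (closure_minimal (Set.singleton_subset_iff.2 hy) hC)
      rw [← hz.def]
      exact closure_minimal (Set.singleton_subset_iff.2 (specializes_iff_mem_closure.1 hyz)) isClosed_closure
    exact (show IsGenericPoint y T from h1).eq hz
  obtain ⟨N, hzN, g, hg⟩ := exists_gen_nhd hWF hzC hzmax ((S2824.result _).1 (h z fun hzU => hzC (hUW hzU))).2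
  obtain ⟨g', rfl⟩ := (hWF.bij N).2 g
  refine hzC ⟨N, g', hzN, fun O hON => ?_⟩
  have e : (res F (inf_le_left : O ⊓ W ≤ O)) ∘ (fun c : Γ(X, O) => c • res F hON g') =
      (fun c : Γ(X, O ⊓ W) => c • res F (inf_le_inf_right W hON) (res F (inf_le_left : N ⊓ W ≤ N) g')) ∘
        resO X inf_le_left := funext fun c => by
    simp only [Function.comp_apply, Groth.Agent.QC.res_smul, res_res]
  refine (Function.Bijective.of_comp_iff' (hWF.bij O) _).1 ?_
  rw [e]
  exact (hg (O ⊓ W) (inf_le_inf_right W hON)).comp (key _ hO O)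

/-- A pair is parafactorial when the local rings along the closed subset are parafactorial. -/
theorem isParafactorialPair_of_stalks (Y : Closeds X)
    (h : ∀ y : X, y ∈ Y → ParaF.IsParafactorialLocalRing (X.presheaf.stalk y)) :
    ParaF.IsParafactorialPair X Y := by
  have hd : ParaFLib.SecBij Y.compl (Coh.structureModule X) :=
    ParaFLib.secBij_of_depth _ fun x hx => two_le_depth_of_parafactorial _ (h x (not_not.1 hx))
  refine ParaFLib.isParafactorialPair_of Y hd fun V L hL => ?_
  let j := X.homOfLE (inf_le_left : V ⊓ Y.compl ≤ V)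
  let U := j.opensRange
  let e : (↑(V ⊓ Y.compl) : Scheme.{u}) ≅ ↑U := j.isoOpensRange
  have hfac : e.hom ≫ U.ι = j := by
    simp [e, U]
  have hL' : PicF.IsInvertible ((Scheme.Modules.pushforward e.hom).obj L) :=
    ParaFLib.isInvertible_of_iso (((Scheme.Modules.pullback e.inv).mapIso
        (((Scheme.Modules.restrictFunctorIsoPullback e.hom).app _).symm ≪≫
          (Scheme.Modules.restrictFunctorAdjCounitIso e.hom).app L)).symm ≪≫
      (Scheme.Modules.pullbackComp e.inv e.hom).app _ ≪≫ (Scheme.Modules.pullbackCongr e.inv_hom_id).app _ ≪≫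
      (Scheme.Modules.pullbackId _).app _) (PicLoc.isInvertible_pullback e.inv hL)
  refine ParaFLib.isInvertible_of_iso ((Scheme.Modules.pushforwardComp e.hom U.ι).app L ≪≫
    (Scheme.Modules.pushforwardCongr hfac).app L) (isInvertible_push_of_stalks U (fun x hx => ?_) _ hL')
  have hxY : V.ι.base x ∈ Y := by
    by_contra hc
    exact hx ((ParaFLib.opensRange_homOfLE (X := X) (inf_le_left : V ⊓ Y.compl ≤ V)).ge ⟨x.2, hc⟩)
  exact isParafactorial_congr (V.stalkIso x).commRingCatIsoToRingEquiv.symm (h _ hxY)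

end

end Groth.Agent.FormAlg
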