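import Groth.Agent.W7Exist.Completion
import Groth.Agent.FormAlg.SecTower
import Groth.Agent.QC.Basic
import Mathlib.Algebra.Category.ModuleCat.Abelian

/-!
Algebraization of a formal system from a module of compatible sections, in the abstract.
-/

set_option autoImplicit false
set_option maxHeartbeats 1000000
set_option linter.style.haveILetI false
set_option backward.isDefEq.respectTransparency false
set_option backward.isDefEq.respectTransparency.types false
universe u

namespace Groth.Agent.FormAlg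

open CategoryTheory CategoryTheory.Limits AlgebraicGeometry TopologicalSpace Opposite

noncomputable section

variable {A : Type u} [CommRing A] {X : Scheme.{u}} [X.Over (Spec (CommRingCat.of A))]

/-- Compatible sections with bounded lifting, over a formal system, seen through an exact functor. -/
structure AlgData (t : A) (G : ℕᵒᵖ ⥤ X.Modules) where
  R : ModuleCat.{u} A ⥤ X.Modules
  left : PreservesFiniteLimits R
  right : PreservesFiniteColimits R
  map_smul : ∀ (N : ModuleCat.{u} A) (a : A), R.map (a • 𝟙 N) = Formal.smulMod A (R.obj N) a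
  coh : ∀ (N : ModuleCat.{u} A) [Module.Finite A N], Coh.IsCoh (R.obj N)
  P : ℕ → ModuleCat.{u} A
  p : ∀ {a b : ℕ}, a ≤ b → (P b ⟶ P a)
  ω : ∀ n, R.obj (P n) ⟶ G.obj (op n)
  isIso_ω : ∀ n, IsIso (ω n)
  natural : ∀ {a b : ℕ} (h : a ≤ b), R.map (p h) ≫ ω a = ω b ≫ G.map (homOfLE h).op
  L : ModuleCat.{u} A
  finL : Module.Finite A L
  q : ∀ n, L ⟶ P n
  compat : ∀ n, q (n + 1) ≫ p (Nat.le_succ n) = q n
  ker : ∀ (n : ℕ) (z : L), (q n).hom z = 0 ↔ ∃ w : L, t ^ (n + 1) • w = z
  lift : ∀ n : ℕ, ∃ (m : ℕ) (h : n ≤ m), ∀ s : P m, ∃ z : L, (q n).hom z = (p h).hom s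

/-- The data given by the sections of a tower. -/
def AlgData.ofSecTower {t : A} [IsNoetherianRing A] [IsAdicComplete (Ideal.span {t}) A] {G : ℕᵒᵖ ⥤ X.Modules}
    (S : SecTower t) (finP : Module.Finite A (S.P 0)) (finZ : Module.Finite A S.Z) (R : ModuleCat.{u} A ⥤ X.Modules)
    (left : PreservesFiniteLimits R) (right : PreservesFiniteColimits R)
    (map_smul : ∀ (N : ModuleCat.{u} A) (a : A), R.map (a • 𝟙 N) = Formal.smulMod A (R.obj N) a)
    (coh : ∀ (N : ModuleCat.{u} A) [Module.Finite A N], Coh.IsCoh (R.obj N))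
    (ω : ∀ n, R.obj (S.P n) ⟶ G.obj (op n)) (isIso_ω : ∀ n, IsIso (ω n))
    (natural : ∀ {a b : ℕ} (h : a ≤ b), R.map (ModuleCat.ofHom (S.p h)) ≫ ω a = ω b ≫ G.map (homOfLE h).op) :
    AlgData t G where
  R := R
  left := left
  right := right
  map_smul := map_smul
  coh := coh
  P := S.P
  p h := ModuleCat.ofHom (S.p h)
  ω := ω
  isIso_ω := isIso_ω
  natural := natural
  L := S.L
  finL := S.finite_L
  q n := ModuleCat.ofHom (S.π n)
  compat n := ModuleCat.hom_ext (LinearMap.ext fun z => S.π_succ n z)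
  ker n z := ⟨fun h => S.exists_pow_smul_eq n z h, fun ⟨w, hw⟩ => by
    subst hw
    exact S.π_pow_smul n w⟩
  lift n := by
    obtain ⟨c, hc⟩ := S.exists_lift
    exact ⟨c + (n + 1), by omega, fun s => hc n _ s⟩

namespace AlgData

variable {t : A} {G : ℕᵒᵖ ⥤ X.Modules} (D : AlgData t G)

instance : PreservesFiniteLimits D.R := D.left

instance : PreservesFiniteColimits D.R := D.right

/-- The image of `q`. -/
abbrev rng (n : ℕ) : ModuleCat.{u} A := ModuleCat.of A (LinearMap.range (D.q n).hom)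

/-- The projection onto the image. -/
def proj (n : ℕ) : D.L ⟶ D.rng n := ModuleCat.ofHom (D.q n).hom.rangeRestrict

/-- The inclusion of the image. -/
def incl (n : ℕ) : D.rng n ⟶ D.P n := ModuleCat.ofHom (LinearMap.range (D.q n).hom).subtype

theorem proj_incl (n : ℕ) : D.proj n ≫ D.incl n = D.q n := rfl

theorem epi_proj (n : ℕ) : Epi (D.proj n) :=
  (ModuleCat.epi_iff_surjective _).2 (D.q n).hom.surjective_rangeRestrict

theorem smul_proj (n : ℕ) : (t ^ (n + 1) • 𝟙 D.L) ≫ D.proj n = 0 := by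
  refine ModuleCat.hom_ext (LinearMap.ext fun z => Subtype.ext ?_)
  show (D.q n).hom ((t ^ (n + 1) • 𝟙 D.L : D.L ⟶ D.L).hom z) = 0
  exact (D.ker n _).2 ⟨z, rfl⟩

/-- `L → L → rng`. -/
def powSeq (n : ℕ) : ShortComplex (ModuleCat.{u} A) :=
  ShortComplex.mk (t ^ (n + 1) • 𝟙 D.L) (D.proj n) (D.smul_proj n)

theorem powSeq_exact (n : ℕ) : (D.powSeq n).Exact := by
  rw [ShortComplex.moduleCat_exact_iff]
  intro z hz
  obtain ⟨w, hw⟩ := (D.ker n z).1 (congrArg Subtype.val hz)
  exact ⟨w, hw⟩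

variable (hG : Formal.IsCohFormal (Ideal.span {t}) G) (hepi : ∀ {a b : ℕ} (h : a ≤ b), Epi (G.map (homOfLE h).op))

include hepi in
theorem isIso_incl (n : ℕ) : IsIso (D.R.map (D.incl n)) := by
  obtain ⟨m, h, hm⟩ := D.lift n
  haveI := D.isIso_ω m
  haveI := D.isIso_ω n
  haveI := hepi h
  haveI : Epi (D.R.map (D.p h)) := by
    rw [show D.R.map (D.p h) = (D.ω m ≫ G.map (homOfLE h).op) ≫ inv (D.ω n) from
      (IsIso.eq_comp_inv _).2 (D.natural h)]
    exact @epi_comp _ _ _ _ _ _ (epi_comp _ _) _ inferInstance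
  let g : D.P m ⟶ D.rng n := ModuleCat.ofHom ((D.p h).hom.codRestrict _ fun s => hm s)
  haveI : Epi (D.R.map (D.incl n)) :=
    epi_of_epi_fac (f := D.R.map g) (h := D.R.map (D.p h)) (by rw [← Functor.map_comp]; rfl)
  haveI : Mono (D.incl n) := (ModuleCat.mono_iff_injective _).2 Subtype.val_injective
  exact isIso_of_mono_of_epi _

/-- `F → G_n`. -/
def toG (n : ℕ) : D.R.obj D.L ⟶ G.obj (op n) := D.R.map (D.q n) ≫ D.ω n

theorem toG_tn (n : ℕ) : D.toG (n + 1) ≫ G.map (homOfLE (Nat.le_succ n)).op = D.toG n := by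
  rw [toG, toG, Category.assoc, ← D.natural, ← Functor.map_comp_assoc, D.compat]

include hepi in
theorem epi_toG (n : ℕ) : Epi (D.toG n) := by
  haveI := D.isIso_incl hepi n
  haveI := D.isIso_ω n
  haveI := D.epi_proj n
  rw [toG, ← D.proj_incl, Functor.map_comp]
  exact @epi_comp _ _ _ _ _ _ (epi_comp _ _) _ inferInstance

include hG in
theorem smul_toG (n : ℕ) {a : A} (ha : a ∈ Ideal.span {t} ^ (n + 1)) :
    Formal.smulMod A (D.R.obj D.L) a ≫ D.toG n = 0 := by
  rw [W7Cech.smulMod_natural, hG.2.1 n a ha, comp_zero]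

include hepi in
theorem exists_desc_toG (n : ℕ) {P : X.Modules} (f : D.R.obj D.L ⟶ P)
    (hf : Formal.smulMod A (D.R.obj D.L) (t ^ (n + 1)) ≫ f = 0) : ∃ g, D.toG n ≫ g = f := by
  haveI := D.epi_proj n
  haveI : Epi ((D.powSeq n).map D.R).g := inferInstanceAs (Epi (D.R.map (D.proj n)))
  have hR : ((D.powSeq n).map D.R).Exact := (D.powSeq_exact n).map D.R
  have hf' : ((D.powSeq n).map D.R).f ≫ f = 0 := (congrArg (· ≫ f) (D.map_smul D.L (t ^ (n + 1)))).trans hf
  haveI := D.isIso_incl hepi n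
  haveI := D.isIso_ω n
  refine ⟨inv (D.ω n) ≫ inv (D.R.map (D.incl n)) ≫ hR.desc f hf', ?_⟩
  rw [toG, Category.assoc, IsIso.hom_inv_id_assoc, ← D.proj_incl, Functor.map_comp, Category.assoc,
    IsIso.hom_inv_id_assoc]
  exact hR.g_desc f hf'

/-- The comparison. -/
def α (n : ℕ) : Formal.modPow (Ideal.span {t}) (n + 1) (D.R.obj D.L) ⟶ G.obj (op n) :=
  (W7Exist.exists_desc_modPow _ (n + 1) (D.toG n) fun _ ha => D.smul_toG hG n ha).choose

theorem π_α (n : ℕ) : Formal.modPowπ (Ideal.span {t}) (n + 1) (D.R.obj D.L) ≫ D.α hG n = D.toG n :=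
  (W7Exist.exists_desc_modPow _ (n + 1) (D.toG n) fun _ ha => D.smul_toG hG n ha).choose_spec

include hepi in
theorem isIso_α (n : ℕ) : IsIso (D.α hG n) := by
  obtain ⟨g, hg⟩ := D.exists_desc_toG hepi n (Formal.modPowπ (Ideal.span {t}) (n + 1) (D.R.obj D.L))
    (W7Exist.smulMod_π _ (n + 1) (D.R.obj D.L) _ (Ideal.pow_mem_pow (Ideal.mem_span_singleton_self t) _))
  haveI := D.epi_toG hepi n
  refine ⟨g, ?_, ?_⟩
  · rw [← cancel_epi (Formal.modPowπ (Ideal.span {t}) (n + 1) (D.R.obj D.L)), ← Category.assoc, π_α, hg, Category.comp_id]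
  · rw [← cancel_epi (D.toG n), ← Category.assoc, hg, π_α, Category.comp_id]

include D hG hepi in
theorem algebraize : ∃ F : X.Modules, Coh.IsCoh F ∧ Nonempty (Formal.completion (Ideal.span {t}) F ≅ G) := by
  haveI := D.finL
  refine ⟨D.R.obj D.L, D.coh D.L, ⟨?_⟩⟩
  haveI : ∀ n, IsIso (D.α hG n) := D.isIso_α hG hepi
  let ν : Formal.completion (Ideal.span {t}) (D.R.obj D.L) ⟶ G :=
    NatTrans.ofOpSequence (fun n => D.α hG n) fun n => by
      rw [show (Formal.completion (Ideal.span {t}) (D.R.obj D.L)).map (homOfLE (Nat.le_add_right n 1)).op =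
        Formal.modPowTrans (Ideal.span {t}) (n + 1) (D.R.obj D.L) from Functor.ofOpSequence_map_homOfLE_succ _ n,
        ← cancel_epi (Formal.modPowπ (Ideal.span {t}) (n + 1 + 1) (D.R.obj D.L)), ← Category.assoc,
        Formal.modPowπ_trans, π_α, ← Category.assoc, π_α]
      exact (D.toG_tn n).symm
  exact NatIso.ofComponents (fun n => asIso (D.α hG n.unop)) fun f => ν.naturality f

end AlgData

end

end Groth.Agent.FormAlg
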