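import Mathlib.RingTheory.Noetherian.Basic
import Mathlib.RingTheory.Finiteness.Basic
import Mathlib.RingTheory.Finiteness.Prod

/-!
Modules `M` for which `a • M` lies in a finitely generated submodule.
-/

set_option autoImplicit false
universe u v w

namespace Groth.Agent.FormAlg

variable {A : Type u} [CommRing A]

/-- `a • M` lies in a finitely generated submodule. -/
def KillFin (a : A) (M : Type v) [AddCommGroup M] [Module A M] : Prop :=
  ∃ N : Submodule A M, N.FG ∧ ∀ x, a • x ∈ N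

namespace KillFin

variable {a b : A} {M : Type v} [AddCommGroup M] [Module A M] {M' : Type w} [AddCommGroup M'] [Module A M']

theorem of_finite [Module.Finite A M] : KillFin a M :=
  ⟨⊤, Module.Finite.fg_top, fun _ => Submodule.mem_top⟩

theorem finite_of_one (h : KillFin (1 : A) M) : Module.Finite A M := by
  obtain ⟨N, hN, hm⟩ := h
  refine ⟨(eq_top_iff.2 fun x _ => ?_ : N = ⊤) ▸ hN⟩
  simpa using hm x

theorem mul_right (h : KillFin a M) : KillFin (a * b) M := by
  obtain ⟨N, hN, hm⟩ := h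
  exact ⟨N, hN, fun x => by rw [mul_comm, mul_smul]; exact N.smul_mem _ (hm x)⟩

theorem of_dvd (h : KillFin a M) (hab : a ∣ b) : KillFin b M := by
  obtain ⟨c, rfl⟩ := hab
  exact h.mul_right

theorem of_surjective (f : M →ₗ[A] M') (hf : Function.Surjective f) (h : KillFin a M) : KillFin a M' := by
  obtain ⟨N, hN, hm⟩ := h
  refine ⟨N.map f, hN.map f, fun y => ?_⟩
  obtain ⟨x, rfl⟩ := hf y
  exact ⟨a • x, hm x, map_smul f a x⟩

theorem equiv (e : M ≃ₗ[A] M') (h : KillFin a M) : KillFin a M' := h.of_surjective e.toLinearMap e.surjective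

theorem pi {ι : Type} [Finite ι] {Q : ι → Type v} [∀ i, AddCommGroup (Q i)] [∀ i, Module A (Q i)]
    (h : ∀ i, KillFin a (Q i)) : KillFin a (∀ i, Q i) := by
  choose N hN hm using h
  exact ⟨Submodule.pi Set.univ N, Submodule.fg_pi fun i => hN i, fun x i _ => hm i (x i)⟩

variable [IsNoetherianRing A]

theorem of_injective (f : M →ₗ[A] M') (hf : Function.Injective f) (h : KillFin a M') : KillFin a M := by
  obtain ⟨N, hN, hm⟩ := h
  haveI : IsNoetherian A N := isNoetherian_of_fg_of_noetherian N hN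
  refine ⟨N.comap f, Submodule.fg_of_fg_map_injective f hf ?_, fun x => ?_⟩
  · exact isNoetherian_submodule.1 ‹_› _ (Submodule.map_comap_le f N)
  · rw [Submodule.mem_comap, map_smul]
    exact hm (f x)

theorem of_exact {M₁ : Type v} [AddCommGroup M₁] [Module A M₁] (f : M₁ →ₗ[A] M) (g : M →ₗ[A] M')
    (hfg : ∀ x, g x = 0 → ∃ y, f y = x) (h₁ : KillFin a M₁) (h₂ : KillFin b M') : KillFin (a * b) M := by
  obtain ⟨N₁, hN₁, hm₁⟩ := h₁
  obtain ⟨N₂, hN₂, hm₂⟩ := h₂
  haveI : IsNoetherian A N₂ := isNoetherian_of_fg_of_noetherian N₂ hN₂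
  obtain ⟨s, hs⟩ : (N₂ ⊓ LinearMap.range g).FG := isNoetherian_submodule.1 ‹_› _ inf_le_left
  classical
  have hlift : ∀ z ∈ s, ∃ x, g x = z := fun z hz =>
    (show z ∈ LinearMap.range g from ((hs ▸ Submodule.subset_span hz : z ∈ N₂ ⊓ LinearMap.range g)).2)
  choose l hl using hlift
  let W : Submodule A M := Submodule.span A (s.attach.image fun z => l z.1 z.2 : Finset M)
  have hW : N₂ ⊓ LinearMap.range g ≤ W.map g := by
    rw [← hs, Submodule.span_le]
    intro z hz
    exact ⟨l z hz, Submodule.subset_span (Finset.mem_coe.2 (Finset.mem_image.2 ⟨⟨z, hz⟩, Finset.mem_attach _ _, rfl⟩)),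
      hl z hz⟩
  refine ⟨W.map (LinearMap.lsmul A M a) ⊔ N₁.map f, Submodule.FG.sup (Submodule.FG.map _ ⟨_, rfl⟩) (hN₁.map f),
    fun x => ?_⟩
  obtain ⟨w, hw, hgw⟩ := hW (show g (b • x) ∈ N₂ ⊓ LinearMap.range g from
    ⟨by rw [map_smul]; exact hm₂ (g x), LinearMap.mem_range_self g _⟩)
  obtain ⟨y, hy⟩ := hfg (b • x - w) (by rw [map_sub, hgw, sub_self])
  rw [mul_smul, show b • x = w + f y by rw [hy]; abel, smul_add, ← map_smul f a y]
  exact Submodule.add_mem_sup ⟨w, hw, rfl⟩ ⟨_, hm₁ y, rfl⟩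

end KillFin

end Groth.Agent.FormAlg
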