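import Groth.Agent.FormAlg.FreeFin
import Groth.Agent.FormAlg.KillFin
import Groth.Agent.PunctKill.Main

/-!
Locally free modules over `A / f^k` on a punctured spectrum: multiples of the cohomology are finite.
-/

set_option autoImplicit false
set_option maxHeartbeats 1000000
set_option linter.style.haveILetI false
set_option backward.isDefEq.respectTransparency false
set_option backward.isDefEq.respectTransparency.types false
universe u

namespace Groth.Agent.FormAlg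

open CategoryTheory CategoryTheory.Limits AlgebraicGeometry TopologicalSpace Opposite
open Groth.Agent.LocH (Sec secOf)
open Groth.Agent.PunctArt (RR HU' mapH mapS)

noncomputable section

variable {A : Type u} [CommRing A] [IsNoetherianRing A] (𝔞 : Ideal A)

local notation "U𝔞" => EGA4.openCompl A 𝔞

theorem killFin_HU_zero (M : Type u) [AddCommGroup M] [Module A M] [Module.Finite A M] {a : A}
    (h : KillFin a (LocCoh.H 𝔞 1 M)) : KillFin a (HU' U𝔞 0 (ModuleCat.of A M)) := by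
  let G := clsSub 𝔞 (ModuleCat.of A M)
  let q : G →ₗ[A] ↑((localCohomology 𝔞 1).obj (ModuleCat.of A M)) := (LinearMap.snd A _ _).comp G.subtype
  let p : G →ₗ[A] Sec A M U𝔞 := (LinearMap.fst A _ _).comp G.subtype
  have hker : KillFin (1 : A) (LinearMap.ker q) := by
    haveI : IsNoetherian A (LinearMap.range (secOf A M U𝔞)) := isNoetherian_of_isNoetherianRing_of_finite A _
    let j : LinearMap.ker q →ₗ[A] LinearMap.range (secOf A M U𝔞) :=
      LinearMap.codRestrict _ (p.comp (LinearMap.ker q).subtype) fun z =>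
        Cls.mem_range (𝔞 := 𝔞) (X := ModuleCat.of A M) (s := z.1.1.1) (by
          have h : Cls 𝔞 z.1.1.1 z.1.1.2 := z.1.2
          rwa [show z.1.1.2 = 0 from z.2] at h)
    have hj : Function.Injective j := fun x y hxy => Subtype.ext (Subtype.ext (Prod.ext (congrArg Subtype.val hxy)
      ((show x.1.1.2 = 0 from x.2).trans (show y.1.1.2 = 0 from y.2).symm)))
    exact KillFin.of_injective j hj KillFin.of_finite
  have hG : KillFin (1 * a) G := KillFin.of_exact (LinearMap.ker q).subtype q (fun x hx => ⟨⟨x, hx⟩, rfl⟩) hker h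
  rw [one_mul] at hG
  refine hG.of_surjective ((sec0Lin U𝔞 (ModuleCat.of A M)).comp p) ?_
  refine (PunctArt.sec0 U𝔞 (ModuleCat.of A M)).surjective.comp fun s => ?_
  obtain ⟨w, hw⟩ := exists_cls (𝔞 := 𝔞) (X := ModuleCat.of A M) s
  exact ⟨⟨(s, w), hw⟩, rfl⟩

variable {k : ℕ} (g : Fin k → A) (h𝔞 : 𝔞 ≤ (Ideal.span (Set.range g)).radical)
  {T P : ModuleCat.{u} A}

include h𝔞 in
theorem killFin_H0_of_retract {a : A} (hP : KillFin a (HU' U𝔞 0 P)) (ψ : Fin k → (P ⟶ T)) (φ : Fin k → (T ⟶ P))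
    (hψ : ∀ i, φ i ≫ ψ i = g i • 𝟙 T) : KillFin a (HU' U𝔞 0 T) := by
  let L : HU' U𝔞 0 T →ₗ[A] Fin k → HU' U𝔞 0 P := LinearMap.pi fun i => mapH (φ i) 0
  have hL : Function.Injective L := (injective_iff_map_eq_zero _).2 fun x hx =>
    eq_zero_of_smul 𝔞 g h𝔞 T x fun i => by
      rw [← PunctArt.mapH_smul, ← hψ i, PunctArt.mapH_comp, show mapH (φ i) 0 x = 0 from congrFun hx i, map_zero]
  exact KillFin.of_injective L hL (KillFin.pi fun _ => hP)

variable (ψ : Fin k → (P ⟶ T)) (Φ : T ⟶ P) (hψ : ∀ i, Φ ≫ ψ i = g i • 𝟙 T)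

include hψ in
theorem killFin_H0_coker (h𝔞 : 𝔞 ≤ (Ideal.span (Set.range g)).radical) {a : A} (hP : KillFin a (HU' U𝔞 0 P)) :
    KillFin a (HU' U𝔞 0 (imgSES Φ).X₃) := by
  let d : Fin k → (P →ₗ[A] P) := fun i => g i • (LinearMap.id : P →ₗ[A] P) - Φ.hom.comp (ψ i).hom
  have hd : ∀ i, LinearMap.range Φ.hom ≤ LinearMap.ker (d i) := fun i => by
    rintro _ ⟨x, rfl⟩
    rw [LinearMap.mem_ker]
    show g i • Φ.hom x - Φ.hom ((ψ i).hom (Φ.hom x)) = 0
    rw [show (ψ i).hom (Φ.hom x) = g i • x from congrArg (fun f => f.hom x) (hψ i), map_smul, sub_self]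
  refine killFin_H0_of_retract 𝔞 g h𝔞 (P := P) hP (fun _ => (imgSES Φ).g)
    (fun i => ModuleCat.ofHom ((LinearMap.range Φ.hom).liftQ (d i) (hd i))) fun i => ?_
  refine ModuleCat.hom_ext (LinearMap.ext fun y => Submodule.Quotient.induction_on _ y fun y => ?_)
  show Submodule.Quotient.mk (p := LinearMap.range Φ.hom) (g i • y - Φ.hom ((ψ i).hom y)) =
    g i • Submodule.Quotient.mk (p := LinearMap.range Φ.hom) y
  rw [Submodule.Quotient.mk_sub, (Submodule.Quotient.mk_eq_zero _).2 (LinearMap.mem_range_self _ _), sub_zero,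
    Submodule.Quotient.mk_smul]

include h𝔞 in
theorem killFin_H1_of_retract {a : A} (hP0 : KillFin a (HU' U𝔞 0 P)) (hP1 : KillFin a (HU' U𝔞 1 P))
    (ψ : Fin k → (P ⟶ T)) (Φ : T ⟶ P) (hψ : ∀ i, Φ ≫ ψ i = g i • 𝟙 T) : KillFin (a * a) (HU' U𝔞 1 T) := by
  have h3 := killFin_H0_coker 𝔞 g ψ Φ hψ h𝔞 hP0
  have h1 : KillFin (a * a) (HU' U𝔞 1 (imgSES Φ).X₁) :=
    KillFin.of_exact (PunctArt.delta (U := U𝔞) (imgSES_shortExact Φ) 0) (mapH (imgSES Φ).f 1)
      (fun x hx => (PunctArt.mapH_f_eq_zero_iff (U := U𝔞) (imgSES_shortExact Φ) 0 x).1 hx) h3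
      (show KillFin a (HU' U𝔞 1 (imgSES Φ).X₂) from hP1)
  obtain ⟨m, hm⟩ := Ideal.exists_pow_le_of_le_radical_of_fg h𝔞 (IsNoetherian.noetherian 𝔞)
  haveI : Subsingleton (HU' U𝔞 1 (kerSEQ Φ).X₁) :=
    PunctArt.subsingleton_torsion 𝔞 _ m (fun a ha x => Subtype.ext (by
      show a • (x.1 : T) = 0
      have hJ : a ∈ Ideal.span (Set.range g) := hm ha
      clear ha
      induction hJ using Submodule.span_induction with
      | mem _ h =>
        obtain ⟨i, rfl⟩ := h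
        exact (congrArg (fun f => f.hom x.1) (hψ i)).symm.trans ((congrArg (ψ i).hom x.2).trans (map_zero _))
      | zero => exact zero_smul A _
      | add a b _ _ ha hb => rw [add_smul, ha, hb, add_zero]
      | smul c a _ ha => rw [smul_eq_mul, mul_smul, ha, smul_zero])) 1
  refine KillFin.of_injective (mapH (U := U𝔞) (kerSEQ Φ).g 1) ((injective_iff_map_eq_zero _).2 fun x hx => ?_) h1
  obtain ⟨y, rfl⟩ := (PunctArt.mapH_g_eq_zero_iff (U := U𝔞) (kerSEQ_shortExact Φ) 1 x).1 hx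
  rw [Subsingleton.elim y 0, map_zero]

theorem killFin_of_split {X : Scheme.{u}} [X.Over (Spec (CommRingCat.of A))] {a : A} {ι : Type} [Fintype ι]
    (M : X.Modules) (N : ι → X.Modules) (i : ∀ j, N j ⟶ M) (p : ∀ j, M ⟶ N j) (h : ∑ j, p j ≫ i j = 𝟙 M) (q : ℕ)
    (hN : ∀ j, KillFin a (Coh.HH X (N j) q)) : KillFin a (Coh.HH X M q) := by
  classical
  refine (KillFin.pi hN).of_surjective (LinearMap.lsum A (fun j => Coh.HH X (N j) q) ℕ fun j => CohFinite.hhMap A (i j) q)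
    fun x => ⟨fun j => CohFinite.hhMap A (p j) q x, ?_⟩
  simp only [LinearMap.lsum_apply, LinearMap.sum_apply, LinearMap.coe_comp, LinearMap.coe_proj,
    Function.comp_apply, Function.eval]
  refine Eq.trans ?_ ((congrArg (fun φ => CohFinite.hhMap A φ q x) h).trans (CohFinite.hhMap_id A M q x))
  rw [PunctKill.hhMap_sum]
  exact Finset.sum_congr rfl fun j _ => (CohFinite.hhMap_comp A (p j) (i j) q x).symm

theorem killFin_H_pi (ι : Type) [Fintype ι] (Q : Type u) [AddCommGroup Q] [Module A Q] (q : ℕ) {a : A}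
    (h : KillFin a (HU' U𝔞 q (ModuleCat.of A Q))) : KillFin a (HU' U𝔞 q (ModuleCat.of A (ι → Q))) := by
  classical
  refine killFin_of_split ((RR U𝔞).obj (ModuleCat.of A (ι → Q))) (fun _ => (RR U𝔞).obj (ModuleCat.of A Q))
    (fun j => (RR U𝔞).map (ModuleCat.ofHom (LinearMap.single A (fun _ : ι => Q) j)))
    (fun j => (RR U𝔞).map (ModuleCat.ofHom (LinearMap.proj j))) ?_ q (fun _ => h)
  simp only [← Functor.map_comp]
  rw [← Functor.map_sum, ← CategoryTheory.Functor.map_id]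
  refine congrArg _ (ModuleCat.hom_ext ?_)
  rw [ModuleCat.hom_sum, ModuleCat.hom_id]
  refine LinearMap.ext fun x => ?_
  rw [LinearMap.sum_apply]
  exact Finset.univ_sum_single x

variable (f : A)

/-- The degree zero bound for one level from `H^1` only, and the degree one bound. -/
theorem killFin_level' {G : (↑U𝔞 : Scheme.{u}).Modules} (hc : Coh.IsCoh G)
    (k : ℕ) (hfree : Formal2.IsFinLocFreeMod (Ideal.span {f}) k G) {a : A}
    (h₁ : KillFin a (LocCoh.H 𝔞 1 (A ⧸ Ideal.span {f ^ k}))) :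
    KillFin a (Coh.HH (↑U𝔞 : Scheme.{u}) G 0) ∧ (KillFin a (LocCoh.H 𝔞 2 (A ⧸ Ideal.span {f ^ k})) →
      KillFin (a * a) (Coh.HH (↑U𝔞 : Scheme.{u}) G 1)) := by
  classical
  obtain ⟨N, hN, ⟨e₀⟩⟩ := ZarPair.exists_tilde_restrict (R := CommRingCat.of A) U𝔞 G hc.1 hc.2
  have hN' : Module.Finite A N := hN
  let S : Set A := {g | ∃ (r : ℕ) (φ : N →ₗ[A] (Fin r → A ⧸ Ideal.span {f ^ k}))
    (ψ : (Fin r → A ⧸ Ideal.span {f ^ k}) →ₗ[A] N), ∀ y, ψ (φ y) = g • y}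
  have hS : ∀ x : (↑U𝔞 : Scheme.{u}), ∃ g ∈ S, g ∉ ((EGA4.openCompl A 𝔞).ι.base x : PrimeSpectrum A).asIdeal := fun x => by
    obtain ⟨V, r, hxV, ⟨e⟩⟩ := hfree x
    obtain ⟨i⟩ := nonempty_modPow_free U𝔞 f k r
    haveI : Module.Finite (CommRingCat.of A) (pwQ f k r) := inferInstanceAs (Module.Finite A (Fin r → A ⧸ Ideal.span {f ^ k}))
    obtain ⟨g, hg, φ, ψ, h⟩ := exists_retract_near (R := CommRingCat.of A) U𝔞 V (N := N) (Q := pwQ f k r)
      ((Scheme.Modules.restrictFunctor V.ι).mapIso e₀ ≪≫ e ≪≫ (Scheme.Modules.restrictFunctor V.ι).mapIso i) hxV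
    exact ⟨g, ⟨r, φ, ψ, h⟩, hg⟩
  obtain ⟨t, ht, hspan⟩ := (Submodule.fg_span_iff_fg_span_finset_subset (R := A) S).1 (IsNoetherian.noetherian _)
  have h𝔞 : 𝔞 ≤ (Ideal.span (Set.range fun i : Fin t.card => (t.equivFin.symm i : A))).radical := by
    rw [Ideal.radical_eq_sInf]
    refine le_sInf fun p ⟨hp, hp'⟩ => ?_
    by_contra h
    obtain ⟨g, hgS, hgp⟩ := hS ⟨⟨p, hp'⟩, h⟩
    refine hgp ?_
    have : g ∈ Submodule.span A (t : Set A) := hspan ▸ Submodule.subset_span hgS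
    refine (Submodule.span_le (p := p)).2 (fun y hy => hp (Ideal.subset_span ⟨t.equivFin ⟨y, hy⟩, by simp⟩)) this
  choose r φ ψ hψ using fun i : Fin t.card => (ht (t.equivFin.symm i).2 : (t.equivFin.symm i : A) ∈ S)
  let P : ModuleCat.{u} A := ModuleCat.of A ((Σ i : Fin t.card, Fin (r i)) → A ⧸ Ideal.span {f ^ k})
  let Φ : N ⟶ P := ModuleCat.ofHom (LinearMap.pi fun q => (LinearMap.proj q.2).comp (φ q.1))
  let ψ' : ∀ _ : Fin t.card, P ⟶ N := fun i =>
    ModuleCat.ofHom ((ψ i).comp (LinearMap.funLeft A _ fun j : Fin (r i) => (⟨i, j⟩ : Σ i, Fin (r i))))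
  have hψ' : ∀ i, Φ ≫ ψ' i = (t.equivFin.symm i : A) • 𝟙 (ModuleCat.of A N) :=
    fun i => ModuleCat.hom_ext (LinearMap.ext fun y => hψ i y)
  have hQ0 : KillFin a (HU' U𝔞 0 (ModuleCat.of A (A ⧸ Ideal.span {f ^ k}))) := killFin_HU_zero 𝔞 _ h₁
  have hP0 : KillFin a (HU' U𝔞 0 P) := killFin_H_pi 𝔞 _ _ 0 hQ0
  refine ⟨KillFin.equiv (CohFinite.hhEquiv A e₀ 0).symm.symm (killFin_H0_of_retract 𝔞 _ h𝔞 hP0 ψ' (fun _ => Φ) hψ'),
    fun h₂ => ?_⟩
  have hQ1 : KillFin a (HU' U𝔞 1 (ModuleCat.of A (A ⧸ Ideal.span {f ^ k}))) := by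
    obtain ⟨e⟩ := nonempty_linearEquiv 𝔞 0 (ModuleCat.of A (A ⧸ Ideal.span {f ^ k}))
    exact KillFin.equiv e.symm h₂
  have hP1 : KillFin a (HU' U𝔞 1 P) := killFin_H_pi 𝔞 _ _ 1 hQ1
  exact KillFin.equiv (CohFinite.hhEquiv A e₀ 1).symm.symm (killFin_H1_of_retract 𝔞 _ h𝔞 hP0 hP1 ψ' Φ hψ')

/-- Both bounds for one level. -/
theorem killFin_level {G : (↑U𝔞 : Scheme.{u}).Modules} (hc : Coh.IsCoh G)
    (k : ℕ) (hfree : Formal2.IsFinLocFreeMod (Ideal.span {f}) k G) {a : A}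
    (h₁ : KillFin a (LocCoh.H 𝔞 1 (A ⧸ Ideal.span {f ^ k})))
    (h₂ : KillFin a (LocCoh.H 𝔞 2 (A ⧸ Ideal.span {f ^ k}))) :
    KillFin a (Coh.HH (↑U𝔞 : Scheme.{u}) G 0) ∧ KillFin (a * a) (Coh.HH (↑U𝔞 : Scheme.{u}) G 1) := by
  obtain ⟨h, h'⟩ := killFin_level' 𝔞 f hc k hfree h₁
  exact ⟨h, h' h₂⟩

end

end Groth.Agent.FormAlg
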