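import Groth.Agent.FormAlg.SecTower
import Groth.Agent.FormAlg.KillFin

/-!
Towers of modules: the limit and bounded lifting from finiteness of the bottom image and a bound on the obstruction.
-/

set_option autoImplicit false
universe u

namespace Groth.Agent.FormAlg

open CategoryTheory

noncomputable section

variable {A : Type u} [CommRing A]

namespace SecTower

variable {t : A} (S : SecTower t)

theorem exists_lift_of_bound (hb : ∃ c, ∀ m, LinearMap.range (S.δ (c + m)) = LinearMap.range (S.δ c)) : ∃ c, ∀ (j : ℕ) (h : j ≤ c + (j + 1)) (s : S.P (c + (j + 1))), ∃ y : S.L, S.π j y = S.p h s := by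
  obtain ⟨c, hc⟩ := hb
  have hstep : ∀ (j : ℕ) (s : S.P (c + (j + 1))), ∃ x : S.P (c + (j + 1) + 1),
      S.p (show j ≤ c + (j + 1) + 1 by omega) x = S.p (show j ≤ c + (j + 1) by omega) s := fun j s => by
    obtain ⟨s', hs'⟩ : S.δ (c + (j + 1)) s ∈ LinearMap.range (S.δ c) := hc (j + 1) ▸ LinearMap.mem_range_self _ s
    obtain ⟨x, hx⟩ := S.δ_lift (c + (j + 1)) (s - S.muIt c (j + 1) s') (by rw [map_sub, δ_muIt, hs', sub_self])
    refine ⟨x, ?_⟩
    rw [← S.p_comp (show j ≤ c + (j + 1) by omega) (Nat.le_succ _), hx, map_sub, S.p_muIt _ _ _ le_rfl, sub_zero]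
  choose g hg using hstep
  refine ⟨c, fun j _ s => ?_⟩
  let U : ∀ i, S.P (c + (j + i + 1)) := fun i =>
    Nat.rec (motive := fun i => S.P (c + (j + i + 1))) s (fun i a => g (j + i) a) i
  have hU : ∀ (n i : ℕ) (h : n ≤ j + i), S.p (show n ≤ c + (j + (i + 1) + 1) by omega) (U (i + 1)) =
      S.p (show n ≤ c + (j + i + 1) by omega) (U i) := fun n i h => by
    rw [← S.p_comp h (show j + i ≤ c + (j + (i + 1) + 1) by omega),
      ← S.p_comp h (show j + i ≤ c + (j + i + 1) by omega)]
    exact congrArg _ (hg (j + i) (U i))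
  refine ⟨⟨fun n => S.p (show n ≤ c + (j + n + 1) by omega) (U n), fun n => ?_⟩, ?_⟩
  · rw [S.p_comp]
    exact hU n n (Nat.le_add_left n j)
  · have hj : ∀ i, S.p (show j ≤ c + (j + i + 1) by omega) (U i) = S.p (show j ≤ c + (j + 1) by omega) s := by
      intro i
      induction i with
      | zero => rfl
      | succ i ih => exact (hU j i (Nat.le_add_right j i)).trans ih
    exact hj j

theorem finite_L_of_range [IsNoetherianRing A] [IsAdicComplete (Ideal.span {t}) A]
    [Module.Finite A (LinearMap.range (S.π 0))] : Module.Finite A S.L := by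
  let f : ∀ n, LinearMap.range (S.π (n + 1)) →ₗ[A] LinearMap.range (S.π n) := fun n =>
    (S.p (Nat.le_succ n)).restrict (p := LinearMap.range (S.π (n + 1))) (q := LinearMap.range (S.π n))
      (by rintro _ ⟨z, rfl⟩; exact ⟨z, (S.π_succ n z).symm⟩)
  let p : ∀ n, S.L →ₗ[A] LinearMap.range (S.π n) := fun n => (S.π n).rangeRestrict
  have hlim : AdicLim.IsLimit f p :=
    { comm := fun n => LinearMap.ext fun z => Subtype.ext (S.π_succ n z)
      inj := fun z hz => Subtype.ext (funext fun n => congrArg Subtype.val (hz n))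
      lift := fun y hy => ⟨⟨fun n => (y n).1, fun n => congrArg Subtype.val (hy n)⟩, fun n => Subtype.ext rfl⟩ }
  have hf : ∀ n, Function.Surjective (f n) := fun n => fun ⟨_, z, hz⟩ =>
    ⟨⟨_, z, rfl⟩, Subtype.ext ((S.π_succ n z).trans hz)⟩
  have hker : ∀ n, LinearMap.ker (f n) =
      Ideal.span {t} ^ (n + 1) • (⊤ : Submodule A (LinearMap.range (S.π (n + 1)))) := fun n => by
    refine le_antisymm (fun x h => ?_) (Submodule.smul_le.2 fun a ha x _ => ?_)
    · obtain ⟨_, z, rfl⟩ := x
      have h' : z ∈ Ideal.span {t} ^ (n + 1) • (⊤ : Submodule A S.L) := by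
        rw [← S.ker_π n]
        exact (S.π_succ n z).symm.trans (congrArg Subtype.val h)
      have := Submodule.mem_map_of_mem (f := p (n + 1)) h'
      rw [Submodule.map_smul''] at this
      exact Submodule.smul_mono le_rfl le_top this
    · obtain ⟨_, z, rfl⟩ := x
      rw [LinearMap.mem_ker]
      refine Subtype.ext ?_
      have h0 : a • z ∈ LinearMap.ker (S.π n) := by
        rw [S.ker_π n]; exact Submodule.smul_mem_smul ha Submodule.mem_top
      exact (S.π_succ n (a • z)).trans h0
  exact (hlim.finite_and_ker_eq (Ideal.span {t}) hf hker).1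

/-- If `f • M` lies in a finitely generated submodule along an injection, the source is finite. -/
theorem finite_range_π [IsNoetherianRing A] {M : Type u} [AddCommGroup M] [Module A M] {a : A} (hM : KillFin a M)
    (ν : S.P 0 →ₗ[A] M) (hν : Function.Injective ν) (ρ : ∀ z : S.L, ∃ w : M, ν (S.π 0 z) = a • w) :
    Module.Finite A (LinearMap.range (S.π 0)) := by
  obtain ⟨N, hN, hm⟩ := hM
  haveI : IsNoetherian A N := isNoetherian_of_fg_of_noetherian N hN
  refine Module.Finite.of_fg (Submodule.fg_of_fg_map_injective ν hν (isNoetherian_submodule.1 ‹_› _ ?_))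
  rintro _ ⟨_, ⟨z, rfl⟩, rfl⟩
  obtain ⟨w, hw⟩ := ρ z
  exact hw ▸ hm w

/-- The obstructions stabilise if they map into a finite module with kernel one of their ranges. -/
theorem exists_bound_of [IsNoetherianRing A] {M : Type u} [AddCommGroup M] [Module A M] {a : A} (hM : KillFin a M)
    (ν : S.Z →ₗ[A] M) (k : ℕ) (hker : LinearMap.ker ν ≤ LinearMap.range (S.δ k))
    (hν : ∀ j (s : S.P j), ∃ w : M, ν (S.δ j s) = a • w) :
    ∃ c, ∀ m, LinearMap.range (S.δ (c + m)) = LinearMap.range (S.δ c) := by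
  obtain ⟨N, hN, hm⟩ := hM
  haveI : IsNoetherian A N := isNoetherian_of_fg_of_noetherian N hN
  have hmono : Monotone fun i => LinearMap.range (S.δ i) :=
    monotone_nat_of_le_succ fun i => by rintro _ ⟨s, rfl⟩; exact ⟨_, S.δ_mu i s⟩
  have hmono' : Monotone fun i => (LinearMap.range ((ν).comp (S.δ i))).comap N.subtype := fun i j hij x hx => by
    rw [Submodule.mem_comap, LinearMap.range_comp] at hx ⊢
    exact Submodule.map_mono (hmono hij) hx
  obtain ⟨c, hc⟩ := monotone_stabilizes_iff_noetherian.2 ‹IsNoetherian A N› ⟨_, hmono'⟩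
  refine ⟨max c k, fun m => le_antisymm ?_ (hmono (Nat.le_add_right _ _))⟩
  rintro _ ⟨s, rfl⟩
  obtain ⟨w, hw⟩ := hν _ s
  have hmem : ν (S.δ _ s) ∈ N := hw ▸ hm w
  have h : (⟨_, hmem⟩ : N) ∈ (LinearMap.range ((ν).comp (S.δ c))).comap N.subtype := by
    rw [show (LinearMap.range ((ν).comp (S.δ c))).comap N.subtype = _ from
      hc (max c k + m) ((le_max_left c k).trans (Nat.le_add_right _ _))]
    exact ⟨s, rfl⟩
  obtain ⟨s', hs'⟩ := h
  have h1 : S.δ c s' ∈ LinearMap.range (S.δ (max c k)) := hmono (le_max_left c k) ⟨s', rfl⟩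
  have h2 : S.δ _ s - S.δ c s' ∈ LinearMap.range (S.δ (max c k)) :=
    hmono (le_max_right c k) (hker (by rw [LinearMap.mem_ker, map_sub]; exact sub_eq_zero.2 hs'.symm))
  simpa using add_mem h2 h1

end SecTower

end

end Groth.Agent.FormAlg
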