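import Groth.Agent.FormAlg.Tower
import Groth.Agent.FormAlg.SecTowerKill

/-!
Towers of sheaves for which a power of the variable makes the cohomology of one level finite.
-/

set_option autoImplicit false
set_option maxHeartbeats 1000000
set_option linter.style.haveILetI false
set_option backward.isDefEq.respectTransparency false
set_option backward.isDefEq.respectTransparency.types false
universe u

namespace Groth.Agent.FormAlg

open CategoryTheory CategoryTheory.Limits AlgebraicGeometry TopologicalSpace Opposite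

noncomputable section

variable {A : Type u} [CommRing A] {X : Scheme.{u}} [X.Over (Spec (CommRingCat.of A))]

namespace Tower

variable {t : A} (T : Tower X t)

/-- Multiplication by `t ^ m` from level `c`. -/
def nuFrom (c : ℕ) : ∀ m : ℕ, T.obj c ⟶ T.obj (c + m)
  | 0 => 𝟙 _
  | m + 1 => nuFrom c m ≫ T.mu (c + m)

theorem mono_nuFrom (c : ℕ) : ∀ m : ℕ, Mono (T.nuFrom c m)
  | 0 => inferInstanceAs (Mono (𝟙 (T.obj c)))
  | m + 1 => by
    haveI := mono_nuFrom c m
    haveI := T.mono_mu (c + m)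
    exact mono_comp _ _

theorem pr_nuFrom (c : ℕ) : ∀ m : ℕ,
    T.pr (Nat.le_add_right c m) ≫ T.nuFrom c m = Formal.smulMod A (T.obj (c + m)) (t ^ m)
  | 0 => by rw [pow_zero, smulMod_one, nuFrom]; exact (Category.comp_id _).trans (T.pr_self c)
  | m + 1 => by
    have ih := pr_nuFrom c m
    rw [nuFrom, ← T.pr_comp (Nat.le_add_right c m) (Nat.le_succ (c + m)), Category.assoc,
      ← Category.assoc (T.pr _) (T.nuFrom c m), ih, W7Cech.smulMod_natural, ← Category.assoc,
      show T.pr (Nat.le_succ (c + m)) ≫ T.mu (c + m) = _ from T.tn_mu _]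
    exact (W7Exist.smulMod_comp _ _ _).trans (congrArg _ (pow_succ t m).symm)

theorem exists_desc_pr {j n : ℕ} (h : j ≤ n) : ∀ {P : X.Modules} (f : T.obj n ⟶ P),
    Formal.smulMod A (T.obj n) (t ^ (j + 1)) ≫ f = 0 → ∃ g, T.pr h ≫ g = f := by
  induction n, h using Nat.le_induction with
  | base => exact fun f _ => ⟨f, by rw [pr_self, Category.id_comp]⟩
  | succ n hjn ih =>
    intro P f hf
    haveI := W7Exist.epi_tn T.hG n
    obtain ⟨g, rfl⟩ := W7Exist.exists_desc T.hG n f fun a ha => by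
      rw [Ideal.span_singleton_pow, Ideal.mem_span_singleton] at ha
      obtain ⟨r, rfl⟩ := ha
      obtain ⟨d, hd⟩ : ∃ d, n + 1 = (j + 1) + d := ⟨n - j, by omega⟩
      rw [show t ^ (n + 1) * r = t ^ (j + 1) * (t ^ d * r) by rw [hd, pow_add, mul_assoc], ← W7Exist.smulMod_comp,
        Category.assoc, hf, comp_zero]
    obtain ⟨g', rfl⟩ := ih g (by
      rw [← cancel_epi (W7Exist.tn T.G n), comp_zero, ← Category.assoc, ← W7Cech.smulMod_natural, Category.assoc, hf])
    exact ⟨g', by rw [← T.pr_comp hjn (Nat.le_succ n), Category.assoc]; rfl⟩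

variable (c j : ℕ)

theorem nuFrom_comm : T.nuFrom c (j + 1) ≫ T.pr (Nat.le_add_left (j + 1) c) =
    T.pr (Nat.zero_le c) ≫ T.nu (j + 1) := by
  haveI := T.epi_pr (Nat.le_add_right c (j + 1))
  rw [← cancel_epi (T.pr (Nat.le_add_right c (j + 1))), ← Category.assoc, T.pr_nuFrom, ← Category.assoc, T.pr_comp]
  refine (W7Cech.smulMod_natural A (T.pr _) _).trans ((congrArg (T.pr _ ≫ ·) (T.pr_nu (j + 1)).symm).trans ?_)
  rw [← Category.assoc, T.pr_comp]

theorem nuFrom_pr_zero : T.nuFrom c (j + 1) ≫ T.pr (show j ≤ c + (j + 1) by omega) = 0 := by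
  rw [← T.pr_comp (Nat.le_succ j) (Nat.le_add_left (j + 1) c), ← Category.assoc, nuFrom_comm, Category.assoc]
  exact (congrArg (T.pr (Nat.zero_le c) ≫ ·) (T.nu_tn j)).trans comp_zero

/-- `G_c → G_{c+j+1} → G_j` -/
def killSES : ShortComplex X.Modules :=
  ShortComplex.mk (T.nuFrom c (j + 1)) (T.pr (show j ≤ c + (j + 1) by omega)) (T.nuFrom_pr_zero c j)

theorem killSES_shortExact : (T.killSES c j).ShortExact := by
  haveI := T.epi_pr (show j ≤ c + (j + 1) by omega)
  haveI := T.mono_nuFrom c (j + 1)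
  have hd : ∀ {P : X.Modules} (f : T.obj (c + (j + 1)) ⟶ P), T.nuFrom c (j + 1) ≫ f = 0 →
      ∃ g, T.pr (show j ≤ c + (j + 1) by omega) ≫ g = f :=
    fun f hf => T.exists_desc_pr _ f (by rw [← T.pr_nuFrom, Category.assoc, hf, comp_zero])
  exact
    { exact := ShortComplex.exact_of_g_is_cokernel _ (CokernelCofork.IsColimit.ofπ _ _
        (fun {P} φ hφ => (hd φ hφ).choose) (fun {P} φ hφ => (hd φ hφ).choose_spec)
        (fun {P} φ hφ g hg => (cancel_epi (T.pr _)).1 (hg.trans (hd φ hφ).choose_spec.symm)))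
      mono_f := T.mono_nuFrom c (j + 1)
      epi_g := T.epi_pr _ }

/-- The map to the obstruction sequence. -/
def killTrans : T.killSES c j ⟶ T.topSES j :=
  ShortComplex.homMk (T.pr (Nat.zero_le c)) (T.pr (Nat.le_add_left (j + 1) c)) (𝟙 _) (T.nuFrom_comm c j).symm
    ((T.pr_comp (Nat.le_succ j) (Nat.le_add_left (j + 1) c)).trans (Category.comp_id _).symm)

theorem nu_pr_apply (q : ℕ) (w : Coh.HH X (T.obj c) q) :
    CohFinite.hhMap A (T.nu c) q (CohFinite.hhMap A (T.pr (Nat.zero_le c)) q w) = t ^ c • w :=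
  ((CohFinite.hhMap_comp A _ _ q w).symm.trans
    (congrArg (fun φ => CohFinite.hhMap A φ q w) (T.pr_nu c))).trans (hhMap_smulMod _ _ q w)

theorem exists_nu_δ (s : T.secTower.P j) :
    ∃ w : Coh.HH X (T.obj c) 1, CohFinite.hhMap A (T.nu c) 1 (T.secTower.δ j s) = t ^ c • w := by
  refine ⟨CohFinite.hhδ A (T.killSES_shortExact c j) 0 s, ?_⟩
  rw [← T.nu_pr_apply c 1]
  refine congrArg (CohFinite.hhMap A (T.nu c) 1) ?_
  exact ((hhδ_natural (T.killSES_shortExact c j) (T.topSES_shortExact j) (T.killTrans c j) 0 s).trans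
    (congrArg _ (CohFinite.hhMap_id A _ 0 s))).symm

variable [IsNoetherianRing A]

/-- The limit is finite. -/
theorem finite_L_of_kill [IsAdicComplete (Ideal.span {t}) A] (h0 : KillFin (t ^ c) (Coh.HH X (T.obj c) 0)) :
    Module.Finite A T.secTower.L := by
  haveI := T.mono_nu c
  have hinj : Function.Injective (CohFinite.hhMap A (T.nu c) 0) := by
    cases c with
    | zero => exact fun x y h => (CohFinite.hhMap_id A _ 0 x).symm.trans (h.trans (CohFinite.hhMap_id A _ 0 y))
    | succ k => exact CohFinite.map_f_injective (CohFinite.shortExact_toAb (T.topSES_shortExact k))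
  haveI := T.secTower.finite_range_π h0 (CohFinite.hhMap A (T.nu c) 0) hinj fun z =>
    ⟨T.secTower.π c z, (congrArg _ (T.secTower.p_π (Nat.zero_le c) z).symm).trans (T.nu_pr_apply c 0 _)⟩
  exact T.secTower.finite_L_of_range

/-- Bounded lifting. -/
theorem exists_lift_of_kill (h1 : KillFin (t ^ (c + 1)) (Coh.HH X (T.obj (c + 1)) 1)) :
    ∃ d, ∀ (k : ℕ) (h : k ≤ d + (k + 1)) (s : T.secTower.P (d + (k + 1))),
      ∃ y : T.secTower.L, T.secTower.π k y = T.secTower.p h s :=
  T.secTower.exists_lift_of_bound (T.secTower.exists_bound_of h1 (CohFinite.hhMap A (T.nu (c + 1)) 1) c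
    (fun x hx => (CohFinite.map_f_eq_zero_iff (CohFinite.shortExact_toAb (T.topSES_shortExact c)) 0 x).1 hx)
    fun k s => T.exists_nu_δ (c + 1) k s)

end Tower

end

end Groth.Agent.FormAlg
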