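import Groth.Agent.FormAlg.OpenModel
import Groth.Agent.FormAlg.TowerKill
import Groth.Agent.FormAlg.RetractKill

/-!
Algebraization of locally free formal systems when a power of the variable makes the cohomology of the levels finite.
-/

set_option autoImplicit false
set_option maxHeartbeats 1000000
set_option linter.style.haveILetI false
set_option backward.isDefEq.respectTransparency false
set_option backward.isDefEq.respectTransparency.types false
universe u

namespace Groth.Agent.FormAlg

open CategoryTheory CategoryTheory.Limits AlgebraicGeometry TopologicalSpace Opposite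
open Groth.Agent.PunctArt (RR)

noncomputable section

variable {A : Type u} [CommRing A] [IsNoetherianRing A]

/-- Algebraization on an open subset of an affine scheme from the kill hypotheses. -/
theorem algebraize_open_of_kill {U : (Spec (CommRingCat.of A)).Opens} {t : A} [IsAdicComplete (Ideal.span {t}) A]
    (T : Tower (↑U : Scheme.{u}) t) (c : ℕ) (h0 : KillFin (t ^ c) (Coh.HH (↑U : Scheme.{u}) (T.obj c) 0))
    (h1 : KillFin (t ^ (c + 1)) (Coh.HH (↑U : Scheme.{u}) (T.obj (c + 1)) 1)) :
    ∃ F : (↑U : Scheme.{u}).Modules, Coh.IsCoh F ∧ Nonempty (Formal.completion (Ideal.span {t}) F ≅ T.G) :=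
  AlgData.algebraize
    ({  R := RR U
        left := PunctArt.preservesFiniteLimits_RR U
        right := PunctArt.preservesFiniteColimits_RR U
        map_smul := RR_map_smul
        coh := fun N _ => DCohShriek.isCoh_restrictFunctor U.ι (ExtShX.isCoh_tilde (A := CommRingCat.of A) N)
        P := T.secTower.P
        p := fun h => ModuleCat.ofHom (T.secTower.p h)
        ω := fun n => omegaHom (T.obj n)
        isIso_ω := fun n => isIso_omegaHom (T.hG.1 n).1
        natural := fun h => omegaHom_natural (T.pr h)
        L := T.secTower.L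
        finL := T.finite_L_of_kill c h0
        q := fun n => ModuleCat.ofHom (T.secTower.π n)
        compat := fun n => ModuleCat.hom_ext (LinearMap.ext fun z => T.secTower.π_succ n z)
        ker := fun n z => ⟨fun h => T.secTower.exists_pow_smul_eq n z h, fun ⟨w, hw⟩ => by
          subst hw
          exact T.secTower.π_pow_smul n w⟩
        lift := fun n => by
          obtain ⟨d, hd⟩ := T.exists_lift_of_kill c h1
          exact ⟨d + (n + 1), by omega, fun s => hd n _ s⟩ } : AlgData t T.G)
    T.hG fun h => T.epi_pr h

/-- Algebraization of locally free systems on a punctured spectrum from the kill hypotheses. -/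
theorem algebraize_free_of_kill (𝔞 : Ideal A) (f : A) (hf : f ∈ nonZeroDivisors A)
    [IsAdicComplete (Ideal.span {f}) A] {c : ℕ}
    (h₁ : ∀ k, KillFin (f ^ c) (LocCoh.H 𝔞 1 (A ⧸ Ideal.span {f ^ k})))
    (h₂ : ∀ k, KillFin (f ^ c) (LocCoh.H 𝔞 2 (A ⧸ Ideal.span {f ^ k})))
    {U : (Spec (CommRingCat.of A)).Opens} (hU : U = EGA4.openCompl A 𝔞)
    (G : ℕᵒᵖ ⥤ (↑U : Scheme.{u}).Modules) (hG : Formal.IsCohFormal (Ideal.span {f}) G)
    (hfree : ∀ n : ℕ, Formal2.IsFinLocFreeMod (Ideal.span {f}) (n + 1) (G.obj (op n))) :
    ∃ F : (↑U : Scheme.{u}).Modules, Coh.IsCoh F ∧ Nonempty (Formal.completion (Ideal.span {f}) F ≅ G) := by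
  subst hU
  obtain ⟨T, rfl⟩ := exists_tower hf G hG hfree
  have hlev := fun n => killFin_level 𝔞 f (T.hG.1 n) (n + 1) (hfree n) (h₁ _) (h₂ _)
  exact algebraize_open_of_kill T (c + c) ((hlev _).1.of_dvd (pow_dvd_pow f (Nat.le_add_right c c)))
    ((hlev _).2.of_dvd (by rw [← pow_add]; exact pow_dvd_pow f (Nat.le_succ _)))

end

end Groth.Agent.FormAlg
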