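import Groth.Agent.FormAlg.Sect
import Groth.Agent.FinAdic.Basic
import Mathlib.RingTheory.Filtration

/-!
Compatible families of sections of the `(M/I^{n+1}M)~`: separation, Artin–Rees, restatement for `Formal2`.
-/

set_option autoImplicit false
set_option maxHeartbeats 1000000
set_option linter.style.haveILetI false
set_option backward.isDefEq.respectTransparency false
set_option backward.isDefEq.respectTransparency.types false
universe u

namespace Groth.Agent.FormAlg

open CategoryTheory CategoryTheory.Limits AlgebraicGeometry TopologicalSpace Opposite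
open Groth.Agent.LocH (Sec secOf secRes secRes_secOf secRes_secRes sec_ext exists_basicOpen_le)
open Groth.Agent.PunctArt (mapS mapS_secOf mapS_smul)

noncomputable section

variable {A : Type u} [CommRing A] (I : Ideal A) {M P : Type u} [AddCommGroup M] [Module A M] [AddCommGroup P]
  [Module A P]

variable (M) in
/-- `M → M/I^{n+1}M` -/
abbrev qπ (n : ℕ) : ModuleCat.of A M ⟶ ModuleCat.of A (Formal2.quotPow A I M n) :=
  ModuleCat.ofHom (Formal2.quotPowπ A I M n)

/-- `M/I^{m+1}M → M/I^{n+1}M` -/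
def qt {n m : ℕ} (h : n ≤ m) : Formal2.quotPow A I M m →ₗ[A] Formal2.quotPow A I M n :=
  Submodule.mapQ _ _ LinearMap.id (by
    rw [Submodule.comap_id]
    exact Submodule.smul_mono_left (Ideal.pow_le_pow_right (Nat.succ_le_succ h)))

theorem qt_π {n m : ℕ} (h : n ≤ m) :
    (qt I h).comp (Formal2.quotPowπ A I M m) = Formal2.quotPowπ A I M n := LinearMap.ext fun _ => rfl

theorem qt_succ (n : ℕ) : qt I (M := M) (Nat.le_succ n) = Formal2.quotPowTrans A I M n := rfl

theorem qt_comp {n m k : ℕ} (h : n ≤ m) (h' : m ≤ k) :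
    (qt I (M := M) h).comp (qt I h') = qt I (h.trans h') :=
  LinearMap.ext fun x => Submodule.Quotient.induction_on _ x fun m => by
    simp only [LinearMap.comp_apply, qt, Submodule.mapQ_apply, LinearMap.id_apply]

theorem qt_self (n : ℕ) : qt I (M := M) (le_refl n) = LinearMap.id :=
  LinearMap.ext fun x => Submodule.Quotient.induction_on _ x fun m => by
    simp only [qt, Submodule.mapQ_apply, LinearMap.id_apply]

/-- the map on `n`-th quotients -/
def qmap (φ : M →ₗ[A] P) (n : ℕ) : Formal2.quotPow A I M n →ₗ[A] Formal2.quotPow A I P n :=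
  Submodule.mapQ _ _ φ (Submodule.smul_top_le_comap_smul_top _ φ)

theorem qmap_π (φ : M →ₗ[A] P) (n : ℕ) :
    (qmap I φ n).comp (Formal2.quotPowπ A I M n) = (Formal2.quotPowπ A I P n).comp φ := LinearMap.ext fun _ => rfl

theorem qmap_qt (φ : M →ₗ[A] P) {n m : ℕ} (h : n ≤ m) :
    (qmap I φ n).comp (qt I h) = (qt I h).comp (qmap I φ m) :=
  LinearMap.ext fun x => Submodule.Quotient.induction_on _ x fun m => by
    simp only [LinearMap.comp_apply, qt, qmap, Submodule.mapQ_apply, LinearMap.id_apply]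

variable {I}

variable (V : (Spec (CommRingCat.of A)).Opens)

theorem mapS_lin {X Y Z : Type u} [AddCommGroup X] [Module A X] [AddCommGroup Y] [Module A Y] [AddCommGroup Z]
    [Module A Z] (f : X →ₗ[A] Y) (g : Y →ₗ[A] Z) (s : Sec A X V) :
    mapS (ModuleCat.ofHom g) V (mapS (ModuleCat.ofHom f) V s) = mapS (ModuleCat.ofHom (g.comp f)) V s :=
  (mapS_comp (ModuleCat.ofHom f) (ModuleCat.ofHom g) V s).symm

variable (I) in
/-- a compatible family of sections -/
def Compat (y : ∀ n, Sec A (Formal2.quotPow A I M n) V) : Prop :=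
  ∀ n, mapS (ModuleCat.ofHom (Formal2.quotPowTrans A I M n)) V (y (n + 1)) = y n

variable {V}

theorem Compat.eq {y : ∀ n, Sec A (Formal2.quotPow A I M n) V} (hy : Compat I V y) {n m : ℕ} (h : n ≤ m) :
    mapS (ModuleCat.ofHom (qt I h)) V (y m) = y n := by
  induction m, h using Nat.le_induction with
  | base =>
    rw [qt_self]
    exact mapS_id _ V _
  | succ m hm ih =>
    rw [← qt_comp I hm (Nat.le_succ m), ← mapS_lin, qt_succ]
    rw [hy m]
    exact ih

theorem Compat.res {y : ∀ n, Sec A (Formal2.quotPow A I M n) V} (hy : Compat I V y)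
    {W : (Spec (CommRingCat.of A)).Opens} (h : W ≤ V) : Compat I W fun n => secRes A _ h (y n) := fun n => by
  rw [← secRes_mapS, hy n]

theorem compat_of_sec (x : Sec A M V) : Compat I V fun n => mapS (qπ I M n) V x := fun n => by
  rw [mapS_lin]
  exact congrArg (fun f => mapS (ModuleCat.ofHom f) V x) (LinearMap.ext fun _ => rfl)

theorem qt_apply_sec (x : Sec A M V) {n m : ℕ} (h : n ≤ m) :
    mapS (ModuleCat.ofHom (qt I h)) V (mapS (qπ I M m) V x) = mapS (qπ I M n) V x :=
  (compat_of_sec x).eq h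

theorem secRes_self {X : Type u} [AddCommGroup X] [Module A X] (s : Sec A X V) : secRes A X (le_refl V) s = s :=
  congrArg (fun φ => φ s) ((LocH.secSheaf A X).obj.map_id (op V))

/-- A section vanishes if the module is locally killed at each point. -/
theorem sec_eq_zero_of_killed {X : Type u} [AddCommGroup X] [Module A X] (s : Sec A X V)
    (h : ∀ p ∈ V, ∃ t : A, t ∉ p.asIdeal ∧ ∀ x : X, t • x = 0) : s = 0 := by
  refine sec_ext fun p hp => ?_
  obtain ⟨t, htp, ht⟩ := h p hp
  obtain ⟨g, hpg, hg⟩ := exists_basicOpen_le (show p ∈ V ⊓ PrimeSpectrum.basicOpen t from ⟨hp, htp⟩)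
  refine ⟨g, fun z hz => (hg hz).1, hpg, ?_⟩
  rw [map_zero]
  refine LocH.eq_zero_of_pow_smul_eq_zero (f := t) (fun z hz => (hg hz).2) (n := 1) ?_
  rw [pow_one, ← map_smul, ← mapS_smul (M := ModuleCat.of A X) t V s]
  rw [show t • 𝟙 (ModuleCat.of A X) = 0 from ModuleCat.hom_ext (LinearMap.ext ht), mapS_zero, map_zero]

variable [IsNoetherianRing A]

/-- Krull: separated at primes containing `I`. -/
theorem exists_smul_eq_zero_of_krull [Module.Finite A M] (p : PrimeSpectrum A) (hIp : I ≤ p.asIdeal) (m : M)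
    (h : ∀ n : ℕ, ∃ t : A, t ∉ p.asIdeal ∧ t • m ∈ I ^ n • (⊤ : Submodule A M)) :
    ∃ t : A, t ∉ p.asIdeal ∧ t • m = 0 := by
  let B := Localization.AtPrime p.asIdeal
  let N := LocalizedModule p.asIdeal.primeCompl M
  let J : Ideal B := I.map (algebraMap A B)
  have hJ : J ≠ ⊤ := fun h => (IsLocalRing.maximalIdeal.isMaximal B).ne_top
    (top_le_iff.1 (h.ge.trans ((Ideal.map_mono hIp).trans (Localization.AtPrime.map_eq_maximalIdeal (I := p.asIdeal)).le)))
  let f := LocalizedModule.mkLinearMap p.asIdeal.primeCompl M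
  have hmap : ∀ n, ∀ x ∈ I ^ n • (⊤ : Submodule A M), f x ∈ J ^ n • (⊤ : Submodule B N) := fun n x hx => by
    refine Submodule.smul_induction_on hx (fun a ha y _ => ?_) fun a b ha hb => by rw [map_add]; exact add_mem ha hb
    rw [map_smul, ← IsScalarTower.algebraMap_smul B a (f y), ← Ideal.map_pow]
    exact Submodule.smul_mem_smul (Ideal.mem_map_of_mem _ ha) Submodule.mem_top
  have hm : f m ∈ (⨅ n : ℕ, J ^ n • (⊤ : Submodule B N)) := Submodule.mem_iInf _ |>.2 fun n => by
    obtain ⟨t, ht, htm⟩ := h n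
    have hu := IsLocalization.map_units B (⟨t, ht⟩ : p.asIdeal.primeCompl)
    have h1 := Submodule.smul_mem _ (↑hu.unit⁻¹ : B) (hmap n _ htm)
    rwa [map_smul, ← IsScalarTower.algebraMap_smul B t (f m), smul_smul, IsUnit.val_inv_mul, one_smul] at h1
  rw [Ideal.iInf_pow_smul_eq_bot_of_isLocalRing J hJ, Submodule.mem_bot] at hm
  obtain ⟨c, hc⟩ := (IsLocalizedModule.eq_zero_iff p.asIdeal.primeCompl f).1 hm
  exact ⟨c, c.2, hc⟩

/-- A section all whose images in `(M/I^{n+1}M)~` vanish is zero near `V(I)`. -/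
theorem exists_adm_zero [Module.Finite A M] {U V : (Spec (CommRingCat.of A)).Opens}
    (hV : Formal2.Admissible A I U V) (x : Sec A M V) (hx : ∀ n, mapS (qπ I M n) V x = 0) :
    ∃ (V' : (Spec (CommRingCat.of A)).Opens) (h : Formal2.Admissible A I U V' ∧ V' ≤ V), secRes A M h.2 x = 0 := by
  let S : Set (Spec (CommRingCat.of A)) :=
    {p | ∃ (g : A) (hg : PrimeSpectrum.basicOpen g ≤ V), p ∈ PrimeSpectrum.basicOpen g ∧ secRes A M hg x = 0}
  have hS : IsOpen S := isOpen_iff_forall_mem_open.2 fun p ⟨g, hg, hpg, hg0⟩ =>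
    ⟨_, fun q hq => ⟨g, hg, hq, hg0⟩, (PrimeSpectrum.basicOpen g).isOpen, hpg⟩
  have hSV : (⟨S, hS⟩ : (Spec (CommRingCat.of A)).Opens) ≤ V := fun p ⟨g, hg, hpg, _⟩ => hg hpg
  refine ⟨⟨S, hS⟩, ⟨⟨hSV.trans hV.1, fun p hpU hpI => ?_⟩, hSV⟩, sec_ext fun p hp => ?_⟩
  · obtain ⟨g, hpg, hg⟩ := exists_basicOpen_le (hV.2 p hpU hpI)
    obtain ⟨⟨m, c⟩, hc⟩ := IsLocalizedModule.surj (Submonoid.powers g) (secOf A M (PrimeSpectrum.basicOpen g))
      (secRes A M hg x)
    obtain ⟨t, htp, htm⟩ := exists_smul_eq_zero_of_krull (I := I) p hpI m fun n => by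
      have h0 : secOf A (Formal2.quotPow A I M n) (PrimeSpectrum.basicOpen g) (Submodule.Quotient.mk m) = 0 := by
        refine (mapS_secOf (qπ I M n) (PrimeSpectrum.basicOpen g) m).symm.trans ?_
        rw [← hc, Submonoid.smul_def, map_smul, ← secRes_mapS, hx n, map_zero, smul_zero]
      obtain ⟨⟨_, k, rfl⟩, hk⟩ := (IsLocalizedModule.eq_zero_iff (Submonoid.powers g) _).1 h0
      exact ⟨g ^ k, fun hm => hpg (p.isPrime.mem_of_pow_mem k hm),
        Submodule.smul_mono_left (Ideal.pow_le_pow_right (Nat.le_succ n)) ((Submodule.Quotient.mk_eq_zero _).1 hk)⟩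
    obtain ⟨g', hpg', hg'⟩ := exists_basicOpen_le
      (show p ∈ PrimeSpectrum.basicOpen g ⊓ PrimeSpectrum.basicOpen t from ⟨hpg, htp⟩)
    refine ⟨g', fun z hz => hg (hg' hz).1, hpg', ?_⟩
    have h1 : secRes A M (show PrimeSpectrum.basicOpen g' ≤ PrimeSpectrum.basicOpen g from fun z hz => (hg' hz).1)
        ((c : A) • secRes A M hg x) = 0 := by
      rw [← Submonoid.smul_def, hc, secRes_secOf]
      refine LocH.eq_zero_of_pow_smul_eq_zero (f := t) (fun z hz => (hg' hz).2) (n := 1) ?_
      rw [pow_one, ← map_smul, htm, map_zero]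
    obtain ⟨k, hk⟩ := c.2
    rw [map_smul, secRes_secRes, ← hk] at h1
    exact LocH.eq_zero_of_pow_smul_eq_zero (f := g) (fun z hz => (hg' hz).1) (n := k) h1
  · obtain ⟨g, hg, hpg, hg0⟩ := hp
    refine ⟨g, fun q hq => ⟨g, hg, hq, hg0⟩, hpg, ?_⟩
    rw [map_zero, secRes_secRes, hg0]

/-- Artin–Rees for an injective map. -/
theorem exists_AR [Module.Finite A P] (φ : M →ₗ[A] P) (hφ : Function.Injective φ) :
    ∃ c : ℕ, ∀ (n : ℕ) (m : M), φ m ∈ I ^ (n + c) • (⊤ : Submodule A P) → m ∈ I ^ n • (⊤ : Submodule A M) := by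
  obtain ⟨k, hk⟩ := Ideal.exists_pow_inf_eq_pow_smul I (LinearMap.range φ)
  refine ⟨k, fun n m hm => ?_⟩
  have h1 : φ m ∈ I ^ (n + k) • (⊤ : Submodule A P) ⊓ LinearMap.range φ := ⟨hm, LinearMap.mem_range_self φ m⟩
  rw [hk (n + k) (Nat.le_add_left k n), Nat.add_sub_cancel] at h1
  have h2 : φ m ∈ (I ^ n • (⊤ : Submodule A M)).map φ := by
    rw [Submodule.map_smul'', Submodule.map_top]
    exact Submodule.smul_mono le_rfl inf_le_right h1
  obtain ⟨m', hm', he⟩ := h2
  exact hφ he ▸ hm'

/-- The kernel sequence of a linear map onto its range. -/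
def kerSES {X Y : Type u} [AddCommGroup X] [Module A X] [AddCommGroup Y] [Module A Y] (f : X →ₗ[A] Y) :
    ShortComplex (ModuleCat.{u} A) :=
  ShortComplex.mk (ModuleCat.ofHom (LinearMap.ker f).subtype) (ModuleCat.ofHom f.rangeRestrict)
    (ModuleCat.hom_ext (LinearMap.ext fun x => Subtype.ext x.2))

theorem kerSES_shortExact {X Y : Type u} [AddCommGroup X] [Module A X] [AddCommGroup Y] [Module A Y] (f : X →ₗ[A] Y) :
    (kerSES f).ShortExact :=
  { exact := by
      rw [ShortComplex.moduleCat_exact_iff]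
      intro y hy
      exact ⟨⟨y, congrArg Subtype.val hy⟩, rfl⟩
    mono_f := (ModuleCat.mono_iff_injective _).2 (Submodule.injective_subtype _)
    epi_g := (ModuleCat.epi_iff_surjective _).2 f.surjective_rangeRestrict }

omit [IsNoetherianRing A] in
/-- the inclusion of a range is injective on sections -/
theorem mapS_injective {X Y : Type u} [AddCommGroup X] [Module A X] [AddCommGroup Y] [Module A Y] (f : X →ₗ[A] Y)
    (hf : Function.Injective f) (W : (Spec (CommRingCat.of A)).Opens) :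
    Function.Injective (mapS (ModuleCat.ofHom f) W) := by
  have hS : (ShortComplex.mk (ModuleCat.ofHom f) (ModuleCat.ofHom (LinearMap.range f).mkQ)
      (ModuleCat.hom_ext (LinearMap.ext fun x => (Submodule.Quotient.mk_eq_zero _).2 (LinearMap.mem_range_self f x)))).ShortExact :=
    { exact := by
        rw [ShortComplex.moduleCat_exact_iff]
        intro y hy
        exact (Submodule.Quotient.mk_eq_zero _).1 hy
      mono_f := (ModuleCat.mono_iff_injective _).2 hf
      epi_g := (ModuleCat.epi_iff_surjective _).2 (Submodule.mkQ_surjective _) }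
  exact mapS_f_injective hS W

/-- A compatible family killed by an injective map is zero. -/
theorem eq_zero_of_AR [Module.Finite A P] (φ : M →ₗ[A] P) (hφ : Function.Injective φ)
    {W : (Spec (CommRingCat.of A)).Opens} {δ : ∀ n, Sec A (Formal2.quotPow A I M n) W} (hδ : Compat I W δ)
    (h0 : ∀ n, mapS (ModuleCat.ofHom (qmap I φ n)) W (δ n) = 0) (n : ℕ) : δ n = 0 := by
  obtain ⟨c, hc⟩ := exists_AR (I := I) φ hφ
  let f := qmap I φ (n + c)
  have h1 : mapS (ModuleCat.ofHom f.rangeRestrict) W (δ (n + c)) = 0 := by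
    refine mapS_injective (LinearMap.range f).subtype (Submodule.injective_subtype _) W ?_
    rw [map_zero, mapS_lin]
    exact h0 (n + c)
  obtain ⟨t, ht⟩ := exists_of_mapS_g (kerSES_shortExact f) W (s := δ (n + c)) h1
  rw [← hδ.eq (Nat.le_add_right n c), ← ht]
  refine (mapS_comp _ _ W t).symm.trans ?_
  rw [show ((kerSES f).f ≫ ModuleCat.ofHom (qt I (M := M) (Nat.le_add_right n c))) = 0 from ?_, mapS_zero]
  refine ModuleCat.hom_ext (LinearMap.ext fun x => ?_)
  obtain ⟨x, hx⟩ := x
  obtain ⟨m, rfl⟩ := Submodule.mkQ_surjective _ x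
  refine (Submodule.Quotient.mk_eq_zero _).2 (hc (n + 1) m ?_)
  rw [Nat.add_right_comm]
  exact (Submodule.Quotient.mk_eq_zero _).1 hx

/-! ### The predicates of `Formal2` -/

variable (I) (M) in
/-- Every compatible family over `U` comes from a section near `V(I)`. -/
def Alg (U : (Spec (CommRingCat.of A)).Opens) : Prop :=
  ∀ y : ∀ n, Sec A (Formal2.quotPow A I M n) U, Compat I U y →
    ∃ (V : (Spec (CommRingCat.of A)).Opens) (hV : Formal2.Admissible A I U V) (x : Sec A M V),
      ∀ n, secRes A _ hV.1 (y n) = mapS (qπ I M n) V x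

/-- Colimit bijectivity from `Alg`. -/
theorem colimBijective_of_alg [Module.Finite A M] {U : (Spec (CommRingCat.of A)).Opens} (h : Alg I M U) :
    Formal2.FormalCohColimBijective A I M 0 U := by
  refine ⟨fun V hV x hx => ?_, fun y hy => ?_⟩
  · obtain ⟨V', hV', h0'⟩ := exists_adm_zero hV (h0 M V x) fun n => by
      rw [← h0_map, hx n, map_zero]
    refine ⟨V', hV', (h0 M V').injective ?_⟩
    rw [h0_res, h0', map_zero]
  · obtain ⟨V, hV, x, hx⟩ := h (fun n => h0 _ U (y n)) fun n => by rw [← h0_map, hy n]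
    refine ⟨V, hV, (h0 M V).symm x, fun n => (h0 _ V).injective ?_⟩
    rw [h0_res, h0_map, AddEquiv.apply_symm_apply, hx n]

end

end Groth.Agent.FormAlg
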