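import Groth.Agent.FormAlg.CIPic
import Groth.Agent.ParaFLib.UfdApply
import Groth.Agent.TorCI.CILoc

/-!
Complete intersections factorial in codimension at most three are factorial.
-/

set_option autoImplicit false
set_option maxHeartbeats 1000000
set_option linter.style.haveILetI false
set_option backward.isDefEq.respectTransparency false
set_option backward.isDefEq.respectTransparency.types false
universe u

namespace Groth.Agent.FormAlg

open CategoryTheory AlgebraicGeometry TopologicalSpace

theorem ufd_congr {A B : Type u} [CommRing A] [CommRing B] (e : A ≃+* B)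
    (h : IsDomain A ∧ UniqueFactorizationMonoid A) : IsDomain B ∧ UniqueFactorizationMonoid B := by
  haveI := h.1
  haveI := e.symm.toMulEquiv.isDomain A
  exact ⟨inferInstance, MulEquiv.uniqueFactorizationMonoid e.toMulEquiv h.2⟩

theorem ufd_of_ci_aux : ∀ (n : ℕ) (A : Type u) [CommRing A] [IsNoetherianRing A] [IsLocalRing A],
    Pi1.IsCompleteIntersection A → ringKrullDim A ≤ n →
    (∀ p : PrimeSpectrum A, ringKrullDim (Localization.AtPrime p.asIdeal) ≤ 3 →
      IsDomain (Localization.AtPrime p.asIdeal) ∧ UniqueFactorizationMonoid (Localization.AtPrime p.asIdeal)) →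
    IsDomain A ∧ UniqueFactorizationMonoid A := by
  intro n
  induction n using Nat.strong_induction_on with
  | _ n ih =>
    intro A _ _ _ hci hn h
    let m : PrimeSpectrum A := IsLocalRing.closedPoint A
    haveI : IsLocalization.AtPrime A m.asIdeal := IsLocalization.of_le_isUnit fun s hs =>
      IsLocalRing.notMem_maximalIdeal.1 hs
    let em : Localization.AtPrime m.asIdeal ≃+* A :=
      (IsLocalization.algEquiv m.asIdeal.primeCompl (Localization.AtPrime m.asIdeal) A).toRingEquiv
    by_cases hd : ringKrullDim A ≤ 3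
    · exact ufd_congr em (h m ((ringKrullDim_eq_of_ringEquiv em).trans_le hd))
    have hd4 : (4 : WithBot ℕ∞) ≤ ringKrullDim A := by
      obtain ⟨d, hd'⟩ := WithBot.ne_bot_iff_exists.1 (ringKrullDim_ne_bot (R := A))
      rw [← hd'] at hd ⊢
      refine WithBot.coe_le_coe.2 ?_
      have h3 : ¬ d ≤ (3 : ℕ∞) := fun h => hd (WithBot.coe_le_coe.2 h)
      induction d using ENat.recTopCoe with
      | top => exact le_top
      | coe k => norm_cast at h3 ⊢; omega
    obtain ⟨hdep, hP⟩ := picTrivial_punctured_ci A hci hd4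
    refine ParaFLib.ufd_of_punctured A ((by norm_num : (2 : ℕ∞) ≤ 4).trans hdep) hP fun y hy => ?_
    let p : PrimeSpectrum A := y
    haveI : IsLocalization.AtPrime ((Spec.structureSheaf A).presheaf.stalk p) p.asIdeal := inferInstance
    refine ufd_congr (A := Localization.AtPrime p.asIdeal)
      (IsLocalization.algEquiv p.asIdeal.primeCompl (Localization.AtPrime p.asIdeal)
        ((Spec.structureSheaf A).presheaf.stalk p)).toRingEquiv ?_
    have hpm : p.asIdeal < IsLocalRing.maximalIdeal A :=
      lt_of_le_of_ne (IsLocalRing.le_maximalIdeal p.2.ne_top) fun e => hy (PrimeSpectrum.ext e)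
    have hlt : p.asIdeal.height < (IsLocalRing.maximalIdeal A).height :=
      Ideal.height_strict_mono_of_isPrime_of_isPrime hpm
    have h1 : ringKrullDim (Localization.AtPrime p.asIdeal) < (n : WithBot ℕ∞) := by
      rw [IsLocalization.AtPrime.ringKrullDim_eq_height p.asIdeal (Localization.AtPrime p.asIdeal)]
      refine (WithBot.coe_lt_coe.2 hlt).trans_le ?_
      rw [IsLocalRing.maximalIdeal_height_eq_ringKrullDim]
      exact hn
    obtain ⟨k, hk, hkn⟩ : ∃ k : ℕ, ringKrullDim (Localization.AtPrime p.asIdeal) ≤ k ∧ k < n := by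
      rw [IsLocalization.AtPrime.ringKrullDim_eq_height p.asIdeal (Localization.AtPrime p.asIdeal)] at h1 ⊢
      have h1' : p.asIdeal.height < (n : ℕ∞) := WithBot.coe_lt_coe.1 h1
      obtain ⟨k, hk⟩ := ENat.ne_top_iff_exists.1 (ne_top_of_lt h1')
      rw [← hk] at h1' ⊢
      exact ⟨k, le_rfl, by exact_mod_cast h1'⟩
    refine ih k hkn (Localization.AtPrime p.asIdeal) (TorCI.isCI_localization hci p.asIdeal) hk fun q hq => ?_
    let q' : PrimeSpectrum A := PrimeSpectrum.comap (algebraMap A (Localization.AtPrime p.asIdeal)) q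
    let e : Localization.AtPrime q'.asIdeal ≃+* Localization.AtPrime q.asIdeal :=
      (IsLocalization.localizationLocalizationAtPrimeIsoLocalization p.asIdeal.primeCompl q.asIdeal).toRingEquiv
    exact ufd_congr e (h q' ((ringKrullDim_eq_of_ringEquiv e).trans_le hq))

theorem ufd_of_ci (A : Type u) [CommRing A] [IsNoetherianRing A] [IsLocalRing A] (hci : Pi1.IsCompleteIntersection A)
    (h : ∀ p : PrimeSpectrum A, ringKrullDim (Localization.AtPrime p.asIdeal) ≤ 3 →
      IsDomain (Localization.AtPrime p.asIdeal) ∧ UniqueFactorizationMonoid (Localization.AtPrime p.asIdeal)) :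
    IsDomain A ∧ UniqueFactorizationMonoid A := by
  haveI : FiniteRingKrullDim A := inferInstance
  obtain ⟨d, hd⟩ := WithBot.ne_bot_iff_exists.1 (ringKrullDim_ne_bot (R := A))
  obtain ⟨k, hk⟩ := ENat.ne_top_iff_exists.1 (show d ≠ ⊤ by
    intro e
    exact ringKrullDim_ne_top (R := A) (hd.symm.trans (by rw [e]; rfl)))
  exact ufd_of_ci_aux k A hci (by rw [← hd, ← hk]; rfl) h

end Groth.Agent.FormAlg
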