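import Groth.Agent.FormAlg.KillT
import Groth.Agent.FormAlg.Basic
import Groth.Agent.HTLib.UConcl
import Mathlib.RingTheory.Lasker

/-!
`colim_V Γ(V, M~) = lim Γ(U, M/I^{n+1}M)` under a dimension condition on associated primes.
-/

set_option autoImplicit false
set_option maxHeartbeats 1000000
set_option linter.style.haveILetI false
set_option backward.isDefEq.respectTransparency false
set_option backward.isDefEq.respectTransparency.types false
universe u

namespace Groth.Agent.FormAlg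

open CategoryTheory CategoryTheory.Limits AlgebraicGeometry TopologicalSpace Opposite
open Groth.Agent.LocH (Sec secOf secRes secRes_secOf secRes_secRes)
open Groth.Agent.PunctArt (mapS mapS_secOf mapS_smul)
open Groth.Agent.HTLib (resI sesQ sesQ_shortExact)

attribute [local instance] HasDerivedCategory.standard

noncomputable section

variable {A : Type u} [CommRing A]

theorem tilde_map_add {R : CommRingCat.{u}} {X Y : ModuleCat.{u} R} (f g : X ⟶ Y) :
    modulesSpecToSheaf.map ((tilde.functor R).map (f + g)) =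
      modulesSpecToSheaf.map ((tilde.functor R).map f) + modulesSpecToSheaf.map ((tilde.functor R).map g) := by
  rw [Functor.map_add]
  rfl

theorem mapS_add {X Y : ModuleCat.{u} A} (f g : X ⟶ Y) (V : (Spec (CommRingCat.of A)).Opens) (s : Sec A X V) :
    mapS (f + g) V s = mapS f V s + mapS g V s := by
  show ((modulesSpecToSheaf.map ((tilde.functor (CommRingCat.of A)).map (f + g))).hom.app (op V)).hom s = _
  rw [tilde_map_add]
  rfl

theorem mapS_sum {ι : Type*} (t : Finset ι) {X Y : Type u} [AddCommGroup X] [Module A X] [AddCommGroup Y] [Module A Y]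
    (f : ι → X →ₗ[A] Y) (V : (Spec (CommRingCat.of A)).Opens) (s : Sec A X V) :
    mapS (ModuleCat.ofHom (∑ i ∈ t, f i)) V s = ∑ i ∈ t, mapS (ModuleCat.ofHom (f i)) V s := by
  classical
  induction t using Finset.induction with
  | empty =>
    rw [Finset.sum_empty, Finset.sum_empty, show ModuleCat.ofHom (0 : X →ₗ[A] Y) = 0 from rfl]
    exact mapS_zero (X := ModuleCat.of A X) (Y := ModuleCat.of A Y) V s
  | insert i t hi ih =>
    rw [Finset.sum_insert hi, Finset.sum_insert hi, ← ih]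
    exact mapS_add (ModuleCat.ofHom (f i)) (ModuleCat.ofHom (∑ j ∈ t, f j)) V s

theorem mapS_smul_id {X : Type u} [AddCommGroup X] [Module A X] (c : A) (V : (Spec (CommRingCat.of A)).Opens)
    (s : Sec A X V) : mapS (ModuleCat.ofHom (c • (LinearMap.id : X →ₗ[A] X))) V s = c • s :=
  mapS_smul (M := ModuleCat.of A X) c V s

variable [IsNoetherianRing A] (I 𝔞 : Ideal A)

variable (M : Type u) [AddCommGroup M] [Module A M] [Module.Finite A M]

local notation "U𝔞" => EGA4.openCompl A 𝔞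

omit [Module.Finite A M] in
/-- the sequences for different levels, multiplied -/
def sesSmul (a : A) {n k : ℕ} (h : n ≤ k) : sesQ I M (k + 1) ⟶ sesQ I M (n + 1) where
  τ₁ := ModuleCat.ofHom (a • resI I M (Nat.succ_le_succ h))
  τ₂ := ModuleCat.ofHom (a • (LinearMap.id : M →ₗ[A] M))
  τ₃ := ModuleCat.ofHom (a • qt I h)
  comm₁₂ := rfl
  comm₂₃ := ModuleCat.hom_ext (LinearMap.ext fun x => rfl)

/-- The multiplied family lifts to a section over `U`. -/
theorem exists_mul_lift [IsAdicComplete I A] (a : A)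
    (ha : ∀ n : ℕ, ∃ K : ℕ, n ≤ K ∧ ∀ i ≤ 2, ∀ (k : ℕ) (hk : n ≤ k), K ≤ k →
      (localCohomology 𝔞 i).map (ModuleCat.ofHom (a • resI I M hk)) = 0)
    (y : ∀ n, Sec A (Formal2.quotPow A I M n) U𝔞) (hy : Compat I U𝔞 y) :
    ∃ z : Sec A M U𝔞, ∀ n, mapS (qπ I M n) U𝔞 z = (a * a) • y n := by
  choose K hK hKill using ha
  have stepA : ∀ n, ∃ z : Sec A M U𝔞, mapS (qπ I M n) U𝔞 z = a • y n := fun n => by
    let k := max n (K (n + 1))
    obtain ⟨z, hz⟩ := exists_lift_of_map_two (𝔞 := 𝔞) (sesQ_shortExact I M (k + 1)) (sesQ_shortExact I M (n + 1))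
      (sesSmul I M a (le_max_left n (K (n + 1))))
      (hKill (n + 1) 2 le_rfl (k + 1) (Nat.succ_le_succ (le_max_left _ _)) ((le_max_right n _).trans (Nat.le_succ k)))
      (y k)
    refine ⟨z, hz.trans ?_⟩
    refine (mapS_smul_hom a (ModuleCat.ofHom (qt I (M := M) (le_max_left n (K (n + 1))))) U𝔞 (y k)).trans ?_
    rw [hy.eq]
  choose za hza using stepA
  have stepB : ∀ (n k : ℕ) (hnk : n ≤ k), K (n + 1) ≤ k + 1 → ∀ w : Sec A M U𝔞, mapS (qπ I M k) U𝔞 w = 0 →
      ∃ p ∈ I ^ (n + 1) • (⊤ : Submodule A M), secOf A M U𝔞 p = a • w := by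
    intro n k hnk hk w hw
    obtain ⟨t, ht⟩ := exists_of_mapS_g (sesQ_shortExact I M (k + 1)) U𝔞 (s := w) hw
    obtain ⟨p, hp⟩ := mem_range_of_map_one (ModuleCat.ofHom (a • resI I M (Nat.succ_le_succ hnk)))
      (hKill (n + 1) 1 one_le_two (k + 1) (Nat.succ_le_succ hnk) hk) t
    refine ⟨(p : M), p.2, ?_⟩
    refine (mapS_secOf (ModuleCat.ofHom (I ^ (n + 1) • (⊤ : Submodule A M)).subtype) U𝔞 p).symm.trans ?_
    refine (congrArg _ hp).trans ?_
    rw [mapS_lin, ← ht, ← mapS_smul_hom]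
    rfl
  let σ : ℕ → ℕ := fun n => n + ∑ i ∈ Finset.range (n + 1), K (i + 1)
  have hσ : ∀ n, n ≤ σ n ∧ K (n + 1) ≤ σ n + 1 ∧ σ n ≤ σ (n + 1) := fun n => by
    refine ⟨Nat.le_add_right _ _, ?_, ?_⟩
    · have := Finset.single_le_sum (f := fun i => K (i + 1)) (fun i _ => Nat.zero_le _) (Finset.self_mem_range_succ n)
      simp only [σ]
      omega
    · simp only [σ, Finset.sum_range_succ _ (n + 1)]
      omega
  have hdiff : ∀ n, ∃ p ∈ I ^ (n + 1) • (⊤ : Submodule A M),
      secOf A M U𝔞 p = a • za (σ (n + 1)) - a • za (σ n) := fun n => by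
    obtain ⟨p, hp, hp'⟩ := stepB n (σ n) (hσ n).1 (hσ n).2.1 (za (σ (n + 1)) - za (σ n)) (by
      rw [map_sub, ← qt_apply_sec (za (σ (n + 1))) (hσ n).2.2, hza, hza, map_smul, hy.eq, sub_self])
    exact ⟨p, hp, hp'.trans (smul_sub _ _ _)⟩
  choose p hp hp' using hdiff
  let S : ℕ → M := fun n => ∑ i ∈ Finset.range n, p i
  have hcauchy : ∀ {m n : ℕ}, m ≤ n → S m ≡ S n [SMOD (I ^ m • ⊤ : Submodule A M)] := by
    intro m n hmn
    refine SModEq.sub_mem.2 ?_
    induction n, hmn using Nat.le_induction with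
    | base => rw [sub_self]; exact zero_mem _
    | succ k hk ih =>
      rw [show S m - S (k + 1) = (S m - S k) - p k by simp only [S, Finset.sum_range_succ]; abel]
      exact sub_mem ih (Submodule.smul_mono_left (Ideal.pow_le_pow_right (hk.trans (Nat.le_succ k))) (hp k))
  haveI := FinAdic.isAdicComplete_of_finite I M
  obtain ⟨L, hL⟩ := IsPrecomplete.prec' (I := I) S hcauchy
  have htel : ∀ n, a • za (σ n) = a • za (σ 0) + secOf A M U𝔞 (S n) := fun n => by
    induction n with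
    | zero => simp [S]
    | succ n ih =>
      rw [show S (n + 1) = S n + p n from Finset.sum_range_succ _ _, map_add, hp', ← add_assoc, ← ih]
      abel
  refine ⟨a • za (σ 0) + secOf A M U𝔞 L, fun n => ?_⟩
  have hmem : L - S (n + 1) ∈ I ^ (n + 1) • (⊤ : Submodule A M) := by
    rw [← neg_sub]
    exact neg_mem (SModEq.sub_mem.1 (hL (n + 1)))
  rw [show secOf A M U𝔞 L = secOf A M U𝔞 (S (n + 1)) + secOf A M U𝔞 (L - S (n + 1)) by
    rw [← map_add, add_sub_cancel], ← add_assoc, ← htel, map_add, map_smul]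
  rw [show mapS (qπ I M n) U𝔞 (secOf A M U𝔞 (L - S (n + 1))) = 0 from
    (mapS_secOf (qπ I M n) U𝔞 (L - S (n + 1))).trans ((congrArg _ ((Submodule.Quotient.mk_eq_zero _).2 hmem)).trans (map_zero _)),
    add_zero, ← qt_apply_sec (za (σ (n + 1))) ((Nat.le_succ n).trans (hσ (n + 1)).1), hza, map_smul, hy.eq, smul_smul]

variable {I 𝔞 M}

/-- A regular multiplier gives algebraisation. -/
theorem alg_of_mul (c : A) (hc : IsSMulRegular M c)
    (h : ∀ y : ∀ n, Sec A (Formal2.quotPow A I M n) U𝔞, Compat I U𝔞 y →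
      ∃ z : Sec A M U𝔞, ∀ n, mapS (qπ I M n) U𝔞 z = c • y n) : Alg I M U𝔞 := by
  intro y hy
  obtain ⟨z, hz⟩ := h y hy
  let φ : M →ₗ[A] M := c • LinearMap.id
  let π : M →ₗ[A] M ⧸ LinearMap.range φ := (LinearMap.range φ).mkQ
  have hπφ : π.comp φ = 0 := LinearMap.ext fun x => (Submodule.Quotient.mk_eq_zero _).2 (LinearMap.mem_range_self φ x)
  have hS : (ShortComplex.mk (ModuleCat.ofHom φ) (ModuleCat.ofHom π) (ModuleCat.hom_ext hπφ)).ShortExact :=
    { exact := by
        rw [ShortComplex.moduleCat_exact_iff]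
        intro x hx
        exact (Submodule.Quotient.mk_eq_zero _).1 hx
      mono_f := (ModuleCat.mono_iff_injective _).2 hc
      epi_g := (ModuleCat.epi_iff_surjective _).2 (Submodule.mkQ_surjective _) }
  obtain ⟨V, ⟨hV, hVle⟩, hzero⟩ := exists_adm_zero (I := I) (U := U𝔞) ⟨le_rfl, fun p hp _ => hp⟩
    (mapS (ModuleCat.ofHom π) U𝔞 z) fun n => by
      rw [mapS_lin, ← qmap_π, ← mapS_lin, hz, ← mapS_smul_id c U𝔞 (y n), mapS_lin]
      rw [show (qmap I π n).comp (c • LinearMap.id) = 0 from ?_]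
      · exact mapS_zero _ _
      refine Submodule.linearMap_qext _ (LinearMap.ext fun m => ?_)
      show qmap I π n (c • Submodule.Quotient.mk m) = 0
      rw [← Submodule.Quotient.mk_smul]
      simp only [qmap, Submodule.mapQ_apply]
      rw [show π (c • m) = 0 from LinearMap.congr_fun hπφ m, Submodule.Quotient.mk_zero]
  obtain ⟨x, hx⟩ := exists_of_mapS_g hS V (s := secRes A M hVle z) (by rw [← secRes_mapS, hzero])
  refine ⟨V, hV, x, ?_⟩
  let δ : ∀ n, Sec A (Formal2.quotPow A I M n) V := fun n => secRes A _ hV.1 (y n) - mapS (qπ I M n) V x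
  have hδ : Compat I V δ := fun n => by
    simp only [δ]
    rw [map_sub, (hy.res hV.1) n, compat_of_sec x n]
  have h0 : ∀ n, mapS (ModuleCat.ofHom (qmap I φ n)) V (δ n) = 0 := fun n => by
    have hq : qmap I φ n = c • LinearMap.id := Submodule.linearMap_qext _ (LinearMap.ext fun m => rfl)
    simp only [δ]
    rw [map_sub, sub_eq_zero]
    refine Eq.trans ?_ (mapS_lin V (Formal2.quotPowπ A I M n) (qmap I φ n) x).symm
    rw [qmap_π, ← mapS_lin, show mapS (ModuleCat.ofHom φ) V x = secRes A M hVle z from hx, ← secRes_mapS (ModuleCat.ofHom (Formal2.quotPowπ A I M n)) hVle, hz,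
      hq, mapS_smul_id, ← map_smul]
  exact fun n => sub_eq_zero.1 (eq_zero_of_AR φ hc hδ h0 n)

/-- Modules killed by a power of `I`. -/
theorem alg_of_pow {c : ℕ} (hc : I ^ c • (⊤ : Submodule A M) = ⊥) (U : (Spec (CommRingCat.of A)).Opens) :
    Alg I M U := by
  intro y hy
  have hbij : ∀ m, c ≤ m + 1 → Function.Bijective (Formal2.quotPowπ A I M m) := fun m hm => by
    refine ⟨(injective_iff_map_eq_zero _).2 fun x hx => ?_, Submodule.mkQ_surjective _⟩
    have h1 := Submodule.smul_mono_left (Ideal.pow_le_pow_right hm) ((Submodule.Quotient.mk_eq_zero _).1 hx)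
    rwa [hc, Submodule.mem_bot] at h1
  let e : ∀ m, c ≤ m + 1 → (M ≃ₗ[A] Formal2.quotPow A I M m) := fun m hm => LinearEquiv.ofBijective _ (hbij m hm)
  let g : ∀ m, c ≤ m + 1 → Sec A M U := fun m hm => mapS (ModuleCat.ofHom (e m hm).symm.toLinearMap) U (y m)
  have hg : ∀ m hm, mapS (qπ I M m) U (g m hm) = y m := fun m hm => by
    rw [mapS_lin, show (Formal2.quotPowπ A I M m).comp (e m hm).symm.toLinearMap = LinearMap.id from
      LinearMap.ext fun x => (e m hm).apply_symm_apply x]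
    exact mapS_id _ _ _
  refine ⟨U, ⟨le_rfl, fun p hp _ => hp⟩, g c (Nat.le_succ c), fun n => ?_⟩
  rw [secRes_self]
  have hm : c ≤ max n c + 1 := (le_max_right n c).trans (Nat.le_succ _)
  have he : g (max n c) hm = g c (Nat.le_succ c) := by
    refine mapS_injective (Formal2.quotPowπ A I M c) (hbij c (Nat.le_succ c)).1 U ?_
    rw [hg c (Nat.le_succ c), ← qt_apply_sec _ (le_max_right n c), hg (max n c) hm, hy.eq]
  rw [← he, ← qt_apply_sec _ (le_max_left n c), hg (max n c) hm, hy.eq]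

/-- Modules killed outside the formal neighbourhood. -/
theorem alg_of_killed {U V : (Spec (CommRingCat.of A)).Opens} (hV : Formal2.Admissible A I U V)
    (h : ∀ p ∈ V, ∃ t : A, t ∉ p.asIdeal ∧ ∀ x : M, t • x = 0) : Alg I M U := by
  intro y _
  refine ⟨V, hV, 0, fun n => ?_⟩
  rw [map_zero]
  refine sec_eq_zero_of_killed _ fun p hp => ?_
  obtain ⟨t, ht, htx⟩ := h p hp
  refine ⟨t, ht, fun x => Submodule.Quotient.induction_on _ x fun m => ?_⟩
  rw [← Submodule.Quotient.mk_smul, htx, Submodule.Quotient.mk_zero]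

/-- Embedding into a finite product with the property. -/
theorem alg_of_embedding {ι : Type u} [Fintype ι] (Q : ι → Type u) [∀ i, AddCommGroup (Q i)] [∀ i, Module A (Q i)]
    [∀ i, Module.Finite A (Q i)] (π : ∀ i, M →ₗ[A] Q i) (hπ : Function.Injective (LinearMap.pi π))
    {U : (Spec (CommRingCat.of A)).Opens} (h : ∀ i, Alg I (Q i) U) : Alg I M U := by
  classical
  intro y hy
  have hyi : ∀ i, Compat I U fun n => mapS (ModuleCat.ofHom (qmap I (π i) n)) U (y n) := fun i n => by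
    rw [mapS_lin, ← qt_succ, ← qmap_qt, ← mapS_lin, qt_succ, hy n]
  choose W hW x hx using fun i => h i _ (hyi i)
  let V : (Spec (CommRingCat.of A)).Opens := U ⊓ Finset.univ.inf W
  have hV : Formal2.Admissible A I U V := ⟨inf_le_left, fun p hp hpI => by
    refine ⟨hp, ?_⟩
    suffices ∀ t : Finset ι, p ∈ t.inf W from this _
    intro t
    induction t using Finset.induction with
    | empty => rw [Finset.inf_empty]; trivial
    | insert i t _ ih => rw [Finset.inf_insert]; exact ⟨(hW i).2 p hp hpI, ih⟩⟩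
  have hVi : ∀ i, V ≤ W i := fun i => inf_le_right.trans (Finset.inf_le (Finset.mem_univ i))
  let φ : M →ₗ[A] ∀ i, Q i := LinearMap.pi π
  let xP : Sec A (∀ i, Q i) V :=
    ∑ i, mapS (ModuleCat.ofHom (LinearMap.single A Q i)) V (secRes A (Q i) (hVi i) (x i))
  have hxP : ∀ n, mapS (qπ I (∀ i, Q i) n) V xP =
      mapS (ModuleCat.ofHom (qmap I φ n)) V (secRes A _ hV.1 (y n)) := fun n => by
    have hφ : qmap I φ n = ∑ i, (qmap I (LinearMap.single A Q i) n).comp (qmap I (π i) n) := by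
      refine Submodule.linearMap_qext _ (LinearMap.ext fun m => ?_)
      simp only [LinearMap.comp_apply, Submodule.mkQ_apply, LinearMap.sum_apply, qmap, Submodule.mapQ_apply]
      rw [← Submodule.mkQ_apply, show φ m = ∑ i, LinearMap.single A Q i (π i m) from
        (Finset.univ_sum_single (φ m)).symm, map_sum]
      rfl
    rw [map_sum, hφ, mapS_sum]
    refine Finset.sum_congr rfl fun i _ => ?_
    rw [mapS_lin, ← qmap_π, ← mapS_lin, ← secRes_mapS, ← hx i n, ← mapS_lin]
    refine congrArg _ ?_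
    rw [secRes_secRes, secRes_mapS]
  let ρ : (∀ i, Q i) →ₗ[A] (∀ i, Q i) ⧸ LinearMap.range φ := (LinearMap.range φ).mkQ
  have hρφ : ρ.comp φ = 0 := LinearMap.ext fun m => (Submodule.Quotient.mk_eq_zero _).2 (LinearMap.mem_range_self φ m)
  have hS : (ShortComplex.mk (ModuleCat.ofHom φ) (ModuleCat.ofHom ρ) (ModuleCat.hom_ext hρφ)).ShortExact :=
    { exact := by
        rw [ShortComplex.moduleCat_exact_iff]
        intro v hv
        exact (Submodule.Quotient.mk_eq_zero _).1 hv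
      mono_f := (ModuleCat.mono_iff_injective _).2 hπ
      epi_g := (ModuleCat.epi_iff_surjective _).2 (Submodule.mkQ_surjective _) }
  obtain ⟨V', ⟨hV', hle⟩, hz⟩ := exists_adm_zero (I := I) hV (mapS (ModuleCat.ofHom ρ) V xP) fun n => by
    rw [mapS_lin, ← qmap_π, ← mapS_lin, hxP, mapS_lin]
    rw [show (qmap I ρ n).comp (qmap I φ n) = 0 from ?_]
    · exact mapS_zero _ _
    refine Submodule.linearMap_qext _ (LinearMap.ext fun m => ?_)
    simp only [LinearMap.comp_apply, Submodule.mkQ_apply, qmap, Submodule.mapQ_apply]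
    rw [show ρ (φ m) = 0 from LinearMap.congr_fun hρφ m, Submodule.Quotient.mk_zero]
    rfl
  obtain ⟨xM, hxM⟩ := exists_of_mapS_g hS V' (s := secRes A (∀ i, Q i) hle xP) (by rw [← secRes_mapS, hz])
  refine ⟨V', hV', xM, ?_⟩
  let δ : ∀ n, Sec A (Formal2.quotPow A I M n) V' := fun n => secRes A _ hV'.1 (y n) - mapS (qπ I M n) V' xM
  have hδ : Compat I V' δ := fun n => by
    simp only [δ]
    rw [map_sub, (hy.res hV'.1) n, compat_of_sec xM n]
  have h0 : ∀ n, mapS (ModuleCat.ofHom (qmap I φ n)) V' (δ n) = 0 := fun n => by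
    simp only [δ]
    rw [map_sub, sub_eq_zero]
    refine Eq.trans ?_ (mapS_lin V' (Formal2.quotPowπ A I M n) (qmap I φ n) xM).symm
    rw [qmap_π, ← mapS_lin, show mapS (ModuleCat.ofHom φ) V' xM = secRes A _ hle xP from hxM, ← secRes_mapS (ModuleCat.ofHom (Formal2.quotPowπ A I (∀ i, Q i) n)) hle, hxP,
      secRes_mapS, secRes_secRes]
  exact fun n => sub_eq_zero.1 (eq_zero_of_AR φ hπ hδ h0 n)

theorem one_le_cd_of_near {d : ℕ} (hd : LocCoh.CdLE A I d) {P r : Ideal A} [P.IsPrime] [r.IsPrime] (hP : ¬ I ≤ P)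
    (hPr : P ≤ r) (hIr : I ≤ r) : 1 ≤ d := by
  by_contra h0
  obtain ⟨r₀, hr₀, -⟩ := Ideal.exists_minimalPrimes_le (sup_le hPr hIr)
  let π := Ideal.Quotient.mk P
  haveI := hr₀.1.1
  have hker : RingHom.ker π ≤ r₀ := by rw [Ideal.mk_ker]; exact le_sup_left.trans hr₀.1.2
  haveI : (r₀.map π).IsPrime := Ideal.map_isPrime_of_surjective Ideal.Quotient.mk_surjective hker
  have hmin : r₀.map π ∈ (I.map π).minimalPrimes := by
    refine ⟨⟨inferInstance, Ideal.map_mono (le_sup_right.trans hr₀.1.2)⟩, fun Q hQ hQr => ?_⟩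
    haveI := hQ.1
    have hc : (r₀.map π).comap π = r₀ := by
      rw [Ideal.comap_map_of_surjective _ Ideal.Quotient.mk_surjective, ← RingHom.ker_eq_comap_bot, sup_eq_left.2 hker]
    have h1 : r₀ ≤ Q.comap π := hr₀.2 ⟨Ideal.IsPrime.comap π, sup_le (Ideal.mk_ker.ge.trans (Ideal.comap_mono bot_le))
      (Ideal.map_le_iff_le_comap.1 hQ.2)⟩ (hc ▸ Ideal.comap_mono hQr)
    rw [← Ideal.map_comap_of_surjective π Ideal.Quotient.mk_surjective Q]
    exact Ideal.map_mono h1
  have hq : LocCoh.CdLE (A ⧸ P) (I.map π) d := fun N _ _ i hi => by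
    letI : Module A N := Module.compHom N π
    haveI : IsScalarTower A (A ⧸ P) N := ⟨fun r x m => by rw [Algebra.smul_def, mul_smul]; rfl⟩
    obtain ⟨φ, -⟩ := LocH.exists_semilinearEquiv (R := A) (R' := A ⧸ P) (I := I) i N
    haveI : Subsingleton ↑((CategoryTheory.Functor.obj (localCohomology I i)) (ModuleCat.of A N)) := hd N i hi
    exact φ.toEquiv.subsingleton
  have h1 := LocH.height_le_of_cdLE hq hmin
  obtain rfl : d = 0 := by omega
  have h2 : (r₀.map π).height = 0 := nonpos_iff_eq_zero.1 (by exact_mod_cast h1)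
  rw [Ideal.height_eq_zero_iff] at h2
  have h3 : r₀.map π = ⊥ := le_bot_iff.1 (h2.2 ⟨Ideal.isPrime_bot, le_rfl⟩ bot_le)
  refine hP ((le_sup_right.trans hr₀.1.2).trans fun x hx => ?_)
  rw [← Ideal.Quotient.eq_zero_iff_mem]
  exact (Submodule.mem_bot _).1 (h3 ▸ Ideal.mem_map_of_mem π hx)

/-- The main theorem. -/
theorem alg_punctured [IsAdicComplete I A] {ω : Dual.D A} (hω : Dual.IsDualizing A ω) {d : ℕ} (hd : LocCoh.CdLE A I d)
    (h₂ : ∀ p ∈ associatedPrimes A M, ¬ 𝔞 ≤ p → ¬ I ≤ p →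
      (∃ r : Ideal A, r.IsPrime ∧ p ≤ r ∧ I ≤ r ∧ ¬ 𝔞 ≤ r) → ∀ (q : Ideal A) [q.IsPrime], p ≤ q → 𝔞 ≤ q →
        ((d + 1 : ℕ) : WithBot ℕ∞) < Formal2.dimBetween A p q) :
    Alg I M U𝔞 := by
  haveI : IsNoetherian A M := isNoetherian_of_isNoetherianRing_of_finite A M
  obtain ⟨t, ht⟩ := Submodule.IsLasker.exists_isMinimalPrimaryDecomposition (Submodule.isLasker A M) (⊥ : Submodule A M)
  refine alg_of_embedding (fun J : t => M ⧸ (J : Submodule A M)) (fun J => (J : Submodule A M).mkQ) ?_ fun J => ?_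
  · refine (injective_iff_map_eq_zero _).2 fun m hm => ?_
    have h1 : m ∈ t.inf id := (Submodule.mem_finsetInf).2 fun J hJ =>
      (Submodule.Quotient.mk_eq_zero J).1 (congrFun hm ⟨J, hJ⟩)
    rwa [ht.inf_eq, Submodule.mem_bot] at h1
  obtain ⟨J, hJ⟩ := J
  let η := (J.colon Set.univ).radical
  have hη : η ∈ associatedPrimes A M := by
    have h := ht.image_radical_eq_associated_primes
    exact h.le ⟨J, hJ, rfl⟩
  haveI hηp : η.IsPrime := (ht.primary hJ).isPrime_radical_colon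
  obtain ⟨k, hk⟩ := Ideal.exists_pow_le_of_le_radical_of_fg (I := η) (J := J.colon Set.univ) le_rfl (IsNoetherian.noetherian η)
  have hann : ∀ b ∈ J.colon (Set.univ : Set M), ∀ x : M ⧸ J, b • x = 0 := fun b hb x =>
    Submodule.Quotient.induction_on _ x fun m => by
      rw [← Submodule.Quotient.mk_smul, Submodule.Quotient.mk_eq_zero]
      exact Submodule.mem_colon.1 hb m (Set.mem_univ m)
  have hsupp : ∀ q : PrimeSpectrum A, ¬ η ≤ q.asIdeal → ∃ b : A, b ∉ q.asIdeal ∧ ∀ x : M ⧸ J, b • x = 0 := fun q hq => by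
    obtain ⟨b, hb, hbq⟩ := SetLike.not_le_iff_exists.1 hq
    exact ⟨b ^ k, fun h => hbq (q.isPrime.mem_of_pow_mem k h), hann _ (hk (Ideal.pow_mem_pow hb k))⟩
  by_cases hIη : I ≤ η
  · refine alg_of_pow (c := k) (eq_bot_iff.2 ?_) _
    exact Submodule.smul_le.2 fun b hb x _ => (Submodule.mem_bot A).2 (hann b (hk (Ideal.pow_right_mono hIη k hb)) x)
  by_cases hnear : ¬ 𝔞 ≤ η ∧ ∃ r : Ideal A, r.IsPrime ∧ η ≤ r ∧ I ≤ r ∧ ¬ 𝔞 ≤ r
  · obtain ⟨h𝔞η, r, hr, hηr, hIr, h𝔞r⟩ := hnear
    haveI := hr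
    have hd1 := one_le_cd_of_near hd hIη hηr hIr
    obtain ⟨a, ha, hkill⟩ := exists_kill hω I 𝔞 hd hd1 (M ⧸ J) ⟨η, hηp⟩ (fun q hq => by
        by_contra hle
        obtain ⟨b, hb, hbx⟩ := hsupp q hle
        rw [Module.mem_support_iff_of_finite] at hq
        exact hb (hq (Module.mem_annihilator.2 hbx)))
      fun q hle hq => h₂ η hη h𝔞η hIη ⟨r, hr, hηr, hIr, h𝔞r⟩ q.asIdeal hle hq
    refine alg_of_mul (a * a) ?_ fun y hy => exists_mul_lift I 𝔞 (M ⧸ J) a hkill y hy
    have hreg : IsSMulRegular (M ⧸ J) a := (isSMulRegular_iff_right_eq_zero_of_smul).2 fun x => by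
      obtain ⟨m, rfl⟩ := Submodule.mkQ_surjective _ x
      intro hm
      rw [← map_smul] at hm
      refine (Submodule.Quotient.mk_eq_zero _).2 (((ht.primary hJ).mem_or_mem ((Submodule.Quotient.mk_eq_zero _).1 hm)).resolve_right ha)
    exact hreg.mul hreg
  · let Vη : (Spec (CommRingCat.of A)).Opens := U𝔞 ⊓ EGA4.openCompl A η
    refine alg_of_killed (V := Vη) ⟨inf_le_left, fun p hp hpI => ⟨hp, fun hle => hnear ⟨fun h => hp (h.trans hle),
      p.asIdeal, p.isPrime, hle, hpI, hp⟩⟩⟩ fun p hp => hsupp p hp.2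

end

end Groth.Agent.FormAlg
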