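import Groth.Agent.FormAlg.FinCoh
import Groth.Agent.FormAlg.OpenModel
import Groth.Agent.FormAlg.ModSysTower
import Groth.Agent.SerrePn.ClosedDepth
import Groth.Agent.BlowExc.Smooth

/-!
Algebraization of systems of modules on the thickenings of a principal divisor of `Spec A - V(I)`.
-/

set_option autoImplicit false
set_option maxHeartbeats 1000000
set_option linter.style.haveILetI false
set_option backward.isDefEq.respectTransparency false
set_option backward.isDefEq.respectTransparency.types false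
universe u

namespace Groth.Agent.FormAlg

open CategoryTheory CategoryTheory.Limits AlgebraicGeometry TopologicalSpace Opposite

noncomputable section

variable {A : Type u} [CommRing A] (U : (Spec (CommRingCat.of A)).Opens) (t : A)

/-- The closed subscheme `t = 0` of an open subscheme of `Spec A`. -/
abbrev divisorIdeal : (↑U : Scheme.{u}).IdealSheafData :=
  (Spec.map (CommRingCat.ofHom (Ideal.Quotient.mk (Ideal.span {t})))).ker.comap U.ι

theorem divisorIdeal_ideal (V : (↑U : Scheme.{u}).affineOpens) :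
    (divisorIdeal U t).ideal V = Ideal.span {W7Cech.secRing A V.1 t} := by
  rw [divisorIdeal, BlowExc.ker_specMap_mk, Scheme.IdealSheafData.ideal_comap_of_isOpenImmersion, BlowUpExist.sheafOf,
    Scheme.IdealSheafData.ofIdealTop_ideal, Ideal.map_span, Set.image_singleton, Ideal.map_span, Set.image_singleton,
    Scheme.Opens.ι_appIso]
  show Ideal.comap (RingHom.id _) _ = _
  rw [Ideal.comap_id]
  refine congrArg (fun z => Ideal.span {z}) ?_
  show _ = (↑U : Scheme.{u}).presheaf.map (homOfLE (le_top : V.1 ≤ ⊤)).op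
    (U.ι.appTop ((Scheme.ΓSpecIso (CommRingCat.of A)).inv t))
  rw [Scheme.Opens.ι_appTop, Scheme.Opens.toScheme_presheaf_map]
  exact congrArg (fun φ : (Spec (CommRingCat.of A)).presheaf.obj (op ⊤) ⟶
      (Spec (CommRingCat.of A)).presheaf.obj (op (U.ι ''ᵁ V.1)) => φ.hom ((Scheme.ΓSpecIso (CommRingCat.of A)).inv t))
    ((Spec (CommRingCat.of A)).presheaf.map_comp (homOfLE le_top).op
      (U.ι.opensFunctor.map (homOfLE (le_top : V.1 ≤ ⊤)).op.unop).op)

variable [IsNoetherianRing A] {R : Type u} [CommRing R] [IsRegularRing R] (π : R →+* A) (hπ : Function.Surjective π)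
  (I : Ideal A)

include hπ in
/-- Existence of an algebraization. -/
theorem exists_algebraization [IsAdicComplete (Ideal.span {t}) A] (hU : U = EGA4.openCompl A I)
    (𝔐 : FSch.ModSys (FSch.completionAlong (↑U : Scheme.{u}) (divisorIdeal U t))) (hcoh : 𝔐.IsCoh)
    (hreg : ∀ N : ℕ, 1 ≤ N →
      kernelSubobject (Formal.smulModΓ (𝔐.F N)
        ((((FSch.completionToX (↑U : Scheme.{u}) (divisorIdeal U t) N) ≫ U.ι).appTop.hom
          ((Scheme.ΓSpecIso (CommRingCat.of A)).inv t)) ^ N)) =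
      imageSubobject (Formal.smulModΓ (𝔐.F N)
        (((FSch.completionToX (↑U : Scheme.{u}) (divisorIdeal U t) N) ≫ U.ι).appTop.hom
          ((Scheme.ΓSpecIso (CommRingCat.of A)).inv t))))
    (hdepth : ∀ y : ↥((FSch.completionAlong (↑U : Scheme.{u}) (divisorIdeal U t)).X 0),
      SGA2.relCodim I ((FSch.completionToX (↑U : Scheme.{u}) (divisorIdeal U t) 0 ≫ U.ι).base y) = 1 →
        (2 : ℕ∞) ≤ LocCoh.depth
          (((FSch.completionAlong (↑U : Scheme.{u}) (divisorIdeal U t)).X 0).presheaf.stalk y)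
          ((𝔐.F 0).presheaf.stalk y)) :
    ∃ F : (↑U : Scheme.{u}).Modules, Coh.IsCoh F ∧ Nonempty (FSch.completionMod (divisorIdeal U t) F ≅ 𝔐) := by
  have hi := divisorIdeal_ideal U t
  have hreg' : SysReg t 𝔐 := fun N hN => hreg N hN
  obtain ⟨T, hT⟩ := exists_tower_sys hi 𝔐 hreg' hcoh
  have hG := isCohFormal_sysFun hi 𝔐 hcoh
  have hc : Coh.IsCoh (sysObj 𝔐 0) := hG.1 0
  have hd : ∀ x : (↑U : Scheme.{u}), SGA2.relCodim I (U.ι.base x) = 1 →
      ((1 + 1 : ℕ) : ℕ∞) ≤ LocCoh.depth ((↑U : Scheme.{u}).presheaf.stalk x) ((sysObj 𝔐 0).presheaf.stalk x) := by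
    intro x hx
    let f := FSch.completionToX (↑U : Scheme.{u}) (divisorIdeal U t) 0
    haveI := SerrePn.isLocallyNoetherian_of_immersion f
    by_cases hr : x ∈ Set.range f.base
    · obtain ⟨y, rfl⟩ := hr
      refine le_of_le_of_eq ?_ (SerrePn.depth_push f (hcoh 0) y).symm
      exact hdepth y hx
    · haveI : Subsingleton ((sysObj 𝔐 0).presheaf.stalk x) := SerrePn.subsingleton_push f (𝔐.F 0) hr
      rw [FlatDepth.depth_eq_top]
      exact le_top
  have e : T.obj 0 = sysObj 𝔐 0 := congrArg (fun G : ℕᵒᵖ ⥤ (↑U : Scheme.{u}).Modules => G.obj (op 0)) hT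
  have hfin : ∀ i, i ≤ 1 → Module.Finite A (Coh.HH (↑U : Scheme.{u}) (T.obj 0) i) := fun i hi => by
    rw [e]
    exact finite_HH_of_depth π hπ I U hU (sysObj 𝔐 0) hc 1 hd i hi
  obtain ⟨F, hF, ⟨α⟩⟩ := algebraize_open T (hfin 0 zero_le_one) (hfin 1 le_rfl)
  exact ⟨F, hF, nonempty_completionMod_iso hi 𝔐 F (α ≪≫ eqToIso hT)⟩

end

end Groth.Agent.FormAlg

namespace Groth.Agent.FormAlg

open CategoryTheory CategoryTheory.Limits AlgebraicGeometry TopologicalSpace Opposite

theorem puncturedSpec_eq (A : Type u) [CommRing A] [IsLocalRing A] :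
    FEt.puncturedSpec A = EGA4.openCompl A (IsLocalRing.maximalIdeal A) := by
  refine TopologicalSpace.Opens.ext (Set.ext fun q => not_congr ?_)
  show q = IsLocalRing.closedPoint A ↔ IsLocalRing.maximalIdeal A ≤ q.asIdeal
  exact ⟨fun h => h ▸ le_rfl, fun h => PrimeSpectrum.ext
    (((IsLocalRing.maximalIdeal.isMaximal A).eq_of_le q.isPrime.ne_top h).symm)⟩

/-- A point of the punctured spectrum of relative codimension one is closed. -/
theorem isClosed_singleton_of_relCodim {A : Type u} [CommRing A] [IsLocalRing A]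
    (x : (↑(FEt.puncturedSpec A) : Scheme.{u}))
    (hx : SGA2.relCodim (IsLocalRing.maximalIdeal A) ((FEt.puncturedSpec A).ι.base x) = 1) :
    IsClosed ({x} : Set (↑(FEt.puncturedSpec A) : Scheme.{u})) := by
  rw [← closure_eq_iff_isClosed, Set.Subset.antisymm_iff]
  refine ⟨fun y hy => ?_, subset_closure⟩
  obtain ⟨xx, exx⟩ : ∃ z : PrimeSpectrum A, z = (FEt.puncturedSpec A).ι.base x := ⟨_, rfl⟩
  obtain ⟨yy, eyy⟩ : ∃ z : PrimeSpectrum A, z = (FEt.puncturedSpec A).ι.base y := ⟨_, rfl⟩
  have hxy : xx ≤ yy := by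
    rw [PrimeSpectrum.le_iff_specializes, exx, eyy]
    exact ((specializes_iff_mem_closure.2 hy).map (FEt.puncturedSpec A).ι.base.hom.continuous)
  rcases eq_or_lt_of_le hxy with h | h
  · exact Set.mem_singleton_iff.2 ((FEt.puncturedSpec A).ι.isOpenEmbedding.injective ((eyy.symm.trans h.symm).trans exx))
  exfalso
  have hlt : yy < IsLocalRing.closedPoint A :=
    lt_of_le_of_ne (IsLocalRing.le_maximalIdeal (Ideal.IsPrime.ne_top inferInstance)) (fun e => y.2 (eyy.symm.trans e))
  let a : Set.Ici xx := ⟨xx, Set.mem_Ici.2 le_rfl⟩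
  let b : Set.Ici xx := ⟨yy, hxy⟩
  let c : Set.Ici xx := ⟨IsLocalRing.closedPoint A, hxy.trans hlt.le⟩
  have h2 : (2 : ℕ∞) ≤ SGA2.relCodim (IsLocalRing.maximalIdeal A) xx := by
    refine le_iInf fun q => ?_
    have hq : q.1 = IsLocalRing.closedPoint A :=
      PrimeSpectrum.ext (((IsLocalRing.maximalIdeal.isMaximal A).eq_of_le q.1.isPrime.ne_top q.2.2).symm)
    have hac : (⟨q.1, q.2.1⟩ : Set.Ici xx) = c := Subtype.ext hq
    rw [hac]
    calc (2 : ℕ∞) = 0 + 1 + 1 := by norm_num
      _ ≤ Order.height a + 1 + 1 := by gcongr; exact zero_le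
      _ ≤ Order.height b + 1 := by gcongr; exact Order.height_add_one_le (show a < b from h)
      _ ≤ Order.height c := Order.height_add_one_le (show b < c from hlt)
  rw [exx, hx] at h2
  exact absurd h2 (by decide)

end Groth.Agent.FormAlg
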