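import Groth.Agent.FormAlg.HHLin
import Groth.Agent.PunctArt.Main
import Groth.Agent.ZarPair.Sections

/-!
Modules which are, on a punctured spectrum, retracts of modules with finite `H^0` and `H^1`.
-/

set_option autoImplicit false
set_option maxHeartbeats 1000000
set_option linter.style.haveILetI false
set_option backward.isDefEq.respectTransparency false
set_option backward.isDefEq.respectTransparency.types false
universe u

namespace Groth.Agent.FormAlg

open CategoryTheory CategoryTheory.Limits AlgebraicGeometry TopologicalSpace Opposite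
open Groth.Agent.LocH (Sec)
open Groth.Agent.PunctArt (HU' mapH mapS)

noncomputable section

section Local

variable {R : CommRingCat.{u}} [IsNoetherianRing R] {M N : ModuleCat.{u} R} [Module.Finite R M] [Module.Finite R N]
  {V : (Spec R).Opens}

/-- An isomorphism on `V` as a map into sections over `D(r)`. -/
def thLin (θ : (tilde M).restrict V.ι ⟶ (tilde N).restrict V.ι) (r : R) :
    M →ₗ[R] Γ(tilde N, ZarPair.imgD V r) where
  toFun x := ZarPair.th θ r (ZarPair.tOp M _ x)
  map_add' a b := (congrArg _ (map_add _ a b)).trans (map_add _ _ _)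
  map_smul' c a := (congrArg _ (map_smul _ c a)).trans (ZarPair.th_smul θ r c _)

theorem exists_lift_hom (θ : (tilde M).restrict V.ι ⟶ (tilde N).restrict V.ι)
    {r : R} (hr : PrimeSpectrum.basicOpen r ≤ V) :
    ∃ (a : ℕ) (φ : M →ₗ[R] N), ∀ x, ZarPair.tOp N _ (φ x) = r ^ a • thLin θ r x := by
  have key : ∀ O : (Spec R).Opens, O = PrimeSpectrum.basicOpen r →
      ∀ g : M →ₗ[R] Γ(tilde N, O),
        ∃ (a : ℕ) (φ : M →ₗ[R] N), ∀ x, ZarPair.tOp N O (φ x) = r ^ a • g x := by
    rintro O rfl g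
    haveI : IsLocalizedModule (Submonoid.powers r)
        (ZarPair.tOp N (PrimeSpectrum.basicOpen r)) :=
      inferInstanceAs (IsLocalizedModule (Submonoid.powers r)
        (tilde.toOpen N (PrimeSpectrum.basicOpen r)).hom)
    haveI : Module.FinitePresentation R M := Module.finitePresentation_of_finite R M
    obtain ⟨φ, ⟨_, a, rfl⟩, hφ⟩ := Module.FinitePresentation.exists_lift_of_isLocalizedModule (Submonoid.powers r)
      (ZarPair.tOp N (PrimeSpectrum.basicOpen r)) g
    exact ⟨a, φ, fun x => LinearMap.congr_fun hφ x⟩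
  exact key _ (ZarPair.imgD_eq hr) _

theorem exists_retract_of_iso
    (θ : (tilde M).restrict V.ι ≅ (tilde N).restrict V.ι)
    {r : R} (hr : PrimeSpectrum.basicOpen r ≤ V) :
    ∃ (n : ℕ) (φ : M →ₗ[R] N) (ψ : N →ₗ[R] M), ∀ x, ψ (φ x) = r ^ n • x := by
  obtain ⟨a, φ, hφ⟩ := exists_lift_hom θ.hom hr
  obtain ⟨b, ψ, hψ⟩ := exists_lift_hom θ.inv hr
  have hlin : ∀ y : N, thLin θ.inv r y = ZarPair.th θ.inv r (ZarPair.tOp N _ y) := fun _ => rfl
  have h1 : ∀ x, ZarPair.tOp M (ZarPair.imgD V r) (ψ (φ x)) =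
      r ^ (b + a) • ZarPair.tOp M _ x := fun x => by
    rw [hψ, hlin, hφ, ZarPair.th_smul, smul_smul, ← pow_add]
    exact congrArg _ (ZarPair.th_inv θ.symm r _)
  let K : Submodule R M :=
    { carrier := {x | ∃ k : ℕ, r ^ k • (ψ (φ x) - r ^ (b + a) • x) = 0}
      zero_mem' := ⟨0, by simp⟩
      add_mem' := fun {x y} ⟨k, hk⟩ ⟨l, hl⟩ => ⟨k + l, by
        rw [map_add, map_add, smul_add, add_sub_add_comm, smul_add]
        rw [pow_add, mul_comm (r ^ k), mul_smul, hk, smul_zero, zero_add, mul_comm (r ^ l), mul_smul, hl, smul_zero]⟩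
      smul_mem' := fun c x ⟨k, hk⟩ => ⟨k, by
        rw [map_smul, map_smul, smul_comm (r ^ (b + a)) c, ← smul_sub, smul_comm, hk, smul_zero]⟩ }
  have hK : K = ⊤ := by
    refine eq_top_iff.2 fun x _ => ?_
    obtain ⟨k, hk⟩ := ZarPair.exists_smul_eq_zero (ZarPair.imgD_eq hr)
      (x := ψ (φ x) - r ^ (b + a) • x) (by rw [map_sub, map_smul, h1, sub_self])
    exact ⟨k, hk⟩
  obtain ⟨s, hs⟩ := (inferInstance : Module.Finite R M).fg_top
  classical
  choose k hk using fun x : M => (hK ▸ Submodule.mem_top : x ∈ K)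
  refine ⟨s.sup k + (b + a), φ, r ^ s.sup k • ψ, fun x => ?_⟩
  have hx : x ∈ Submodule.span R (s : Set M) := hs ▸ Submodule.mem_top
  induction hx using Submodule.span_induction with
  | mem x hx =>
    obtain ⟨d, hd⟩ := Nat.exists_eq_add_of_le (Finset.le_sup (f := k) hx)
    have h := hk x
    rw [smul_sub, sub_eq_zero] at h
    rw [LinearMap.smul_apply, hd, add_comm (k x) d, pow_add, mul_smul, h, add_assoc]
    simp only [smul_smul, ← pow_add]
  | zero => simp
  | add x y _ _ hx hy => rw [map_add, map_add, hx, hy, smul_add]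
  | smul c x _ hx => rw [map_smul, map_smul, hx, smul_comm]

end Local

variable {A : Type u} [CommRing A] [IsNoetherianRing A] (𝔞 : Ideal A)

local notation "U𝔞" => EGA4.openCompl A 𝔞

variable {k : ℕ} (g : Fin k → A) (h𝔞 : 𝔞 ≤ (Ideal.span (Set.range g)).radical)

include h𝔞 in
theorem eq_zero_of_smul (M : ModuleCat.{u} A) (x : HU' U𝔞 0 M) (hx : ∀ i, g i • x = 0) : x = 0 := by
  obtain ⟨s, rfl⟩ := (PunctArt.sec0 U𝔞 M).surjective x
  have hs : ∀ i, g i • s = 0 := fun i =>
    (PunctArt.sec0 U𝔞 M).injective (by rw [PunctArt.sec0_smul, hx i, map_zero])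
  obtain ⟨m, hm⟩ := Ideal.exists_pow_le_of_le_radical_of_fg h𝔞 (IsNoetherian.noetherian 𝔞)
  suffices s = 0 by rw [this, map_zero]
  refine sec_eq_zero_of_torsion 𝔞 ⟨m, fun a ha => ?_⟩
  have hJ : a ∈ Ideal.span (Set.range g) := hm ha
  clear ha
  induction hJ using Submodule.span_induction with
  | mem _ h => obtain ⟨i, rfl⟩ := h; exact hs i
  | zero => exact zero_smul A s
  | add a b _ _ ha hb => rw [add_smul, ha, hb, add_zero]
  | smul c a _ ha => rw [smul_eq_mul, mul_smul, ha, smul_zero]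

variable {T P : ModuleCat.{u} A} (ψ : Fin k → (P ⟶ T))

include h𝔞 in
theorem finite_H0_of_retract (φ : Fin k → (T ⟶ P)) (hψ : ∀ i, φ i ≫ ψ i = g i • 𝟙 T)
    [Module.Finite A (HU' U𝔞 0 P)] : Module.Finite A (HU' U𝔞 0 T) := by
  let L : HU' U𝔞 0 T →ₗ[A] Fin k → HU' U𝔞 0 P := LinearMap.pi fun i => mapH (φ i) 0
  have hL : Function.Injective L := (injective_iff_map_eq_zero _).2 fun x hx =>
    eq_zero_of_smul 𝔞 g h𝔞 T x fun i => by
      rw [← PunctArt.mapH_smul, ← hψ i, PunctArt.mapH_comp, show mapH (φ i) 0 x = 0 from congrFun hx i, map_zero]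
  exact Module.Finite.of_injective L hL

variable (Φ : T ⟶ P) (hψ : ∀ i, Φ ≫ ψ i = g i • 𝟙 T)

/-- `T' → P → K` for the image `T'` of `Φ`. -/
def imgSES : ShortComplex (ModuleCat.{u} A) :=
  ShortComplex.mk (ModuleCat.ofHom (LinearMap.range Φ.hom).subtype) (ModuleCat.ofHom (LinearMap.range Φ.hom).mkQ)
    (ModuleCat.hom_ext (LinearMap.ext fun x => (Submodule.Quotient.mk_eq_zero _).2 x.2))

theorem imgSES_shortExact : (imgSES Φ).ShortExact :=
  { exact := by
      rw [ShortComplex.moduleCat_exact_iff]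
      intro x hx
      exact ⟨⟨x, (Submodule.Quotient.mk_eq_zero _).1 hx⟩, rfl⟩
    mono_f := (ModuleCat.mono_iff_injective _).2 Subtype.val_injective
    epi_g := (ModuleCat.epi_iff_surjective _).2 (Submodule.mkQ_surjective _) }

/-- `ker → T → T'`. -/
def kerSEQ : ShortComplex (ModuleCat.{u} A) :=
  ShortComplex.mk (ModuleCat.ofHom (LinearMap.ker Φ.hom).subtype) (ModuleCat.ofHom Φ.hom.rangeRestrict)
    (ModuleCat.hom_ext (LinearMap.ext fun x => Subtype.ext x.2))

theorem kerSEQ_shortExact : (kerSEQ Φ).ShortExact :=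
  { exact := by
      rw [ShortComplex.moduleCat_exact_iff]
      intro x hx
      exact ⟨⟨x, congrArg Subtype.val hx⟩, rfl⟩
    mono_f := (ModuleCat.mono_iff_injective _).2 Subtype.val_injective
    epi_g := (ModuleCat.epi_iff_surjective _).2 (LinearMap.surjective_rangeRestrict _) }

include hψ in
theorem finite_H0_coker (h𝔞 : 𝔞 ≤ (Ideal.span (Set.range g)).radical) [Module.Finite A (HU' U𝔞 0 P)] :
    Module.Finite A (HU' U𝔞 0 (imgSES Φ).X₃) := by
  let d : Fin k → (P →ₗ[A] P) := fun i => g i • (LinearMap.id : P →ₗ[A] P) - Φ.hom.comp (ψ i).hom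
  have hd : ∀ i, LinearMap.range Φ.hom ≤ LinearMap.ker (d i) := fun i => by
    rintro _ ⟨x, rfl⟩
    rw [LinearMap.mem_ker]
    show g i • Φ.hom x - Φ.hom ((ψ i).hom (Φ.hom x)) = 0
    rw [show (ψ i).hom (Φ.hom x) = g i • x from congrArg (fun f => f.hom x) (hψ i), map_smul, sub_self]
  refine finite_H0_of_retract 𝔞 g h𝔞 (P := P) (fun _ => (imgSES Φ).g)
    (fun i => ModuleCat.ofHom ((LinearMap.range Φ.hom).liftQ (d i) (hd i))) fun i => ?_
  refine ModuleCat.hom_ext (LinearMap.ext fun y => Submodule.Quotient.induction_on _ y fun y => ?_)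
  show Submodule.Quotient.mk (p := LinearMap.range Φ.hom) (g i • y - Φ.hom ((ψ i).hom y)) =
    g i • Submodule.Quotient.mk (p := LinearMap.range Φ.hom) y
  rw [Submodule.Quotient.mk_sub, (Submodule.Quotient.mk_eq_zero _).2 (LinearMap.mem_range_self _ _), sub_zero,
    Submodule.Quotient.mk_smul]

include h𝔞 hψ in
theorem finite_H1_of_retract [Module.Finite A (HU' U𝔞 0 P)] [Module.Finite A (HU' U𝔞 1 P)] :
    Module.Finite A (HU' U𝔞 1 T) := by
  haveI h3 : Module.Finite A (HU' U𝔞 0 (imgSES Φ).X₃) := finite_H0_coker 𝔞 g ψ Φ hψ h𝔞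
  haveI : IsNoetherian A (HU' U𝔞 1 (imgSES Φ).X₂) := inferInstanceAs (IsNoetherian A (HU' U𝔞 1 P))
  haveI : Module.Finite A (HU' U𝔞 1 (imgSES Φ).X₁) := by
    refine (Module.finite_def).2 (Submodule.fg_of_fg_map_of_fg_inf_ker (mapH (imgSES Φ).f 1) (IsNoetherian.noetherian _) ?_)
    rw [top_inf_eq, show LinearMap.ker (mapH (U := U𝔞) (imgSES Φ).f 1) =
      LinearMap.range (PunctArt.delta (U := U𝔞) (imgSES_shortExact Φ) 0) from
      Submodule.ext fun x => PunctArt.mapH_f_eq_zero_iff (U := U𝔞) (imgSES_shortExact Φ) 0 x]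
    exact Submodule.fg_range _
  obtain ⟨m, hm⟩ := Ideal.exists_pow_le_of_le_radical_of_fg h𝔞 (IsNoetherian.noetherian 𝔞)
  haveI : Subsingleton (HU' U𝔞 1 (kerSEQ Φ).X₁) :=
    PunctArt.subsingleton_torsion 𝔞 _ m (fun a ha x => Subtype.ext (by
      show a • (x.1 : T) = 0
      have hJ : a ∈ Ideal.span (Set.range g) := hm ha
      clear ha
      induction hJ using Submodule.span_induction with
      | mem _ h =>
        obtain ⟨i, rfl⟩ := h
        exact (congrArg (fun f => f.hom x.1) (hψ i)).symm.trans ((congrArg (ψ i).hom x.2).trans (map_zero _))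
      | zero => exact zero_smul A _
      | add a b _ _ ha hb => rw [add_smul, ha, hb, add_zero]
      | smul c a _ ha => rw [smul_eq_mul, mul_smul, ha, smul_zero])) 1
  haveI : Module.Finite A (Coh.HH (↑U𝔞 : Scheme.{u}) ((kerSEQ Φ).map (PunctArt.RR U𝔞)).X₁ 1) :=
    (inferInstance : Module.Finite A (HU' U𝔞 1 (kerSEQ Φ).X₁))
  haveI : Module.Finite A (Coh.HH (↑U𝔞 : Scheme.{u}) ((kerSEQ Φ).map (PunctArt.RR U𝔞)).X₃ 1) := inferInstanceAs (Module.Finite A (HU' U𝔞 1 (imgSES Φ).X₁))
  exact CohFinite.finite_of_shortExact_mid A (PunctArt.shortExact_RR (U := U𝔞) (kerSEQ_shortExact Φ)) 1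

/-- Powers of a module with finite cohomology. -/
theorem finite_H_pi (ι : Type) [Fintype ι] (Q : Type u) [AddCommGroup Q] [Module A Q] (q : ℕ)
    [Module.Finite A (HU' U𝔞 q (ModuleCat.of A Q))] : Module.Finite A (HU' U𝔞 q (ModuleCat.of A (ι → Q))) := by
  classical
  haveI : ∀ _ : ι, Module.Finite A (Coh.HH (↑U𝔞 : Scheme.{u}) ((PunctArt.RR U𝔞).obj (ModuleCat.of A Q)) q) :=
    fun _ => inferInstanceAs (Module.Finite A (HU' U𝔞 q (ModuleCat.of A Q)))
  refine CohFinite.finite_of_split A ((PunctArt.RR U𝔞).obj (ModuleCat.of A (ι → Q))) (fun _ => (PunctArt.RR U𝔞).obj (ModuleCat.of A Q))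
    (fun j => (PunctArt.RR U𝔞).map (ModuleCat.ofHom (LinearMap.single A (fun _ : ι => Q) j)))
    (fun j => (PunctArt.RR U𝔞).map (ModuleCat.ofHom (LinearMap.proj j))) ?_ q
  simp only [← Functor.map_comp]
  rw [← Functor.map_sum, ← CategoryTheory.Functor.map_id]
  refine congrArg _ (ModuleCat.hom_ext ?_)
  rw [ModuleCat.hom_sum, ModuleCat.hom_id]
  refine LinearMap.ext fun x => ?_
  rw [LinearMap.sum_apply]
  exact Finset.univ_sum_single x

end

end Groth.Agent.FormAlg
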