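import Groth.Agent.FormAlg.Tower
import Groth.Agent.FormAlg.Retract
import Groth.Agent.FittLib.Free
import Groth.Agent.QC.Closure
import Groth.Agent.QC.Basic

/-!
Formal systems which are locally free over `O/f^{n+1}` as towers.
-/

set_option autoImplicit false
set_option maxHeartbeats 1000000
set_option linter.style.haveILetI false
set_option backward.isDefEq.respectTransparency false
set_option backward.isDefEq.respectTransparency.types false
universe u

namespace Groth.Agent.FormAlg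

open CategoryTheory CategoryTheory.Limits AlgebraicGeometry TopologicalSpace Opposite Groth.Agent.QC
open Groth.Agent.PunctArt (RR)

noncomputable section

theorem kill_of_exact {C : Type*} [Category C] [Abelian C] {F0 H : C} (g : F0 ⟶ H) (s w : F0 ⟶ F0) (sH : H ⟶ H)
    [Mono s] [Epi g] (hw : (w ≫ s) ≫ g = 0) (hex : (ShortComplex.mk (w ≫ s) g hw).Exact) (hg : g ≫ sH = s ≫ g)
    {K : C} (k : K ⟶ H) (hk : k ≫ sH = 0) {Q : C} (q : H ⟶ Q) (hq : w ≫ g ≫ q = 0) : k ≫ q = 0 := by
  obtain ⟨K₁, π, hπ, x, hx⟩ := surjective_up_to_refinements_of_epi g k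
  obtain ⟨K₂, π', hπ', y, hy⟩ := hex.exact_up_to_refinements (x ≫ s)
    (by show (x ≫ s) ≫ g = 0; rw [Category.assoc, ← hg, ← Category.assoc, ← hx, Category.assoc, hk, comp_zero])
  have hy' : π' ≫ x = y ≫ w := by
    rw [← cancel_mono s, Category.assoc, Category.assoc]
    exact hy
  haveI := hπ
  haveI := hπ'
  rw [← cancel_epi π, ← cancel_epi π', ← Category.assoc π, hx, Category.assoc, ← Category.assoc π', hy',
    Category.assoc, hq, comp_zero, comp_zero, comp_zero]

section Scheme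

variable {X : Scheme.{u}}

theorem hom_eq_zero_of_cover {M N : X.Modules} (φ : M ⟶ N)
    (h : ∀ x : X, ∃ V : X.Opens, x ∈ V ∧ (Scheme.Modules.restrictFunctor V.ι).map φ = 0) : φ = 0 := by
  refine Scheme.Modules.hom_ext _ _ fun W => ?_
  ext s
  refine section_eq_of_locally fun x hx => ?_
  obtain ⟨V, hxV, hV⟩ := h x
  refine ⟨V.ι ''ᵁ (V.ι ⁻¹ᵁ W), ?_, ⟨⟨x, hxV⟩, hx, rfl⟩, ?_⟩
  · rintro _ ⟨y, hy, rfl⟩
    exact hy
  · change res N _ (φ.app W s) = res N _ ((0 : M ⟶ N).app W s)
    rw [app_res, app_res]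
    exact congrArg (fun ψ : (Scheme.Modules.restrictFunctor V.ι).obj M ⟶ (Scheme.Modules.restrictFunctor V.ι).obj N =>
      ψ.app (V.ι ⁻¹ᵁ W) _) (hV.trans (Functor.map_zero _ _ _).symm)

variable {A : Type u} [CommRing A] [X.Over (Spec (CommRingCat.of A))]

theorem restrict_smul_natural {Y : Scheme.{u}} (j : Y ⟶ X) [IsOpenImmersion j] {M M' : X.Modules}
    (e : (Scheme.Modules.restrictFunctor j).obj M ⟶ (Scheme.Modules.restrictFunctor j).obj M') (a : A) :
    (Scheme.Modules.restrictFunctor j).map (Formal.smulMod A M a) ≫ e =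
      e ≫ (Scheme.Modules.restrictFunctor j).map (Formal.smulMod A M' a) := by
  refine (SheafOfModules.toSheaf _).map_injective ?_
  rw [Functor.map_comp, Functor.map_comp]
  have h : ∀ L : X.Modules, CohFinite.toAbMap ((Scheme.Modules.restrictFunctor j).map (Formal.smulMod A L a)) =
      Coh.smulAb ((Scheme.Modules.restrictFunctor j).obj L) (j.appTop (Coh.toGlobal (X ↘ Spec (CommRingCat.of A)) a)) :=
    fun L => PunctKill.smulAb_restrict j _ _ rfl
  exact ((congrArg (· ≫ CohFinite.toAbMap e) (h M)).trans (CohFinite.smulAb_natural e _)).trans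
    (congrArg (CohFinite.toAbMap e ≫ ·) (h M').symm)

theorem nonempty_modPow_iso (f : A) (m : ℕ) {F H : X.Modules} (g : F ⟶ H) [Epi g]
    (hz : Formal.smulMod A F (f ^ m) ≫ g = 0)
    (hd : ∀ {P : X.Modules} (φ : F ⟶ P), Formal.smulMod A F (f ^ m) ≫ φ = 0 → ∃ ψ, g ≫ ψ = φ) :
    Nonempty (Formal.modPow (Ideal.span {f}) m F ≅ H) := by
  obtain ⟨α, hα⟩ := W7Exist.exists_desc_modPow (Ideal.span {f}) m g fun a ha => by
    rw [Ideal.span_singleton_pow, Ideal.mem_span_singleton] at ha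
    obtain ⟨c, rfl⟩ := ha
    rw [← W7Exist.smulMod_comp, Category.assoc, hz, comp_zero]
  obtain ⟨β, hβ⟩ := hd (Formal.modPowπ (Ideal.span {f}) m F)
    (W7Exist.smulMod_π _ m F _ (Ideal.pow_mem_pow (Ideal.mem_span_singleton_self f) _))
  exact ⟨⟨α, β, (cancel_epi (Formal.modPowπ (Ideal.span {f}) m F)).1
    (by rw [← Category.assoc, hα, hβ, Category.comp_id]),
    (cancel_epi g).1 (by rw [← Category.assoc, hβ, hα, Category.comp_id])⟩⟩

end Scheme

variable {A : Type u} [CommRing A]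

/-- `A^r`. -/
abbrev pw (r : ℕ) : ModuleCat.{u} A := ModuleCat.of A (Fin r → A)

/-- `(A/f^m)^r`. -/
abbrev pwQ (f : A) (m r : ℕ) : ModuleCat.{u} A := ModuleCat.of A (Fin r → A ⧸ Ideal.span {f ^ m})

/-- `A^r → (A/f^m)^r`. -/
def pwMk (f : A) (m r : ℕ) : pw (A := A) r ⟶ pwQ f m r :=
  ModuleCat.ofHom ((Ideal.span {f ^ m}).mkQ.compLeft (Fin r))

theorem pwMk_surjective (f : A) (m r : ℕ) : Function.Surjective (pwMk f m r).hom := fun y => by
  choose x hx using fun i => Submodule.mkQ_surjective (Ideal.span {f ^ m}) (y i)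
  exact ⟨x, funext hx⟩

/-- `A^r → A^r → (A/f^m)^r`. -/
def pwSeq (f : A) (m r : ℕ) : ShortComplex (ModuleCat.{u} A) :=
  ShortComplex.mk (f ^ m • 𝟙 (pw r)) (pwMk f m r) (ModuleCat.hom_ext (LinearMap.ext fun x : Fin r → A => funext fun i =>
    (Submodule.Quotient.mk_eq_zero _).2 (Ideal.mul_mem_right (x i) _ (Ideal.mem_span_singleton_self (f ^ m)))))

theorem pwSeq_exact (f : A) (m r : ℕ) : (pwSeq f m r).Exact := by
  rw [ShortComplex.moduleCat_exact_iff]
  intro (x : Fin r → A) hx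
  have hx' : ∀ i, (Submodule.Quotient.mk (x i) : A ⧸ Ideal.span {f ^ m}) = 0 := congrFun hx
  choose c hc using fun i => Ideal.mem_span_singleton.1 ((Submodule.Quotient.mk_eq_zero _).1 (hx' i))
  exact ⟨c, funext fun i => (hc i).symm⟩

variable (U : (Spec (CommRingCat.of A)).Opens)

theorem nonempty_free_iso (r : ℕ) : Nonempty ((RR U).obj (pw r) ≅ FlatMod.freeMod (↑U : Scheme.{u}) r) := by
  let e : pw (A := A) r ≅ ModuleCat.of A (ULift.{u} (Fin r) →₀ A) :=
    (((Finsupp.linearEquivFunOnFinite A A (ULift.{u} (Fin r))).trans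
      (LinearEquiv.funCongrLeft A A Equiv.ulift.symm)).symm).toModuleIso
  exact ⟨(RR U).mapIso e ≪≫ (Scheme.Modules.restrictFunctor U.ι).mapIso (FittLib.tildeFreeIso (CommRingCat.of A) r) ≪≫
    (Scheme.Modules.restrictFunctorIsoPullback U.ι).app _ ≪≫ DerPerf.pullFreeIso U.ι r⟩

theorem RR_map_smul' (M : ModuleCat.{u} A) (a : A) :
    (RR U).map (a • 𝟙 M) = Formal.smulMod A ((RR U).obj M) a := by
  refine (SheafOfModules.toSheaf _).map_injective ?_
  exact PunctArt.smulAb_RR M a

theorem RR_pwSeq_exact (f : A) (m r : ℕ) :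
    ∃ h : Formal.smulMod A ((RR U).obj (pw r)) (f ^ m) ≫ (RR U).map (pwMk f m r) = 0,
      (ShortComplex.mk _ _ h).Exact ∧ Epi ((RR U).map (pwMk f m r)) := by
  haveI : Epi (pwMk f m r) := (ModuleCat.epi_iff_surjective _).2 (pwMk_surjective f m r)
  have hR := (pwSeq_exact f m r).map (RR U)
  have h : Formal.smulMod A ((RR U).obj (pw r)) (f ^ m) ≫ (RR U).map (pwMk f m r) = 0 := by
    rw [← RR_map_smul', ← Functor.map_comp]
    exact (congrArg _ (pwSeq f m r).zero).trans ((RR U).map_zero _ _)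
  refine ⟨h, ?_, inferInstance⟩
  exact ShortComplex.exact_of_iso (ShortComplex.isoMk (S₁ := (pwSeq f m r).map (RR U)) (S₂ := ShortComplex.mk _ _ h)
    (Iso.refl _) (Iso.refl _) (Iso.refl _)
    ((Category.id_comp _).trans ((RR_map_smul' U (pw r) (f ^ m)).symm.trans (Category.comp_id _).symm))
    ((Category.id_comp _).trans (Category.comp_id _).symm)) hR

theorem nonempty_modPow_free (f : A) (m r : ℕ) :
    Nonempty (Formal.modPow (Ideal.span {f}) m (FlatMod.freeMod (↑U : Scheme.{u}) r) ≅ (RR U).obj (pwQ f m r)) := by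
  obtain ⟨e⟩ := nonempty_free_iso U r
  obtain ⟨h, hex, hepi⟩ := RR_pwSeq_exact U f m r
  haveI := hepi
  refine nonempty_modPow_iso f m (e.inv ≫ (RR U).map (pwMk f m r)) ?_ fun {P} φ hφ => ?_
  · rw [← Category.assoc, W7Cech.smulMod_natural, Category.assoc, h, comp_zero]
  · have hφ' : Formal.smulMod A ((RR U).obj (pw r)) (f ^ m) ≫ e.hom ≫ φ = 0 := by
      rw [← Category.assoc, W7Cech.smulMod_natural, Category.assoc, hφ, comp_zero]
    exact ⟨hex.desc (e.hom ≫ φ) hφ', by rw [Category.assoc, hex.g_desc, e.inv_hom_id_assoc]⟩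

theorem mono_smul_free {f : A} (hf : f ∈ nonZeroDivisors A) (r : ℕ) :
    Mono (Formal.smulMod A ((RR U).obj (pw r)) f) := by
  rw [← RR_map_smul']
  haveI : Mono (f • 𝟙 (pw (A := A) r)) := (ModuleCat.mono_iff_injective _).2 fun a b h => funext fun i =>
    (mem_nonZeroDivisors_iff_right.1 hf |> fun hr => sub_eq_zero.1 (hr _ (by
      rw [sub_mul, mul_comm (a i), mul_comm (b i), sub_eq_zero]
      exact congrFun h i)))
  infer_instance

variable {U} {f : A}

theorem local_kill (hf : f ∈ nonZeroDivisors A) {G : (↑U : Scheme.{u}).Modules} (V : (↑U : Scheme.{u}).Opens)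
    (n r : ℕ) (e : (Scheme.Modules.restrictFunctor V.ι).obj G ≅
      (Scheme.Modules.restrictFunctor V.ι).obj (Formal.modPow (Ideal.span {f}) (n + 2) (FlatMod.freeMod (↑U : Scheme.{u}) r)))
    {K Q : (↑U : Scheme.{u}).Modules} (k : K ⟶ G) (hk : k ≫ Formal.smulMod A G f = 0) (q : G ⟶ Q)
    (hq : Formal.smulMod A G (f ^ (n + 1)) ≫ q = 0) :
    (Scheme.Modules.restrictFunctor V.ι).map (k ≫ q) = 0 := by
  obtain ⟨i⟩ := nonempty_modPow_free U f (n + 2) r
  obtain ⟨h, hex, hepi⟩ := RR_pwSeq_exact U f (n + 2) r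
  haveI := hepi
  haveI := mono_smul_free U hf r
  let R := Scheme.Modules.restrictFunctor V.ι
  let e' := e ≪≫ R.mapIso i
  have hws : Formal.smulMod A ((RR U).obj (pw r)) (f ^ (n + 2)) =
      Formal.smulMod A ((RR U).obj (pw r)) (f ^ (n + 1)) ≫ Formal.smulMod A ((RR U).obj (pw r)) f := by
    rw [W7Exist.smulMod_comp, ← pow_succ']
  haveI : Epi (R.map ((RR U).map (pwMk f (n + 2) r))) := inferInstance
  haveI : Mono (R.map (Formal.smulMod A ((RR U).obj (pw r)) f)) := inferInstance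
  have hw : (R.map (Formal.smulMod A ((RR U).obj (pw r)) (f ^ (n + 1))) ≫ R.map (Formal.smulMod A ((RR U).obj (pw r)) f)) ≫
      R.map ((RR U).map (pwMk f (n + 2) r)) = 0 := by
    rw [← Functor.map_comp, ← hws, ← Functor.map_comp, h, Functor.map_zero]
  have hex' : (ShortComplex.mk _ _ hw).Exact :=
    ShortComplex.exact_of_iso (ShortComplex.isoMk (S₁ := (ShortComplex.mk _ _ h).map R) (S₂ := ShortComplex.mk _ _ hw)
      (Iso.refl _) (Iso.refl _) (Iso.refl _)
      (by
        refine (Category.id_comp _).trans (Eq.trans ?_ (Category.comp_id _).symm)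
        exact ((congrArg R.map hws).trans (R.map_comp _ _)).symm)
      ((Category.id_comp _).trans (Category.comp_id _).symm)) (hex.map R)
  have key := kill_of_exact (R.map ((RR U).map (pwMk f (n + 2) r))) (R.map (Formal.smulMod A ((RR U).obj (pw r)) f))
    (R.map (Formal.smulMod A ((RR U).obj (pw r)) (f ^ (n + 1)))) (R.map (Formal.smulMod A _ f)) hw hex'
    (by rw [← Functor.map_comp, ← Functor.map_comp, W7Cech.smulMod_natural])
    (R.map k ≫ e'.hom) (by
      rw [Category.assoc, ← restrict_smul_natural, ← Category.assoc, ← Functor.map_comp, hk, Functor.map_zero, zero_comp])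
    (e'.inv ≫ R.map q) (by
      rw [← Category.assoc (R.map ((RR U).map _)), ← Category.assoc, restrict_smul_natural, Category.assoc, Category.assoc,
        ← Functor.map_comp, hq, Functor.map_zero, comp_zero, comp_zero])
  rw [Category.assoc, e'.hom_inv_id_assoc, ← Functor.map_comp] at key
  exact key

/-- A formal system which is locally free is a tower. -/
theorem exists_tower (hf : f ∈ nonZeroDivisors A) (G : ℕᵒᵖ ⥤ (↑U : Scheme.{u}).Modules)
    (hG : Formal.IsCohFormal (Ideal.span {f}) G)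
    (hfree : ∀ n : ℕ, Formal2.IsFinLocFreeMod (Ideal.span {f}) (n + 1) (G.obj (op n))) :
    ∃ T : Tower (↑U : Scheme.{u}) f, T.G = G := by
  choose μ hμ using W7Exist.exists_mul hG f (Ideal.mem_span_singleton_self f)
  refine ⟨⟨G, hG, μ, hμ, fun n => Preadditive.mono_of_cancel_zero _ fun {K} k hk => ?_⟩, rfl⟩
  haveI := W7Exist.epi_tn hG n
  obtain ⟨K₁, π, hπ, x, hx⟩ := surjective_up_to_refinements_of_epi (W7Exist.tn G n) k
  haveI := hπ
  rw [← cancel_epi π, comp_zero, hx]
  refine hom_eq_zero_of_cover _ fun y => ?_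
  obtain ⟨V, r, hy, ⟨e⟩⟩ := hfree (n + 1) y
  refine ⟨V, hy, local_kill hf V n r e x ?_ (W7Exist.tn G n) ?_⟩
  · rw [← hμ n, ← Category.assoc, ← hx, Category.assoc, hk, comp_zero]
  · rw [W7Cech.smulMod_natural, hG.2.1 n _ (Ideal.pow_mem_pow (Ideal.mem_span_singleton_self f) _), comp_zero]

end

end Groth.Agent.FormAlg
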