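import Groth.Agent.FormAlg.Sect
import Groth.Agent.PunctArt.Main
import Groth.Agent.CohQC.Restrict

/-!
The long exact sequences of `H^i(V, -~)` and the vanishing of maps induced by maps killing local cohomology.
-/

set_option autoImplicit false
set_option maxHeartbeats 1000000
set_option linter.style.haveILetI false
set_option backward.isDefEq.respectTransparency false
set_option backward.isDefEq.respectTransparency.types false
universe u

namespace Groth.Agent.FormAlg

open CategoryTheory CategoryTheory.Limits AlgebraicGeometry TopologicalSpace Opposite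
open Groth.Agent.LocH (Sec secOf injSES injSES_shortExact)
open Groth.Agent.PunctArt (mapS mapS_secOf)

noncomputable section

/-- `N ↦` the abelian sheaf of `N~`, over a bundled ring. -/
abbrev tildeAbSES (R : CommRingCat.{u}) (S : ShortComplex (ModuleCat.{u} R)) :
    ShortComplex (Sheaf (Opens.grothendieckTopology (Spec R)) AddCommGrpCat.{u}) :=
  (S.map (tilde.functor R)).map (CohQC.toAbF (Spec R))

theorem comp_extClass_natural {C : Type*} [Category C] [Abelian C] [HasExt.{u} C] {X : C} {S T : ShortComplex C}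
    (hS : S.ShortExact) (hT : T.ShortExact) (σ : S ⟶ T) {i : ℕ} (x : Abelian.Ext X S.X₃ i) :
    (x.comp hS.extClass rfl).comp (Abelian.Ext.mk₀ σ.τ₁) (add_zero (i + 1)) =
      (x.comp (Abelian.Ext.mk₀ σ.τ₃) (add_zero i)).comp hT.extClass rfl := by
  rw [Abelian.Ext.comp_assoc_of_third_deg_zero, ShortComplex.ShortExact.extClass_naturality hS hT σ,
    Abelian.Ext.comp_assoc_of_second_deg_zero]

theorem tildeAb_shortExact (R : CommRingCat.{u}) {S : ShortComplex (ModuleCat.{u} R)} (hS : S.ShortExact) :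
    (tildeAbSES R S).ShortExact :=
  CohFinite.shortExact_toAb (hS.map_of_exact _)

/-- The induced map. -/
def tildeAbSESMap (R : CommRingCat.{u}) {S T : ShortComplex (ModuleCat.{u} R)} (τ : S ⟶ T) :
    tildeAbSES R S ⟶ tildeAbSES R T :=
  (CohQC.toAbF (Spec R)).mapShortComplex.map ((tilde.functor R).mapShortComplex.map τ)

variable {A : Type u} [CommRing A]

/-- The abelian sheaves of a sequence of modules. -/
abbrev abSES (S : ShortComplex (ModuleCat.{u} A)) :
    ShortComplex (CohTop.Ab (Spec (CommRingCat.of A)).toTopCat) :=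
  tildeAbSES (CommRingCat.of A) S

theorem abSES_shortExact {S : ShortComplex (ModuleCat.{u} A)} (hS : S.ShortExact) : (abSES S).ShortExact :=
  tildeAb_shortExact (CommRingCat.of A) hS

variable {M N P : Type u} [AddCommGroup M] [Module A M] [AddCommGroup N] [Module A N] [AddCommGroup P] [Module A P]
  (V : (Spec (CommRingCat.of A)).Opens)

theorem hvmap_apply (φ : M →ₗ[A] N) (i : ℕ) (x : Formal2.HV A M i V) :
    Formal2.HVmap A φ i V x =
      x.comp (Abelian.Ext.mk₀ ((SheafOfModules.toSheaf _).map (Formal2.tmodMap A φ))) (add_zero i) := rfl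

theorem hvmap_comp (φ : M →ₗ[A] N) (ψ : N →ₗ[A] P) (i : ℕ) (x : Formal2.HV A M i V) :
    Formal2.HVmap A ψ i V (Formal2.HVmap A φ i V x) = Formal2.HVmap A (ψ.comp φ) i V x := by
  rw [hvmap_apply, hvmap_apply, hvmap_apply, Abelian.Ext.comp_assoc_of_third_deg_zero, Abelian.Ext.mk₀_comp_mk₀,
    ← Functor.map_comp, ← tilde.map_comp]
  rfl

theorem hvmap_id (i : ℕ) (x : Formal2.HV A M i V) : Formal2.HVmap A (LinearMap.id : M →ₗ[A] M) i V x = x := by
  rw [hvmap_apply, show Formal2.tmodMap A (LinearMap.id : M →ₗ[A] M) = 𝟙 (Formal2.tmod A M) from tilde.map_id,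
    CategoryTheory.Functor.map_id]
  exact Abelian.Ext.comp_mk₀_id x

section Seq

variable {S : ShortComplex (ModuleCat.{u} A)} (hS : S.ShortExact) {V}
include hS

/-- The connecting map. -/
def hvδ (i : ℕ) (x : Formal2.HV A S.X₃ i V) : Formal2.HV A S.X₁ (i + 1) V :=
  x.comp (abSES_shortExact hS).extClass rfl

theorem hvδ_add (i : ℕ) (x y : Formal2.HV A S.X₃ i V) : hvδ hS i (x + y) = hvδ hS i x + hvδ hS i y :=
  Abelian.Ext.add_comp x y (abSES_shortExact hS).extClass rfl

theorem hvδ_zero (i : ℕ) : hvδ hS i (0 : Formal2.HV A S.X₃ i V) = 0 :=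
  Abelian.Ext.zero_comp _ _ (abSES_shortExact hS).extClass _ rfl

theorem hv_exact₂ {i : ℕ} {x : Formal2.HV A S.X₂ i V} (hx : Formal2.HVmap A S.g.hom i V x = 0) :
    ∃ t, Formal2.HVmap A S.f.hom i V t = x :=
  have h := abSES_shortExact hS
  Abelian.Ext.covariant_sequence_exact₂ _ h x hx

theorem hv_exact₃ {i : ℕ} {x : Formal2.HV A S.X₃ i V} (hx : hvδ hS i x = 0) :
    ∃ t, Formal2.HVmap A S.g.hom i V t = x :=
  have h := abSES_shortExact hS
  Abelian.Ext.covariant_sequence_exact₃ _ h x rfl hx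

theorem hv_exact₁ {i : ℕ} {x : Formal2.HV A S.X₁ (i + 1) V} (hx : Formal2.HVmap A S.f.hom (i + 1) V x = 0) :
    ∃ t, hvδ hS i t = x :=
  have h := abSES_shortExact hS
  Abelian.Ext.covariant_sequence_exact₁ _ h x hx rfl

theorem hvδ_g (i : ℕ) (x : Formal2.HV A S.X₂ i V) : hvδ hS i (Formal2.HVmap A S.g.hom i V x) = 0 := by
  show (x.comp (Abelian.Ext.mk₀ (abSES S).g) (add_zero i)).comp (abSES_shortExact hS).extClass rfl = 0
  rw [Abelian.Ext.comp_assoc_of_second_deg_zero, ShortComplex.ShortExact.comp_extClass, Abelian.Ext.comp_zero]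

theorem hvδ_natural {T : ShortComplex (ModuleCat.{u} A)} (hT : T.ShortExact) (τ : S ⟶ T) (i : ℕ)
    (x : Formal2.HV A S.X₃ i V) :
    Formal2.HVmap A τ.τ₁.hom (i + 1) V (hvδ hS i x) = hvδ hT i (Formal2.HVmap A τ.τ₃.hom i V x) := by
  let σ : abSES S ⟶ abSES T := tildeAbSESMap (CommRingCat.of A) τ
  have h1 := abSES_shortExact hS
  have h2 := abSES_shortExact hT
  exact comp_extClass_natural h1 h2 σ x

end Seq

section Punctured

variable [IsNoetherianRing A] (𝔞 : Ideal A)

local notation "U𝔞" => EGA4.openCompl A 𝔞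

theorem subsingleton_hv_injective (E : ModuleCat.{u} A) [Injective E] (q : ℕ) :
    Subsingleton (Formal2.HV A E (q + 1) U𝔞) := by
  obtain ⟨e⟩ := CohQC.hu_restrict (tilde (R := CommRingCat.of A) E) U𝔞 (q + 1)
  haveI : Subsingleton (Coh.HH (↑(U𝔞) : Scheme.{u}) ((tilde (R := CommRingCat.of A) E).restrict (U𝔞).ι) (q + 1)) :=
    PunctArt.subsingleton_injective 𝔞 E q
  exact e.toEquiv.subsingleton

theorem map_τ₃_eq_zero {X Y : ModuleCat.{u} A} (g : X ⟶ Y) (n : ℕ)
    (h : (localCohomology 𝔞 (n + 2)).map g = 0) : (localCohomology 𝔞 (n + 1)).map (injMap g).τ₃ = 0 := by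
  refine ModuleCat.hom_ext (LinearMap.ext fun w => ?_)
  haveI : Injective (injSES Y).X₂ := inferInstanceAs (Injective (Injective.under Y))
  haveI : Subsingleton ↑((localCohomology 𝔞 (n + 1)).obj (injSES Y).X₂) :=
    LocH.subsingleton_of_injective (injSES Y).X₂ n
  obtain ⟨v, hv⟩ := LocH.exact₃ (injSES_shortExact Y) (n + 1) (x := (localCohomology 𝔞 (n + 1)).map (injMap g).τ₃ w) (by
    rw [← HTLib.delta_natural (injSES_shortExact X) (injSES_shortExact Y) (injMap g)]
    show (localCohomology 𝔞 (n + 2)).map g _ = 0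
    rw [h]
    rfl)
  rw [← hv, Subsingleton.elim v 0, map_zero]
  rfl

/-- A map killing `H^{i+1}_𝔞` kills `H^i(U, -~)`, for `i > 0`. -/
theorem hvmap_eq_zero_of_lc : ∀ (i : ℕ) {X Y : ModuleCat.{u} A} (g : X ⟶ Y),
    (localCohomology 𝔞 (i + 2)).map g = 0 → ∀ x : Formal2.HV A X (i + 1) U𝔞, Formal2.HVmap A g.hom (i + 1) U𝔞 x = 0
  | i, X, Y, g, h, x => by
    haveI : Injective (injSES X).X₂ := inferInstanceAs (Injective (Injective.under X))
    haveI := subsingleton_hv_injective 𝔞 (injSES X).X₂ i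
    obtain ⟨t, rfl⟩ := hv_exact₁ (injSES_shortExact X) (x := x) (Subsingleton.elim _ _)
    refine (hvδ_natural (injSES_shortExact X) (injSES_shortExact Y) (injMap g) i t).trans ?_
    match i, t with
    | 0, t =>
      obtain ⟨m, hm⟩ := mem_range_of_map_one (injMap g).τ₃ (map_τ₃_eq_zero 𝔞 g 0 h) (h0 _ U𝔞 t)
      obtain ⟨e, rfl⟩ := (ModuleCat.epi_iff_surjective _).1 (injSES_shortExact Y).epi_g m
      rw [show Formal2.HVmap A (injMap g).τ₃.hom 0 U𝔞 t =
          Formal2.HVmap A (injSES Y).g.hom 0 U𝔞 ((h0 _ U𝔞).symm (secOf A (injSES Y).X₂ U𝔞 e)) from ?_]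
      · exact hvδ_g _ _ _
      refine (h0 _ U𝔞).injective ?_
      rw [h0_map, h0_map, AddEquiv.apply_symm_apply]
      exact hm.symm.trans (mapS_secOf _ _ e).symm
    | i + 1, t =>
      exact (congrArg (hvδ _ (i + 1)) (hvmap_eq_zero_of_lc i (injMap g).τ₃ (map_τ₃_eq_zero 𝔞 g (i + 1) h) t)).trans
        (hvδ_zero _ _)

end Punctured

end

end Groth.Agent.FormAlg
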