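import Groth.Agent.HTLib.ULocal
import Groth.Agent.HTLib.UPro

/-!
If `a` kills `Ext^i(M, ω)` for `i > i₀`, a power of `a` kills `colim_k Ext^j(I^k M, ω)` for `j ≥ i₀ + cd(I)`.
-/

set_option autoImplicit false
set_option maxHeartbeats 1000000
set_option linter.style.haveILetI false
set_option backward.isDefEq.respectTransparency false
universe u

namespace Groth.Agent.FormAlg

open CategoryTheory Limits Pretriangulated HomologicalComplex DerivedCategory DualCx HTLib

attribute [local instance] HasDerivedCategory.standard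

noncomputable section

variable {A : Type u} [CommRing A]

/-- `a` kills `H^j(C / Γ_I C)` -/
def UKill (I : Ideal A) (a : A) (C : DRing.Cx A) (j : ℤ) : Prop :=
  ∀ i k : ℤ, i + 1 = j → j + 1 = k → ∀ x : C.X j, C.d j k x ∈ DRing.torsionSub I (C.X k) →
    ∃ w : C.X i, a • x - C.d i j w ∈ DRing.torsionSub I (C.X j)

/-- one element of the source from its image -/
theorem mem_of_image {I : Ideal A} {C₁ C₂ : DRing.Cx A} (f : C₁ ⟶ C₂) {i j k : ℤ} (hi : i + 1 = j) (hk : j + 1 = k)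
    (hc : UVan I (CochainComplex.mappingCone f) i) (y : C₁.X j) (hy : C₁.d j k y ∈ DRing.torsionSub I (C₁.X k))
    (w : C₂.X i) (hw : f.f j y - C₂.d i j w ∈ DRing.torsionSub I (C₂.X j)) :
    ∃ w₁ : C₁.X i, y - C₁.d i j w₁ ∈ DRing.torsionSub I (C₁.X j) := by
  obtain ⟨v, hv⟩ := hc (i - 1) j (by lia) hi (cel f i j hi y (-w)) ((d_mem_iff f i j k hi hk _).2 ⟨by
    rw [cel_fst]; exact hy, by
    rw [cel_fst, cel_snd, map_neg, ← sub_eq_add_neg]
    exact hw⟩)
  obtain ⟨hv₁, -⟩ := (mem_cone_iff f i j hi _).1 hv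
  rw [map_sub, fst_d f (i - 1) i j (by lia) hi, cel_fst, sub_neg_eq_add] at hv₁
  refine ⟨-(CochainComplex.mappingCone.fst f).1.v (i - 1) i (by lia) v, ?_⟩
  rwa [map_neg, sub_neg_eq_add]

theorem smul_id_eq_zero_of_triangle {X L B : Dual.D A} {u : X ⟶ L} {g : L ⟶ B} {δ : B ⟶ X⟦(1 : ℤ)⟧}
    (hT : Triangle.mk u g δ ∈ distTriang (Dual.D A)) {a b : A} (ha : a • 𝟙 X = 0) (hb : b • 𝟙 B = 0) :
    (b * a) • 𝟙 L = 0 := by
  have h0 : (b • 𝟙 L) ≫ g = 0 := by
    rw [Linear.smul_comp, Category.id_comp, ← Category.comp_id g, ← Linear.comp_smul, hb, comp_zero]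
  obtain ⟨h, hh⟩ := Triangle.coyoneda_exact₂ _ hT (b • 𝟙 L) h0
  have h1 : a • u = 0 := by rw [← Category.id_comp u, ← Linear.smul_comp, ha, zero_comp]
  change b • 𝟙 L = h ≫ u at hh
  rw [mul_comm, mul_smul, hh, ← Linear.comp_smul, h1, comp_zero]

theorem smul_id_inD_eq_zero {a : A} (N : Type u) [AddCommGroup N] [Module A N] (n : ℤ) (h : ∀ x : N, a • x = 0) :
    a • 𝟙 ((Dual.inD A N)⟦n⟧) = 0 := by
  have h1 : a • 𝟙 (ModuleCat.of A N) = 0 := ModuleCat.hom_ext (LinearMap.ext h)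
  have h2 : a • 𝟙 (Dual.inD A N) = 0 := by
    rw [← CategoryTheory.Functor.map_id (DerivedCategory.singleFunctor (ModuleCat.{u} A) 0), ← Functor.map_smul, h1,
      Functor.map_zero]
  rw [← CategoryTheory.Functor.map_id (shiftFunctor (Dual.D A) n), ← Functor.map_smul, h2, Functor.map_zero]

/-- a bounded object whose cohomology is killed by `a` is killed by a power of `a` -/
theorem exists_pow_smul_id_eq_zero {a : A} (hi : ℤ) : ∀ (k : ℕ) (lo : ℤ) (L : Dual.D A), L.IsGE lo → L.IsLE hi →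
    hi + 1 ≤ lo + k → (∀ i : ℤ, ∀ x : Dual.HD A L i, a • x = 0) → a ^ k • 𝟙 L = 0
  | 0, lo, L, hL, hL', hk, _ => by
    haveI := hL
    haveI := hL'
    have h0 : 𝟙 L = 0 := DerivedCategory.TStructure.t.zero (𝟙 L) hi lo (by push_cast at hk; lia)
    rw [h0, smul_zero]
  | k + 1, lo, L, hL, hL', hk, h => by
    haveI := hL
    haveI := hL'
    obtain ⟨X, B, hX, hB, u, g, δ, hT⟩ :=
      (DerivedCategory.TStructure.t (C := ModuleCat.{u} A)).exists_triangle L lo (lo + 1) rfl
    haveI : X.IsLE lo := ⟨hX⟩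
    haveI : B.IsGE (lo + 1) := ⟨hB⟩
    haveI : X.IsGE lo := (DerivedCategory.isGE_iff X lo).2 fun i hi =>
      (DerivedCategory.HomologySequence.exact₁ _ hT (i - 1) i (by lia)).isZero_of_both_zeros
        ((DerivedCategory.isZero_of_isGE B (lo + 1) (i - 1) (by lia)).eq_of_src _ _)
        ((DerivedCategory.isZero_of_isGE L lo i hi).eq_of_tgt _ _)
    let hF := fun i => DerivedCategory.homologyFunctor (ModuleCat.{u} A) i
    haveI : Mono ((hF lo).map u) := (DerivedCategory.HomologySequence.mono_homologyMap_mor₁_iff _ hT (lo - 1) lo (by lia)).2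
      ((DerivedCategory.isZero_of_isGE B (lo + 1) (lo - 1) (by lia)).eq_of_src _ _)
    haveI : Epi ((hF lo).map u) := (DerivedCategory.HomologySequence.epi_homologyMap_mor₁_iff _ hT lo).2
      ((DerivedCategory.isZero_of_isGE B (lo + 1) lo (by lia)).eq_of_tgt _ _)
    haveI := isIso_of_mono_of_epi ((hF lo).map u)
    obtain ⟨Y, ⟨eY⟩⟩ := DerivedCategory.exists_iso_singleFunctor_obj_of_isGE_of_isLE X lo
    let eH : Y ≅ (hF lo).obj L := ((DerivedCategory.singleFunctorCompHomologyFunctorIso (ModuleCat.{u} A) lo).app Y).symm ≪≫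
      ((hF lo).mapIso eY).symm ≪≫ asIso ((hF lo).map u)
    let eX : X ≅ (Dual.inD A (Dual.HD A L lo))⟦-lo⟧ := eY ≪≫ (DerivedCategory.singleFunctor (ModuleCat.{u} A) lo).mapIso eH ≪≫
      (((DerivedCategory.singleFunctors (ModuleCat.{u} A)).shiftIso (-lo) lo 0 (neg_add_cancel lo)).app ((hF lo).obj L)).symm
    have hXa : a • 𝟙 X = 0 := by
      rw [← eX.hom_inv_id, ← Category.comp_id eX.hom, Category.assoc, ← Linear.comp_smul, ← Linear.smul_comp,
        smul_id_inD_eq_zero _ _ (h lo), zero_comp, comp_zero]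
    haveI : B.IsLE hi := (DerivedCategory.isLE_iff B hi).2 fun i hi' => by
      by_cases hia : i ≤ lo
      · exact DerivedCategory.isZero_of_isGE B (lo + 1) i (by lia)
      exact (DerivedCategory.HomologySequence.exact₃ _ hT i (i + 1) rfl).isZero_of_both_zeros
        ((DerivedCategory.isZero_of_isLE L hi i hi').eq_of_src _ _)
        ((DerivedCategory.isZero_of_isLE X lo (i + 1) (by lia)).eq_of_tgt _ _)
    rw [pow_succ]
    refine smul_id_eq_zero_of_triangle hT hXa
      (exists_pow_smul_id_eq_zero hi k (lo + 1) B inferInstance inferInstance (by push_cast at hk; lia) fun i => ?_)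
    by_cases hia : i ≤ lo
    · intro x
      haveI : Subsingleton (Dual.HD A B i) :=
        ModuleCat.subsingleton_of_isZero (DerivedCategory.isZero_of_isGE B (lo + 1) i (by lia))
      exact Subsingleton.elim _ _
    haveI : Epi ((hF i).map g) := (DerivedCategory.HomologySequence.epi_homologyMap_mor₂_iff _ hT i (i + 1) rfl).2
      ((DerivedCategory.isZero_of_isLE X lo (i + 1) (by lia)).eq_of_tgt _ _)
    intro x
    obtain ⟨y, rfl⟩ := (ModuleCat.epi_iff_surjective ((hF i).map g)).1 inferInstance x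
    rw [← map_smul, h i y, map_zero]

/-- with a multiplier, from a truncation -/
theorem ukill_D [IsNoetherianRing A] {ω : Dual.D A} (R : Rep ω) (s : Finset A) {d : ℕ}
    (hd : LocCoh.CdLE A (Ideal.span (s : Set A)) d) (hd1 : 1 ≤ d) (M : Type u) [AddCommGroup M] [Module A M]
    [Module.Finite A M] (a : A) (i₀ : ℤ) (hkill : ∀ i : ℤ, i₀ < i → ∀ x : T ω M i, a • x = 0) :
    ∃ N : ℕ, ∀ j : ℤ, i₀ + d ≤ j → UKill (Ideal.span (s : Set A)) (a ^ N) (R.D M) j := by
  let C := DerivedCategory.Q.obj (R.D M)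
  let lo := min R.a i₀
  let hi := max R.b i₀
  haveI : C.IsGE lo := (DerivedCategory.isGE_iff _ _).2 fun i hi => R.isZero_homology_out M i (Or.inl (lt_of_lt_of_le hi (min_le_left _ _)))
  haveI : C.IsLE hi := (DerivedCategory.isLE_iff _ _).2 fun i hi' => R.isZero_homology_out M i (Or.inr (lt_of_le_of_lt (le_max_left _ _) hi'))
  obtain ⟨L, B, hL, hB, u, g, δ, hT⟩ :=
    (DerivedCategory.TStructure.t (C := ModuleCat.{u} A)).exists_triangle C i₀ (i₀ + 1) rfl
  haveI : L.IsLE i₀ := ⟨hL⟩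
  haveI : B.IsGE (i₀ + 1) := ⟨hB⟩
  haveI : L.IsGE lo := (DerivedCategory.isGE_iff L lo).2 fun i hi' =>
    (DerivedCategory.HomologySequence.exact₁ _ hT (i - 1) i (by lia)).isZero_of_both_zeros
      ((DerivedCategory.isZero_of_isGE B (i₀ + 1) (i - 1) (by have := min_le_right R.a i₀; lia)).eq_of_src _ _)
      ((DerivedCategory.isZero_of_isGE C lo i hi').eq_of_tgt _ _)
  haveI : B.IsLE hi := (DerivedCategory.isLE_iff B hi).2 fun i hi' =>
    (DerivedCategory.HomologySequence.exact₃ _ hT i (i + 1) rfl).isZero_of_both_zeros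
      ((DerivedCategory.isZero_of_isLE C hi i hi').eq_of_src _ _)
      ((DerivedCategory.isZero_of_isLE L i₀ (i + 1) (by have := le_max_right R.b i₀; lia)).eq_of_tgt _ _)
  have hBk : ∀ i : ℤ, ∀ x : Dual.HD A B i, a • x = 0 := fun i x => by
    by_cases hi' : i ≤ i₀
    · haveI : Subsingleton (Dual.HD A B i) :=
        ModuleCat.subsingleton_of_isZero (DerivedCategory.isZero_of_isGE B (i₀ + 1) i (by lia))
      exact Subsingleton.elim _ _
    haveI : Epi ((DerivedCategory.homologyFunctor (ModuleCat.{u} A) i).map g) :=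
      (DerivedCategory.HomologySequence.epi_homologyMap_mor₂_iff _ hT i (i + 1) rfl).2
        ((DerivedCategory.isZero_of_isLE L i₀ (i + 1) (by lia)).eq_of_tgt _ _)
    obtain ⟨y, rfl⟩ := (ModuleCat.epi_iff_surjective ((DerivedCategory.homologyFunctor (ModuleCat.{u} A) i).map g)).1
      inferInstance x
    obtain ⟨S, q, hq⟩ := R.exists_homology_quot M i
    obtain ⟨z, hz⟩ := hq ((R.homologyIso M i).hom y)
    have h1 : a • y = 0 := (R.homologyIso M i).toLinearEquiv.injective (by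
      rw [map_smul, map_zero]
      show a • (R.homologyIso M i).hom y = 0
      rw [← hz, ← map_smul, show a • z = 0 from Subtype.ext (hkill i (by lia) z.1), map_zero])
    rw [← map_smul, h1, map_zero]
  have hB0 := exists_pow_smul_id_eq_zero (a := a) hi (hi + 1 - (i₀ + 1)).toNat (i₀ + 1) B inferInstance inferInstance
    (by have := le_max_right R.b i₀; lia) hBk
  refine ⟨(hi + 1 - (i₀ + 1)).toNat, fun j hj => ?_⟩
  generalize (hi + 1 - (i₀ + 1)).toNat = N at hB0 ⊢
  have h0 : (a ^ N • 𝟙 C) ≫ g = 0 := by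
    rw [Linear.smul_comp, Category.id_comp, ← Category.comp_id g, ← Linear.comp_smul, hB0, comp_zero]
  obtain ⟨h, hh⟩ := Triangle.coyoneda_exact₂ _ hT (a ^ N • 𝟙 C) h0
  change a ^ N • 𝟙 C = h ≫ u at hh
  -- representatives
  obtain ⟨JL, hJL, hJL', ⟨eL⟩⟩ := exists_rep_Q L
  obtain ⟨JC, v, hJC, hv, hJC'⟩ := RGammaI.exists_kinj (R.D M)
  haveI := hJL
  haveI := hJC
  haveI := hv
  let eC : DerivedCategory.Q.obj JC ≅ C := (asIso (DerivedCategory.Q.map v)).symm
  have hUL : UVan (Ideal.span (s : Set A)) JL j := by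
    refine ud_bounded i₀ j (i₀ + 1 - lo).toNat lo L inferInstance inferInstance (by lia) (fun i => ?_) JL hJL hJL' ⟨eL⟩
    by_cases hi' : i₀ < i
    · exact ud_of_isZero (Functor.map_isZero _ (Functor.map_isZero _ (DerivedCategory.isZero_of_isLE L i₀ i hi'))) j
    refine ud_shift (-i) (ud_inD _ _ (Or.inr (Or.inr ⟨by lia, ?_⟩)))
    exact hd _ _ (by lia)
  obtain ⟨Fh, hFh⟩ := DRingKP.exists_lift_inj (eC.hom ≫ h ≫ eL.inv)
  obtain ⟨Fu, hFu⟩ := DRingKP.exists_lift_inj (eL.hom ≫ u ≫ eC.inv)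
  have hzero : DerivedCategory.Q.map (Fh ≫ Fu - a ^ N • 𝟙 JC) = 0 := by
    rw [Functor.map_sub, Functor.map_comp, Functor.map_smul, CategoryTheory.Functor.map_id, hFh, hFu, sub_eq_zero]
    simp only [Category.assoc, Iso.inv_hom_id_assoc]
    rw [← Category.assoc h u, ← hh, Linear.smul_comp, Category.id_comp, Linear.comp_smul, eC.hom_inv_id]
  obtain ⟨H⟩ := DRingKP.exists_homotopy_inj _ hzero
  intro i k hi' hk x hx
  have hcomm : ∀ {C₁ C₂ : DRing.Cx A} (f : C₁ ⟶ C₂) (p q : ℤ) (z : C₁.X p),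
      C₂.d p q (f.f p z) = f.f q (C₁.d p q z) := fun f p q z =>
    congrArg (fun φ => φ.hom z) (f.comm p q)
  let y := v.f j x
  have hy : JC.d j k y ∈ DRing.torsionSub (Ideal.span (s : Set A)) (JC.X k) :=
    (hcomm v j k x).symm ▸ DRing.map_mem_torsionSub _ (v.f k).hom hx
  obtain ⟨w, hw⟩ := hUL i k hi' hk (Fh.f j y)
    ((hcomm Fh j k y).symm ▸ DRing.map_mem_torsionSub _ (Fh.f k).hom hy)
  have hH : Fu.f j (Fh.f j y) - a ^ N • y = H.hom k j (JC.d j k y) + JC.d i j (H.hom j i y) := by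
    have h3 := congrArg (fun φ => φ.hom y) (H.comm j)
    rw [dNext_eq _ (show (ComplexShape.up ℤ).Rel j k from hk),
      prevD_eq _ (show (ComplexShape.up ℤ).Rel i j from hi')] at h3
    simpa using h3
  have hmem : v.f j (a ^ N • x) - JC.d i j (Fu.f i w - H.hom j i y) ∈
      DRing.torsionSub (Ideal.span (s : Set A)) (JC.X j) := by
    have h4 := sub_mem (DRing.map_mem_torsionSub _ (Fu.f j).hom hw)
      (DRing.map_mem_torsionSub _ (H.hom k j).hom hy)
    rw [map_sub, ← hcomm Fu i j w] at h4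
    rw [map_smul, map_sub]
    convert h4 using 1
    show a ^ N • y - _ = _
    rw [show Fu.f j (Fh.f j y) = a ^ N • y + (H.hom k j (JC.d j k y) + JC.d i j (H.hom j i y)) by
      rw [← hH]; abel]
    abel
  have hAC := ac_D R M s
  have hac : (CochainComplex.mappingCone v).Acyclic := (DerPlus.quasiIso_iff_acyclic_mappingCone v).1 inferInstance
  exact mem_of_image v hi' hk
    (uvan_of_acyclic (good_of_acyclic (hAC.cone (RGammaI.ac_of_ti s hJC') v) hac) hac i) (a ^ N • x)
    (by rw [map_smul]; exact Submodule.smul_mem _ _ hx) _ hmem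

variable {ω : Dual.D A} (R : Rep ω) {M : Type u} [AddCommGroup M] [Module A M] {j : ℤ}

/-- classes on `I^n M`, times the multiplier, die on some `I^k M` -/
theorem exists_res_smul_eq_zero (I : Ideal A) {c : A} (h : UKill I c (R.D M) j) (n : ℕ)
    (x : T ω ↥(I ^ n • (⊤ : Submodule A M)) j) :
    ∃ (k : ℕ) (hk : n ≤ k), c • pre ω j (resI I M hk) x = 0 := by
  haveI := R.inj j
  obtain ⟨z, rfl⟩ := exists_cycle R x
  let ι : ↥(I ^ n • (⊤ : Submodule A M)) →ₗ[A] M := (I ^ n • (⊤ : Submodule A M)).subtype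
  haveI : Mono (ModuleCat.ofHom ι) := (ModuleCat.mono_iff_injective _).2 Subtype.val_injective
  let φ : ModuleCat.of A M ⟶ R.J.X j := Injective.factorThru (show ModuleCat.of A _ ⟶ R.J.X j from z.1) (ModuleCat.ofHom ι)
  have hφ : ModuleCat.ofHom ι ≫ φ = z.1 := Injective.comp_factorThru _ _
  obtain ⟨w, k, hw⟩ := h (j - 1) (j + 1) (by lia) rfl φ ⟨n, fun a ha => by
    show a • (φ ≫ R.J.d j (j + 1)) = 0
    refine ModuleCat.hom_ext (LinearMap.ext fun m => ?_)
    show a • (φ ≫ R.J.d j (j + 1)).hom m = 0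
    rw [← map_smul]
    have hz : ModuleCat.ofHom ι ≫ φ ≫ R.J.d j (j + 1) = 0 := by
      rw [← Category.assoc, hφ]
      exact z.2
    exact congrArg (fun g => g.hom ⟨a • m, Submodule.smul_mem_smul ha Submodule.mem_top⟩) hz⟩
  refine ⟨max n k, le_max_left _ _, ?_⟩
  let inc : ↥(I ^ max n k • (⊤ : Submodule A M)) →ₗ[A] ↥(I ^ n • (⊤ : Submodule A M)) := resI I M (le_max_left n k)
  let z' : R.Z ↥(I ^ max n k • (⊤ : Submodule A M)) j := ⟨(R.dmap inc).f j z.1, by
    show (R.D _).d j (j + 1) ((R.dmap inc).f j z.1) = 0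
    rw [← ModuleCat.comp_apply, (R.dmap inc).comm, ModuleCat.comp_apply,
      show (R.D ↥(I ^ n • (⊤ : Submodule A M))).d j (j + 1) z.1 = 0 from z.2, map_zero]⟩
  show c • pre ω j inc _ = 0
  rw [← toT_dmap R inc z z' rfl, ← map_smul]
  refine toT_boundary R (show j - 1 + 1 = j by lia) (c • z') ((R.dmap (ι.comp inc)).f (j - 1) w) ?_
  refine ModuleCat.hom_ext (LinearMap.ext fun m => ?_)
  have key : ∀ m₀ ∈ I ^ k • (⊤ : Submodule A M),
      (show ModuleCat.of A M ⟶ R.J.X j from w ≫ R.J.d (j - 1) j).hom m₀ = c • φ.hom m₀ := by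
    intro m₀ hm
    refine Submodule.smul_induction_on hm (fun a ha y _ => ?_) fun y y' hy hy' => by rw [map_add, map_add, hy, hy', smul_add]
    have h0 := congrArg (fun g : ModuleCat.of A M ⟶ R.J.X j => g.hom y) (hw a ha)
    change a • (c • φ.hom y - (w ≫ R.J.d (j - 1) j).hom y) = 0 at h0
    rw [smul_sub, sub_eq_zero, smul_comm, ← map_smul] at h0
    rw [map_smul]
    exact h0.symm
  have h1 := key (ι (inc m)) (Submodule.smul_mono_left (Ideal.pow_le_pow_right (le_max_right n k)) m.2)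
  refine h1.trans ?_
  exact congrArg (c • ·) (congrArg (fun g => g.hom (inc m)) hφ)

end

end Groth.Agent.FormAlg
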