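import Groth.Agent.FormAlg.Kill
import Groth.Agent.HTLib.Boot

/-!
A multiplier outside `η` kills the transition maps of `H^i_𝔞(I^n M)`, `i ≤ 2`.
-/

set_option autoImplicit false
set_option maxHeartbeats 1000000
set_option linter.style.haveILetI false
set_option backward.isDefEq.respectTransparency false
universe u

namespace Groth.Agent.FormAlg

open CategoryTheory Limits DerivedCategory DualCx HTLib

attribute [local instance] HasDerivedCategory.standard

noncomputable section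

theorem j_aux {d m : ℕ} {x y : ℤ} (h : d + 1 < m) (hm : (m : ℤ) = max (x - y) 0) {i : ℕ} (hi : i ≤ 2) :
    -x + (d : ℤ) ≤ -y - i := by omega

theorem range_aux {a b y : ℤ} {i : ℕ} (h1 : a ≤ y) (h2 : y ≤ b) (hi : i ≤ 2) :
    -b - 2 ≤ -y - i ∧ -y - (i : ℤ) ≤ -a := by omega

variable {A : Type u} [CommRing A] [IsNoetherianRing A] {ω : Dual.D A}

theorem finset_prod_notMem {ι : Type*} (t : Finset ι) (f : ι → A) (η : Ideal A) [η.IsPrime]
    (h : ∀ i ∈ t, f i ∉ η) : ∏ i ∈ t, f i ∉ η := fun hm => by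
  obtain ⟨i, hi, hi'⟩ := (Ideal.IsPrime.prod_mem_iff (hp := ‹_›)).1 hm
  exact h i hi hi'

theorem exists_notMem_kill (hω : Dual.IsDualizing A ω) (M : Type u) [AddCommGroup M] [Module A M] [Module.Finite A M]
    (η : PrimeSpectrum A) : ∃ a ∉ η.asIdeal, ∀ i : ℤ, -del hω η < i → ∀ x : DualCx.T ω M i, a • x = 0 := by
  classical
  obtain ⟨lo, hi, hb⟩ := exists_bound hω
  have h1 : ∀ i : ℤ, ∃ a ∉ η.asIdeal, -del hω η < i → ∀ x : DualCx.T ω M i, a • x = 0 := by
    intro i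
    by_cases hlt : -del hω η < i
    swap
    · exact ⟨1, η.isPrime.one_notMem, fun h => absurd h hlt⟩
    haveI := finite_T hω M i
    obtain ⟨t, ht⟩ := Module.Finite.fg_top (R := A) (M := DualCx.T ω M i)
    choose u hu hux using fun x : DualCx.T ω M i => (van_gt hω (M := M) (q := η) hlt) x
    refine ⟨∏ x ∈ t, u x, finset_prod_notMem t u η.asIdeal fun x _ => hu x, fun _ x => ?_⟩
    have hle : Submodule.span A (t : Set (DualCx.T ω M i)) ≤ LinearMap.ker (LinearMap.lsmul A _ (∏ x ∈ t, u x)) := by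
      refine Submodule.span_le.2 fun y hy => ?_
      show (∏ x ∈ t, u x) • y = 0
      rw [← Finset.prod_erase_mul _ _ hy, mul_smul, hux y, smul_zero]
    exact hle (ht ▸ Submodule.mem_top)
  choose a ha hax using h1
  refine ⟨∏ i ∈ Finset.Icc (-del hω η + 1) hi, a i, finset_prod_notMem _ a η.asIdeal fun i _ => ha i, fun i hlt x => ?_⟩
  by_cases hle : i ≤ hi
  · have hmem : i ∈ Finset.Icc (-del hω η + 1) hi := Finset.mem_Icc.2 ⟨by lia, hle⟩
    rw [← Finset.prod_erase_mul _ _ hmem, mul_smul, hax i hlt x, smul_zero]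
  · haveI := hb M i (Or.inr (by lia))
    exact Subsingleton.elim _ _

theorem exists_kill_res (hω : Dual.IsDualizing A ω) (I : Ideal A) {d : ℕ} (hd : LocCoh.CdLE A I d) (hd1 : 1 ≤ d)
    (M : Type u) [AddCommGroup M] [Module A M] [Module.Finite A M] (η : PrimeSpectrum A) :
    ∃ a ∉ η.asIdeal, ∀ (n : ℕ) (j : ℤ), -del hω η + d ≤ j →
      ∃ K : ℕ, n ≤ K ∧ ∀ (x : DualCx.T ω ↥(I ^ n • (⊤ : Submodule A M)) j) (k : ℕ) (hk : n ≤ k), K ≤ k →
        a • pre ω j (resI I M hk) x = 0 := by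
  obtain ⟨R⟩ := nonempty_rep hω
  obtain ⟨a, ha, hax⟩ := exists_notMem_kill hω M η
  obtain ⟨s, hs⟩ := IsNoetherian.noetherian I
  have hs' : Ideal.span (s : Set A) = I := hs
  obtain ⟨N, hN⟩ := ukill_D R s (hs'.symm ▸ hd) hd1 M a (-del hω η) hax
  refine ⟨a ^ N, fun h => ha (η.isPrime.mem_of_pow_mem N h), fun n j hj => ?_⟩
  have hk' := hN j hj
  rw [hs'] at hk'
  obtain ⟨K, hK, hKx⟩ := exists_stage_uniform hω I M j n
  refine ⟨K, hK, fun x k hk hKk => ?_⟩
  obtain ⟨k₀, hk₀, h0⟩ := exists_res_smul_eq_zero R I hk' n x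
  rw [← map_smul] at h0 ⊢
  exact hKx _ k₀ hk₀ k hk hKk h0

/-- Localisations at `q ∈ T` of the multiplied transition maps are zero on `H^i`, `i ≤ 2`. -/
theorem exists_kill_loc (hω : Dual.IsDualizing A ω) (I 𝔞 : Ideal A) {d : ℕ} (hd : LocCoh.CdLE A I d) (hd1 : 1 ≤ d)
    (M : Type u) [AddCommGroup M] [Module A M] [Module.Finite A M] (η : PrimeSpectrum A)
    (hsupp : ∀ q : PrimeSpectrum A, q ∈ Module.support A M → η ≤ q)
    (hdim : ∀ q : PrimeSpectrum A, η ≤ q → 𝔞 ≤ q.asIdeal →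
      ((d + 1 : ℕ) : WithBot ℕ∞) < Formal2.dimBetween A η.asIdeal q.asIdeal) :
    ∃ a ∉ η.asIdeal, ∀ n : ℕ, ∃ K : ℕ, n ≤ K ∧ ∀ q : PrimeSpectrum A, 𝔞 ≤ q.asIdeal → ∀ i ≤ 2,
      ∀ (k : ℕ) (hk : n ≤ k), K ≤ k → ∀ c : A, a ∣ c → LocZero q.asIdeal i (c • resI I M hk) := by
  haveI : IsNoetherian A M := isNoetherian_of_isNoetherianRing_of_finite A M
  obtain ⟨a, ha, hax⟩ := exists_kill_res hω I hd hd1 M η
  refine ⟨a, ha, fun n => ?_⟩
  obtain ⟨lo, hi, hb⟩ := exists_del_bound hω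
  let E : ℤ → ℕ := fun j => if h : -del hω η + d ≤ j then (hax n j h).choose else n
  refine ⟨max n ((Finset.Icc (-hi - 2) (-lo)).sup E), le_max_left _ _, fun q hq i hi2 k hk hK c hc => ?_⟩
  refine locZero_of_dual hω q i _ fun x => ?_
  by_cases hqM : q ∈ Module.support A M
  · have hle := hsupp q hqM
    have h1 := hdim q hle hq
    rw [dimBetween_eq hω hle] at h1
    have hj : -del hω η + d ≤ -del hω q - i :=
      j_aux (show d + 1 < (del hω η - del hω q).toNat by exact_mod_cast h1) (Int.toNat_eq_max _) hi2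
    obtain ⟨r1, r2⟩ := range_aux (hb q).1 (hb q).2 hi2
    have hE : E (-del hω q - i) ≤ k :=
      le_trans (le_trans (Finset.le_sup (f := E) (Finset.mem_Icc.2 ⟨r1, r2⟩)) (le_max_right _ _)) hK
    simp only [E, dif_pos hj] at hE
    obtain ⟨c', rfl⟩ := hc
    refine ⟨1, q.isPrime.one_notMem, ?_⟩
    rw [one_smul, pre_smul, mul_comm, mul_smul, (hax n _ hj).choose_spec.2 x k hk hE, smul_zero]
  · rw [Module.mem_support_iff_of_finite] at hqM
    obtain ⟨t, ht, htq⟩ := SetLike.not_le_iff_exists.1 hqM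
    refine ⟨t, htq, ?_⟩
    have h0 : t • (c • resI I M hk) = 0 := LinearMap.ext fun y => by
      refine Subtype.ext ?_
      show t • c • (y : M) = 0
      rw [smul_comm, Module.mem_annihilator.1 ht, smul_zero]
    rw [← pre_smul, h0]
    exact congrArg (fun z => z) (by rw [← zero_smul A (resI I M hk), pre_smul, zero_smul])

/-- A multiplier outside `η` kills the transition maps on `H^i_𝔞`, `i ≤ 2`. -/
theorem exists_kill (hω : Dual.IsDualizing A ω) (I 𝔞 : Ideal A) {d : ℕ} (hd : LocCoh.CdLE A I d) (hd1 : 1 ≤ d)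
    (M : Type u) [AddCommGroup M] [Module A M] [Module.Finite A M] (η : PrimeSpectrum A)
    (hsupp : ∀ q : PrimeSpectrum A, q ∈ Module.support A M → η ≤ q)
    (hdim : ∀ q : PrimeSpectrum A, η ≤ q → 𝔞 ≤ q.asIdeal →
      ((d + 1 : ℕ) : WithBot ℕ∞) < Formal2.dimBetween A η.asIdeal q.asIdeal) :
    ∃ a ∉ η.asIdeal, ∀ n : ℕ, ∃ K : ℕ, n ≤ K ∧ ∀ i ≤ 2, ∀ (k : ℕ) (hk : n ≤ k), K ≤ k →
      (localCohomology 𝔞 i).map (ModuleCat.ofHom (a • resI I M hk)) = 0 := by
  obtain ⟨a, ha, hax⟩ := exists_kill_loc hω I 𝔞 hd hd1 M η hsupp hdim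
  choose F hF hloc using hax
  let T : Set (PrimeSpectrum A) := PrimeSpectrum.zeroLocus (𝔞 : Set A)
  obtain ⟨e, he⟩ := exists_dim_bound hω T
  refine ⟨a ^ (e + 1), fun h => ha (η.isPrime.mem_of_pow_mem _ h), fun n => ?_⟩
  let g : ℕ → ℕ := fun r => F^[r] n
  have hg : ∀ {r r' : ℕ}, r ≤ r' → g r ≤ g r' := fun {r r'} h => monotone_nat_of_le_succ (f := g) (fun r => by
    show F^[r] n ≤ F^[r + 1] n
    rw [Function.iterate_succ_apply']
    exact hF _) h
  refine ⟨g (e + 1), hg (Nat.zero_le (e + 1)), fun i hi k hk hKk => ?_⟩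
  have h0 := map_eq_zero_of_locZero T e he (fun r => ↥(I ^ g r • (⊤ : Submodule A M)))
    (fun r' r h => a ^ (r' - r) • resI I M (hg h))
    (fun r'' r' r h₁ h₂ => by
      rw [LinearMap.smul_comp, LinearMap.comp_smul, smul_smul, ← pow_add, resI_comp,
        show r' - r + (r'' - r') = r'' - r by lia])
    i (fun r => r + 1) (fun r => Nat.le_succ r)
    (fun p hp r r' h hrr' => hloc (g r) p hp i hi (g r') (hg h) (by
      show F (F^[r] n) ≤ g r'
      rw [← Function.iterate_succ_apply' F]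
      exact hg hrr') _ (dvd_pow_self a (by lia)))
    0 (e + 1) (Nat.zero_le _) (le_of_eq ?_)
  swap
  · have : ∀ t : ℕ, (fun r => r + 1)^[t] 0 = t := fun t => by
      induction t with
      | zero => rfl
      | succ t ih => rw [Function.iterate_succ_apply', ih]
    exact this (e + 1)
  have hsplit : a ^ (e + 1) • resI I M hk =
      (a ^ (e + 1 - 0) • resI I M (hg (Nat.zero_le (e + 1)))).comp (resI I M hKk) := by
    rw [LinearMap.smul_comp, resI_comp, Nat.sub_zero]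
  refine ModuleCat.hom_ext (LinearMap.ext fun y => ?_)
  obtain ⟨res⟩ : Nonempty (InjectiveResolution (ModuleCat.of A ↥(I ^ n • (⊤ : Submodule A M)))) :=
    HasInjectiveResolution.out
  refine theta_injective_of_vanish (M := ↥(I ^ n • (⊤ : Submodule A M))) (T := T) res 𝔞 subset_rfl i (fun q hq hnot => absurd hq hnot) ?_
  refine Eq.trans ?_ (map_zero (theta 𝔞 (T := T) subset_rfl i (ModuleCat.of A ↥(I ^ n • (⊤ : Submodule A M))))).symm
  refine (theta_map 𝔞 subset_rfl i (ModuleCat.ofHom (a ^ (e + 1) • resI I M hk)) y).trans ?_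
  rw [hsplit, ModuleCat.ofHom_comp, Functor.map_comp, h0, comp_zero]
  rfl

end

end Groth.Agent.FormAlg
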