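import Groth.Agent.FormAlg.Existence
import Groth.Agent.LefDiv.Restrict
import Groth.Agent.KunnethHH.Bridge

/-!
The Lefschetz condition for a principal divisor of an open subscheme of an affine scheme.
-/

set_option autoImplicit false
set_option maxHeartbeats 1000000
set_option linter.style.haveILetI false
set_option backward.isDefEq.respectTransparency false
set_option backward.isDefEq.respectTransparency.types false
universe u

namespace Groth.Agent.FormAlg

open CategoryTheory CategoryTheory.Limits AlgebraicGeometry TopologicalSpace Opposite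

noncomputable section

variable {A : Type u} [CommRing A] {X : Scheme.{u}} [X.Over (Spec (CommRingCat.of A))] {t : A} {𝓘 : X.IdealSheafData}
  (h𝓘 : ∀ V : X.affineOpens, 𝓘.ideal V = Ideal.span {W7Cech.secRing A V.1 t})

include h𝓘 in
theorem exists_quotMod_iso (n : ℕ) :
    ∃ κ : Formal.modPow (Ideal.span {t}) (n + 1) (Coh.structureModule X) ≅ ClSub.quotMod (𝓘 ^ (n + 1)),
      Formal.modPowπ (Ideal.span {t}) (n + 1) (Coh.structureModule X) ≫ κ.hom = ClSub.toSubscheme (𝓘 ^ (n + 1)) := by
  let π := Formal.modPowπ (Ideal.span {t}) (n + 1) (Coh.structureModule X)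
  let q := ClSub.toSubscheme (𝓘 ^ (n + 1))
  obtain ⟨d, hd⟩ := W7Exist.exists_desc_modPow (Ideal.span {t}) (n + 1) q fun a ha => by
    rw [W7Cech.smulMod_natural]
    exact (congrArg (q ≫ ·) (smulMod_push_of_mem (FSch.completionToX X 𝓘 n) (ker_completionToX h𝓘 n) _ ha)).trans
      comp_zero
  have h2 : kernel.ι q ≫ π = 0 := by
    refine Scheme.Modules.hom_ext _ _ fun O => ?_
    ext s
    show π.app O ((kernel.ι q).app O s) = 0
    refine QC.section_eq_of_locally fun x hx => ?_
    obtain ⟨V, hV, hxV, hVO⟩ := exists_isAffineOpen_mem_and_subset hx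
    refine ⟨V, hVO, hxV, ?_⟩
    rw [map_zero, QC.app_res, QC.app_res]
    generalize hw : QC.res (kernel q) hVO s = w
    let b : Γ(X, V) := (kernel.ι q).app V w
    have hm : b ∈ (𝓘 ^ (n + 1)).ideal ⟨V, hV⟩ :=
      (QC.mem_range_idealModι_affine (𝓘 ^ (n + 1)) ⟨V, hV⟩ b).1 ⟨w, rfl⟩
    have hpow : (𝓘 ^ (n + 1)).ideal ⟨V, hV⟩ = Ideal.span {W7Cech.secRing A V (t ^ (n + 1))} := by
      rw [map_pow, Scheme.IdealSheafData.ideal_pow, Pi.pow_apply, h𝓘, Ideal.span_singleton_pow]
    rw [hpow] at hm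
    obtain ⟨c, hc⟩ : ∃ c : Γ(X, V), c * W7Cech.secRing A V (t ^ (n + 1)) = b := Ideal.mem_span_singleton'.1 hm
    have e : (Formal.smulMod A (Coh.structureModule X) (t ^ (n + 1))).app V c = b :=
      (mul_comm _ _).trans hc
    have hz : Formal.smulMod A (Coh.structureModule X) (t ^ (n + 1)) ≫ π = 0 :=
      W7Exist.smulMod_π _ (n + 1) _ _ (Ideal.pow_mem_pow (Ideal.mem_span_singleton_self t) _)
    refine (congrArg (fun z => π.app V z) e).symm.trans ?_
    exact congrArg (fun f : Coh.structureModule X ⟶ _ => f.app V c) hz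
  haveI : Epi π := by unfold π Formal.modPowπ; infer_instance
  haveI : Epi q := inferInstance
  refine ⟨⟨d, Abelian.epiDesc q π h2, ?_, ?_⟩, hd⟩
  · rw [← cancel_epi π, ← Category.assoc, hd, Abelian.comp_epiDesc, Category.comp_id]
  · rw [← cancel_epi q, ← Category.assoc, Abelian.comp_epiDesc, hd, Category.comp_id]

/-- Morphisms from the structure sheaf as cohomology classes. -/
def homH0 (M : X.Modules) : (Coh.structureModule X ⟶ M) ≃ Coh.HH X M 0 :=
  (KunnethHH.homSec (A := A) M).toEquiv.trans (W7Cech.gsH0 A M).toEquiv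

theorem homH0_comp {M N : X.Modules} (f : Coh.structureModule X ⟶ M) (g : M ⟶ N) :
    homH0 (A := A) N (f ≫ g) = Sheaf.H.map ((SheafOfModules.toSheaf _).map g) 0 (homH0 (A := A) M f) :=
  W7Cech.gsH0_natural A g (KunnethHH.homSec (A := A) M f)

include h𝓘 in
theorem homToFormal_structure
    (h : Function.Bijective (Formal.toHHlim (Ideal.span {t}) (Coh.structureModule X) 0)) :
    Lef.HomToFormalBijective 𝓘 (Coh.structureModule X) := by
  choose κ hκ using exists_quotMod_iso h𝓘
  have hq : ∀ n, (κ (n + 1)).inv ≫ Formal.modPowTrans (Ideal.span {t}) (n + 1) (Coh.structureModule X) ≫ (κ n).hom =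
      Lef.quotMap (Lef.pow_succ_le 𝓘 n) := fun n => by
    rw [← cancel_epi (ClSub.toSubscheme (𝓘 ^ (n + 1 + 1))), LefDiv.toSubscheme_quotMap]
    conv_lhs => rw [← hκ (n + 1), Category.assoc, Iso.hom_inv_id_assoc, ← Category.assoc, Formal.modPowπ_trans]
    exact hκ n
  refine ⟨fun φ ψ hn => (homH0 (A := A) _).injective (h.1 (Subtype.ext (funext fun n => ?_))), fun y hy => ?_⟩
  · show Sheaf.H.map _ 0 _ = Sheaf.H.map _ 0 _
    rw [← homH0_comp, ← homH0_comp]
    refine congrArg _ ((cancel_mono (κ n).hom).1 ?_)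
    rw [Category.assoc, Category.assoc, hκ]
    exact hn n
  · obtain ⟨x, hx⟩ := h.2 ⟨fun n => homH0 (A := A) _ (y n ≫ (κ n).inv), fun n => by
      show Sheaf.H.map _ 0 _ = _
      rw [← homH0_comp]
      refine congrArg _ ((cancel_mono (κ n).hom).1 ?_)
      rw [Category.assoc, Category.assoc, Category.assoc, Iso.inv_hom_id, Category.comp_id, hq n]
      exact hy n⟩
    refine ⟨(homH0 (A := A) _).symm x, fun n => ?_⟩
    rw [← hκ n, ← Category.assoc, ← Iso.eq_comp_inv]
    refine (homH0 (A := A) _).injective ?_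
    rw [homH0_comp, Equiv.apply_symm_apply]
    exact congrFun (congrArg Subtype.val hx) n

end

noncomputable section

variable {A : Type u} [CommRing A] (U : (Spec (CommRingCat.of A)).Opens)

/-- `A~|_U ≅ O_U`. -/
def RRselfIso : (PunctArt.RR U).obj (ModuleCat.of A A) ≅ Coh.structureModule (↑U : Scheme.{u}) :=
  (Scheme.Modules.restrictFunctor U.ι).mapIso (tildeSelf (R := CommRingCat.of A)) ≪≫ (asIso (LefDiv.oneU U)).symm

theorem homToFormal_free {𝓙 : (↑U : Scheme.{u}).IdealSheafData}
    (h : Lef.HomToFormalBijective 𝓙 (Coh.structureModule (↑U : Scheme.{u}))) (m : ℕ) :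
    Lef.HomToFormalBijective 𝓙 ((PunctArt.RR U).obj (ModuleCat.of A (Fin m → A))) := by
  let e : ModuleCat.of A (Fin m → A) ≅ ∐ fun _ : Fin m => ModuleCat.of A A :=
    (ModuleCat.biproductIsoPi fun _ : Fin m => ModuleCat.of A A).symm ≪≫ biproduct.isoCoproduct _
  exact LefDiv.homToFormal_of_iso ((PunctArt.RR U).mapIso e ≪≫ PreservesCoproduct.iso (PunctArt.RR U) _).symm
    (LefDiv.homToFormal_sigma _ fun _ => LefDiv.homToFormal_of_iso (RRselfIso U).symm h)

variable [IsNoetherianRing A]

theorem homToFormal_coh {𝓙 : (↑U : Scheme.{u}).IdealSheafData}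
    (h : Lef.HomToFormalBijective 𝓙 (Coh.structureModule (↑U : Scheme.{u}))) {D : (↑U : Scheme.{u}).Modules}
    (hD : Coh.IsCoh D) : Lef.HomToFormalBijective 𝓙 D := by
  obtain ⟨N, hN, ⟨φ⟩⟩ := ZarPair.exists_tilde_restrict (R := CommRingCat.of A) U D hD.1 hD.2
  haveI : Module.Finite A N := hN
  obtain ⟨m, p, hp⟩ := Module.Finite.exists_fin' A N
  obtain ⟨k, q, hq⟩ := Module.Finite.exists_fin' A (LinearMap.ker p)
  let d : ModuleCat.of A (Fin k → A) ⟶ ModuleCat.of A (Fin m → A) := ModuleCat.ofHom ((LinearMap.ker p).subtype ∘ₗ q)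
  let pp : ModuleCat.of A (Fin m → A) ⟶ ModuleCat.of A N := ModuleCat.ofHom p
  have hdp : d ≫ pp = 0 := ModuleCat.hom_ext (LinearMap.ext fun x => (q x).2)
  have hex : (ShortComplex.mk d pp hdp).Exact := (ShortComplex.moduleCat_exact_iff _).2 fun x hx => by
    obtain ⟨z, hz⟩ := hq ⟨x, hx⟩
    exact ⟨z, congrArg Subtype.val hz⟩
  haveI : Epi pp := (ModuleCat.epi_iff_surjective _).2 hp
  haveI : Epi ((PunctArt.RR U).map pp) := Functor.map_epi _ _
  exact LefDiv.homToFormal_of_iso φ
    (LefDiv.homToFormal_of_presentation _ _ _ (hex.map (PunctArt.RR U)) (homToFormal_free U h m) (homToFormal_free U h k))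

omit [IsNoetherianRing A] in
theorem nonempty_stalk_equiv (x : (↑U : Scheme.{u})) :
    Nonempty ((↑U : Scheme.{u}).presheaf.stalk x ≃+*
      Localization.AtPrime (show PrimeSpectrum A from x.1).asIdeal) := by
  haveI : IsLocalization.AtPrime ((Spec.structureSheaf (CommRingCat.of A)).presheaf.stalk x.1)
    (show PrimeSpectrum A from x.1).asIdeal := StructureSheaf.IsLocalization.to_stalk A x.1
  exact ⟨(U.stalkIso x).commRingCatIsoToRingEquiv.trans
    (IsLocalization.algEquiv (show PrimeSpectrum A from x.1).asIdeal.primeCompl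
      ((Spec.structureSheaf (CommRingCat.of A)).presheaf.stalk x.1) (Localization.AtPrime _)).toRingEquiv⟩

omit [IsNoetherianRing A] in
theorem mono_smulMod_structure (t : A) (hreg : IsSMulRegular A t) :
    Mono (Formal.smulMod A (Coh.structureModule (↑U : Scheme.{u})) t) := by
  haveI : Mono (t • 𝟙 (ModuleCat.of A A)) := (ModuleCat.mono_iff_injective _).2 hreg
  haveI : Mono (Formal.smulMod A ((PunctArt.RR U).obj (ModuleCat.of A A)) t) := RR_map_smul (U := U) (ModuleCat.of A A) t ▸
    inferInstanceAs (Mono ((PunctArt.RR U).map (t • 𝟙 (ModuleCat.of A A))))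
  have h := W7Cech.smulMod_natural A (RRselfIso U).hom t
  rw [(Iso.eq_inv_comp _).2 h.symm]
  infer_instance

omit [IsNoetherianRing A] in
theorem mem_support_divisorIdeal (t : A) (y : (↑U : Scheme.{u})) (ht : t ∈ (show PrimeSpectrum A from y.1).asIdeal) :
    y ∈ ((divisorIdeal U t).support : Set (↑U : Scheme.{u})) := by
  rw [divisorIdeal, Scheme.IdealSheafData.support_comap]
  refine (Spec.map (CommRingCat.ofHom (Ideal.Quotient.mk (Ideal.span {t})))).range_subset_ker_support ?_
  show (show PrimeSpectrum A from y.1) ∈ Set.range (PrimeSpectrum.comap (Ideal.Quotient.mk (Ideal.span {t})))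
  rw [range_comap_of_surjective _ _ Ideal.Quotient.mk_surjective, Ideal.mk_ker,
    PrimeSpectrum.mem_zeroLocus]
  exact Ideal.span_le.2 (Set.singleton_subset_iff.2 ht)

omit U
variable [IsLocalRing A]

/-- Below the closed point there are no intermediate primes when only the closed point meets `t`. -/
theorem eq_or_eq_of_meet (p q : PrimeSpectrum A) (hpq : p ≤ q) (t : A) (ht : t ∈ IsLocalRing.maximalIdeal A)
    (hmin : ∀ r : PrimeSpectrum A, p ≤ r → t ∈ r.asIdeal → r = IsLocalRing.closedPoint A) :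
    q = p ∨ q = IsLocalRing.closedPoint A := by
  by_contra hc
  rw [not_or] at hc
  obtain ⟨hqp, hqm⟩ := hc
  let f := Ideal.Quotient.mk p.asIdeal
  have hf : Function.Surjective f := Ideal.Quotient.mk_surjective
  have hker : RingHom.ker f = p.asIdeal := Ideal.mk_ker
  have key : ∀ r : PrimeSpectrum A, p ≤ r → (r.asIdeal.map f).comap f = r.asIdeal := fun r hr => by
    rw [Ideal.comap_map_of_surjective f hf, ← RingHom.ker_eq_comap_bot, hker]
    exact sup_eq_left.2 hr
  have hpm : p ≤ IsLocalRing.closedPoint A := IsLocalRing.le_maximalIdeal p.isPrime.ne_top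
  haveI hQ : (q.asIdeal.map f).IsPrime := Ideal.map_isPrime_of_surjective hf (hker.le.trans hpq)
  haveI hM : ((IsLocalRing.maximalIdeal A).map f).IsPrime := Ideal.map_isPrime_of_surjective hf (hker.le.trans hpm)
  have h1 : (⊥ : Ideal (A ⧸ p.asIdeal)) < q.asIdeal.map f := by
    refine bot_lt_iff_ne_bot.2 fun e => hqp (PrimeSpectrum.ext ?_)
    rw [← key q hpq, e, ← RingHom.ker_eq_comap_bot, hker]
  have h2 : q.asIdeal.map f < (IsLocalRing.maximalIdeal A).map f := by
    refine lt_of_le_of_ne (Ideal.map_mono (IsLocalRing.le_maximalIdeal q.isPrime.ne_top)) fun e => hqm (PrimeSpectrum.ext ?_)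
    have := congrArg (Ideal.comap f) e
    rw [key q hpq] at this
    have hk := key (IsLocalRing.closedPoint A) hpm
    exact this.trans hk
  have h3 : (IsLocalRing.maximalIdeal A).map f ∈ (Ideal.span {f t}).minimalPrimes := by
    refine ⟨⟨hM, Ideal.span_le.2 (Set.singleton_subset_iff.2 (Ideal.mem_map_of_mem f ht))⟩, fun J hJ hJM => ?_⟩
    haveI := hJ.1
    have hr := hmin ⟨J.comap f, inferInstance⟩ (show p.asIdeal ≤ J.comap f from hker.symm.le.trans (Ideal.comap_mono bot_le))
      (hJ.2 (Ideal.mem_span_singleton_self _))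
    have hr' : J.comap f = IsLocalRing.maximalIdeal A := congrArg PrimeSpectrum.asIdeal hr
    rw [← hr', Ideal.map_comap_of_surjective f hf]
  haveI : Submodule.IsPrincipal (Ideal.span {f t}) := ⟨⟨f t, rfl⟩⟩
  have h4 := Ideal.height_le_one_of_isPrincipal_of_mem_minimalPrimes _ _ h3
  have h5 := Ideal.height_add_one_le_of_lt_of_isPrime h2
  have h6 := Ideal.height_add_one_le_of_lt_of_isPrime h1
  have : (2 : ℕ∞) ≤ 1 := by
    calc (2 : ℕ∞) = 0 + 1 + 1 := by norm_num
      _ ≤ (⊥ : Ideal (A ⧸ p.asIdeal)).height + 1 + 1 := by gcongr; exact zero_le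
      _ ≤ (q.asIdeal.map f).height + 1 := by gcongr
      _ ≤ _ := h5.trans h4
  exact absurd this (by decide)

omit [IsNoetherianRing A] in
theorem ringKrullDim_quotient_eq_one (p : PrimeSpectrum A) (hp : p ≠ IsLocalRing.closedPoint A)
    (h : ∀ q : PrimeSpectrum A, p ≤ q → q = p ∨ q = IsLocalRing.closedPoint A) : ringKrullDim (A ⧸ p.asIdeal) = 1 := by
  rw [ringKrullDim_quotient]
  have hpm : p ≤ IsLocalRing.closedPoint A := IsLocalRing.le_maximalIdeal p.isPrime.ne_top
  refine le_antisymm (Order.krullDim_le_one_iff.2 fun x => ?_) (Order.one_le_krullDim_iff.2 ?_)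
  · rcases h x.1 x.2 with e | e
    · refine Or.inl fun y _ => ?_
      show x.1 ≤ y.1
      rw [e]
      exact y.2
    · refine Or.inr fun y _ => ?_
      show y.1 ≤ x.1
      rw [e]
      exact IsLocalRing.le_maximalIdeal y.1.isPrime.ne_top
  · exact ⟨⟨p, show p.asIdeal ≤ p.asIdeal from le_rfl⟩, ⟨_, hpm⟩, lt_of_le_of_ne hpm fun e => hp (congrArg Subtype.val e)⟩

variable {R : Type u} [CommRing R] [IsRegularRing R] (π : R →+* A) (hπ : Function.Surjective π)

include hπ in
theorem lefCond_punctured (t : A) (ht : t ∈ IsLocalRing.maximalIdeal A) (hreg : IsSMulRegular A t)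
    [IsAdicComplete (Ideal.span {t}) A]
    (hdepth : ∀ p : PrimeSpectrum A, ringKrullDim (A ⧸ p.asIdeal) = 1 →
      (2 : ℕ∞) ≤ LocCoh.depth (Localization.AtPrime p.asIdeal) (Localization.AtPrime p.asIdeal)) :
    Lef.LefCond (↑(FEt.puncturedSpec A) : Scheme.{u}) (divisorIdeal (FEt.puncturedSpec A) t) := by
  intro V hV D hD
  let U := FEt.puncturedSpec A
  have hi := divisorIdeal_ideal U t
  have hne : ∀ x : (↑U : Scheme.{u}), (show PrimeSpectrum A from x.1) ≠ IsLocalRing.closedPoint A := fun x => x.2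
  have hst : ∀ x : (↑U : Scheme.{u}), (∀ q : PrimeSpectrum A, (show PrimeSpectrum A from x.1) ≤ q →
      q = x.1 ∨ q = IsLocalRing.closedPoint A) →
      (2 : ℕ∞) ≤ LocCoh.depth ((↑U : Scheme.{u}).presheaf.stalk x) ((↑U : Scheme.{u}).presheaf.stalk x) := fun x hx => by
    obtain ⟨e⟩ := nonempty_stalk_equiv U x
    refine (hdepth x.1 (ringKrullDim_quotient_eq_one _ (hne x) hx)).trans_eq ?_
    exact Purity.depth_eq_of_ringEquiv e
  have hinj : Mono (Formal.smulMod A (Coh.structureModule (↑U : Scheme.{u})) t) := mono_smulMod_structure U t hreg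
  have h0 := (toHHlim_of_depth π hπ (IsLocalRing.maximalIdeal A) t U (puncturedSpec_eq A)
    (Coh.structureModule (↑U : Scheme.{u})) RefStalk.isCoh_structureModule hinj 1 (fun x hx => by
      refine le_of_le_of_eq (hst x fun q hq => ?_) (DepthExtend.depth_structureModule x).symm
      rcases eq_or_ne q (IsLocalRing.closedPoint A) with e | e
      · exact Or.inr e
      · left
        have hcl := (isClosed_singleton_of_relCodim x hx).closure_eq
        have hs : x ⤳ (⟨q, e⟩ : (↑U : Scheme.{u})) :=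
          (Topology.IsInducing.subtypeVal.specializes_iff).1 ((PrimeSpectrum.le_iff_specializes _ _).1 hq)
        have hm := specializes_iff_mem_closure.1 hs
        rw [hcl, Set.mem_singleton_iff] at hm
        exact congrArg Subtype.val hm) 0).1 zero_lt_one
  have hD' : Coh.IsCoh D := ⟨LocFree.isQCoh_of_isFinLocFree hD, LocFree.isFT_of_isFinLocFree hD⟩
  haveI := hD'.1
  haveI : ((Scheme.Modules.pushforward V.ι).obj D).IsQuasicoherent := QC.isQCoh_pushforward V.ι
  let u : D ≅ ((Scheme.Modules.pushforward V.ι).obj D).restrict V.ι :=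
    (asIso ((Scheme.Modules.restrictAdjunction V.ι).counit.app D)).symm
  obtain ⟨D', i', e, -, hq, hft, -⟩ := QC.exists_ft_extension
    (fun x => ⟨⊤, trivial, by
      haveI : NoetherianSpace ↥(Spec (CommRingCat.of A)) := inferInstanceAs (NoetherianSpace (PrimeSpectrum A))
      haveI : NoetherianSpace ↥(↑U : Scheme.{u}) := U.ι.isOpenEmbedding.isInducing.noetherianSpace
      infer_instance⟩) V D u.hom hD'.2
  refine LefDiv.homToFormal_of_iso e (LefDiv.homToFormal_restrict V hV (fun x hx => hst x fun q hq => ?_)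
    (homToFormal_coh U (homToFormal_structure hi h0) ⟨hq, hft⟩))
  refine eq_or_eq_of_meet _ q hq t ht fun r hr htr => ?_
  by_contra hrm
  let y : (↑U : Scheme.{u}) := ⟨r, hrm⟩
  have hy : y ∈ ((divisorIdeal U t).support : Set (↑U : Scheme.{u})) := mem_support_divisorIdeal U t y htr
  have hs : x ⤳ y := (Topology.IsInducing.subtypeVal.specializes_iff).1 ((PrimeSpectrum.le_iff_specializes _ _).1 hr)
  exact hx (hs.mem_open V.2 (hV hy))
end

end Groth.Agent.FormAlg
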