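import Groth.Agent.FormAlg.LefPic
import Groth.Agent.ThickPic.UnitsKer
import Groth.Agent.W7Cube.Pic
import Groth.Agent.PicBdd.InvLocus
import Groth.Prelude.Def_LefX

/-!
Picard groups of neighbourhoods and of thickenings under the effective Lefschetz condition.
-/

set_option autoImplicit false
set_option maxHeartbeats 1000000
set_option linter.style.haveILetI false
set_option backward.isDefEq.respectTransparency false
set_option backward.isDefEq.respectTransparency.types false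
universe u

namespace Groth.Agent.FormAlg.LefPic

open CategoryTheory CategoryTheory.Limits AlgebraicGeometry TopologicalSpace Opposite
open scoped TensorProduct
open PicGrp

noncomputable section

attribute [local instance] W7Cube.law

variable {X : Scheme.{u}} (𝓘 : X.IdealSheafData)

local notation "Y_" => fun (k : ℕ) => Scheme.IdealSheafData.subscheme (𝓘 ^ (k + 1))

theorem isClosedImmersion_inclusion (k : ℕ) :
    IsClosedImmersion (Scheme.IdealSheafData.inclusion (Lef.pow_succ_le 𝓘 k)) := by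
  haveI : IsClosedImmersion (Scheme.IdealSheafData.inclusion (Lef.pow_succ_le 𝓘 k) ≫ (𝓘 ^ (k + 2)).subschemeι) := by
    rw [Scheme.IdealSheafData.inclusion_subschemeι]; infer_instance
  exact IsClosedImmersion.of_comp _ (𝓘 ^ (k + 2)).subschemeι

theorem isHomeomorph_inclusion (k : ℕ) :
    IsHomeomorph (Scheme.IdealSheafData.inclusion (Lef.pow_succ_le 𝓘 k)).base := by
  let t := Scheme.IdealSheafData.inclusion (Lef.pow_succ_le 𝓘 k)
  haveI := isClosedImmersion_inclusion 𝓘 k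
  refine isHomeomorph_iff_isEmbedding_surjective.2 ⟨t.isClosedEmbedding.isEmbedding, fun y => ?_⟩
  have hy : (𝓘 ^ (k + 2)).subschemeι.base y ∈ Set.range (𝓘 ^ (k + 1)).subschemeι.base := by
    have h : (𝓘 ^ (k + 2)).subschemeι.base y ∈ Set.range (𝓘 ^ (k + 2)).subschemeι.base := ⟨y, rfl⟩
    rw [Scheme.IdealSheafData.range_subschemeι, Scheme.IdealSheafData.support_pow _ _ (Nat.succ_ne_zero _)] at h ⊢
    exact h
  obtain ⟨z, hz⟩ := hy
  refine ⟨z, (𝓘 ^ (k + 2)).subschemeι.isClosedEmbedding.injective ?_⟩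
  exact (congrArg (fun φ => φ.base z) (Scheme.IdealSheafData.inclusion_subschemeι (Lef.pow_succ_le 𝓘 k))).trans hz

/-- Invertible modules lift one level up when the second cohomology of the kernel vanishes. -/
theorem exists_lift_succ (k : ℕ) (h : Subsingleton (Coh.HH X (kernel (Lef.quotMap (Lef.pow_succ_le 𝓘 k))) 2))
    (N : (Y_ k).Modules) (hN : PicF.IsInvertible N) :
    ∃ M : (Y_ (k + 1)).Modules, PicF.IsInvertible M ∧
      Nonempty ((Scheme.Modules.pullback (Scheme.IdealSheafData.inclusion (Lef.pow_succ_le 𝓘 k))).obj M ≅ N) := by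
  let t := Scheme.IdealSheafData.inclusion (Lef.pow_succ_le 𝓘 k)
  haveI := isClosedImmersion_inclusion 𝓘 k
  have hI := ker_inclusion_mul 𝓘 k
  have hs : inv t.toImage ≫ t = t.ker.subschemeι := by rw [IsIso.inv_comp_eq]; exact t.toImage_imageι.symm
  have hz : ∀ {W : (Y_ (k + 1)).Opens} {a : Γ(Y_ (k + 1), W)}, t.app W a = 0 → t.ker.subschemeι.app W a = 0 :=
    fun {W a} ha => by
      rw [← hs]
      show (inv t.toImage).app _ (t.app W a) = 0
      rw [ha, map_zero]
  have hsq : ∀ (W : (Y_ (k + 1)).Opens), IsAffineOpen W → ∀ a b : Γ(Y_ (k + 1), W),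
      t.app W a = 0 → t.app W b = 0 → a * b = 0 :=
    fun W _ a b ha hb => ThickPic.mul_eq_zero_of_app hI (hz ha) (hz hb)
  have h2 := ExpSeq.SquareKer.subsingleton_units t (isHomeomorph_inclusion 𝓘 k) hsq 2
    (subsingleton_kernel_inclusion _ 2 h)
  obtain ⟨c, hc⟩ := ThickPic.pullHom_surjective t (isHomeomorph_inclusion 𝓘 k)
    (fun W hW z hz' => ⟨2, by rw [pow_two]; exact hsq W hW z z hz' hz'⟩) (W7Cube.pullMul t) h2 (cls N hN)
  obtain ⟨M, hM, rfl⟩ := exists_eq_cls c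
  refine ⟨M, hM, (cls_eq_cls_iff (PicLoc.isInvertible_pullback _ hM) hN).1 ?_⟩
  rw [← pullHom_cls]
  exact hc

/-- Levels pulled back to smaller levels. -/
def down {a b : ℕ} (h : a ≤ b) (M : (Y_ b).Modules) : (Y_ a).Modules :=
  (Scheme.Modules.pullback (Scheme.IdealSheafData.inclusion (LefDiv.pow_le_pow (𝓙 := 𝓘) h))).obj M

/-- Composition of the inclusions of levels. -/
theorem inclusion_comp {a b c : ℕ} (h : a ≤ b) (h' : b ≤ c) :
    Scheme.IdealSheafData.inclusion (LefDiv.pow_le_pow (𝓙 := 𝓘) h) ≫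
        Scheme.IdealSheafData.inclusion (LefDiv.pow_le_pow (𝓙 := 𝓘) h') =
      Scheme.IdealSheafData.inclusion (LefDiv.pow_le_pow (𝓙 := 𝓘) (h.trans h')) := by
  rw [← cancel_mono (𝓘 ^ (c + 1)).subschemeι, Category.assoc, Scheme.IdealSheafData.inclusion_subschemeι,
    Scheme.IdealSheafData.inclusion_subschemeι, Scheme.IdealSheafData.inclusion_subschemeι]

/-- An invertible module on a level extends to a system of invertible modules. -/
theorem exists_modSys (p : ℕ) (h : ∀ k, p ≤ k → Subsingleton (Coh.HH X (kernel (Lef.quotMap (Lef.pow_succ_le 𝓘 k))) 2))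
    {n : ℕ} (hn : p ≤ n) (N : (Y_ n).Modules) (hN : PicF.IsInvertible N) :
    ∃ 𝔐 : FSch.ModSys (FSch.completionAlong X 𝓘), (∀ m, PicF.IsInvertible (𝔐.F m)) ∧ Nonempty (𝔐.F n ≅ N) := by
  have hs : ∀ (i : ℕ) (M : (Y_ (n + i)).Modules), PicF.IsInvertible M →
      ∃ M' : (Y_ (n + (i + 1))).Modules, PicF.IsInvertible M' ∧
        Nonempty (down 𝓘 (show n + i ≤ n + (i + 1) by omega) M' ≅ M) := fun i M hM => by
    obtain ⟨M', hM', e⟩ := exists_lift_succ 𝓘 (n + i) (h (n + i) (by omega)) M hM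
    exact ⟨M', hM', e⟩
  choose G hG₁ hG₂ using hs
  let M : (i : ℕ) → {M : (Y_ (n + i)).Modules // PicF.IsInvertible M} :=
    fun i => Nat.rec ⟨N, hN⟩ (fun i q => ⟨G i q.1 q.2, hG₁ i q.1 q.2⟩) i
  have hM : ∀ i, Nonempty (down 𝓘 (show n + i ≤ n + (i + 1) by omega) (M (i + 1)).1 ≅ (M i).1) :=
    fun i => hG₂ i _ _
  have hdown : ∀ (a i : ℕ) (ha : a ≤ n + i),
      Nonempty (down 𝓘 (show a ≤ n + (i + 1) by omega) (M (i + 1)).1 ≅ down 𝓘 ha (M i).1) := fun a i ha => by
    obtain ⟨e⟩ := hM i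
    exact ⟨(Scheme.Modules.pullbackCongr (inclusion_comp 𝓘 ha (show n + i ≤ n + (i + 1) by omega)).symm).app _ ≪≫
      ((Scheme.Modules.pullbackComp _ _).app _).symm ≪≫ (Scheme.Modules.pullback _).mapIso e⟩
  let E : ∀ m, (Scheme.Modules.pullback ((FSch.completionAlong X 𝓘).ι m)).obj
      (down 𝓘 (show m + 1 ≤ n + (m + 1) by omega) (M (m + 1)).1) ≅ down 𝓘 (show m ≤ n + m by omega) (M m).1 := fun m =>
    (Scheme.Modules.pullbackComp _ _).app _ ≪≫
      (Scheme.Modules.pullbackCongr (inclusion_comp 𝓘 (show m ≤ m + 1 by omega) (show m + 1 ≤ n + (m + 1) by omega))).app _ ≪≫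
      (hdown m m (by omega)).some
  refine ⟨⟨fun m => down 𝓘 (show m ≤ n + m by omega) (M m).1, E⟩,
    fun m => PicLoc.isInvertible_pullback _ (M m).2, ?_⟩
  have hind : ∀ i, Nonempty (down 𝓘 (show n ≤ n + i by omega) (M i).1 ≅ N) := fun i => by
    induction i with
    | zero =>
      refine ⟨(Scheme.Modules.pullbackCongr (show Scheme.IdealSheafData.inclusion (LefDiv.pow_le_pow (𝓙 := 𝓘)
          (show n ≤ n + 0 by omega)) = 𝟙 _ from ?_)).app _ ≪≫ (Scheme.Modules.pullbackId _).app _⟩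
      rw [← cancel_mono (𝓘 ^ (n + 1)).subschemeι, Category.id_comp]
      exact Scheme.IdealSheafData.inclusion_subschemeι _
    | succ i ih => exact ⟨(hdown n i (by omega)).some ≪≫ ih.some⟩
  exact hind n

/-- A finite locally free module with invertible pullback along a closed immersion has rank one there. -/
theorem free1_of_finLocFree {P Q : Scheme.{u}} [IsLocallyNoetherian P] (g : Q ⟶ P) {E : P.Modules} (hE : FlatMod.IsFinLocFree E)
    (h : PicF.IsInvertible ((Scheme.Modules.pullback g).obj E)) (z : Q) : PicBdd.Free1 E (g.base z) := by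
  classical
  haveI := LocFree.free_stalk_of_isFinLocFree hE (g.base z)
  haveI : Module.Finite (P.presheaf.stalk (g.base z)) (E.presheaf.stalk (g.base z)) :=
    RegDual.finite_stalk ⟨LocFree.isQCoh_of_isFinLocFree hE, LocFree.isFT_of_isFinLocFree hE⟩ _
  obtain ⟨e⟩ := PicBdd.free1_of_isInvertible h z
  letI : Algebra (P.presheaf.stalk (g.base z)) (Q.presheaf.stalk z) := (g.stalkMap z).hom.toAlgebra
  let e1 : Q.presheaf.stalk z ⊗[P.presheaf.stalk (g.base z)] E.presheaf.stalk (g.base z) ≃ₗ[Q.presheaf.stalk z]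
      Q.presheaf.stalk z := ((KFlat.pullStalkIso g z).app E).toLinearEquiv.symm ≪≫ₗ e
  let b := Module.Free.chooseBasis (P.presheaf.stalk (g.base z)) (E.presheaf.stalk (g.base z))
  have hcard : Fintype.card (Module.Free.ChooseBasisIndex (P.presheaf.stalk (g.base z)) (E.presheaf.stalk (g.base z))) = 1 := by
    rw [← Module.finrank_eq_card_basis (b.baseChange (Q.presheaf.stalk z)), e1.finrank_eq, Module.finrank_self]
  haveI : Unique (Module.Free.ChooseBasisIndex (P.presheaf.stalk (g.base z)) (E.presheaf.stalk (g.base z))) :=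
    (Fintype.equivFinOfCardEq hcard).unique
  exact ⟨b.repr ≪≫ₗ Finsupp.LinearEquiv.finsuppUnique _ _ _⟩

/-- Invertible modules on a thickening come from neighbourhoods. -/
theorem exists_nhd_lift [IsLocallyNoetherian X] (p : ℕ) (h1 : LefX.LeffCond X 𝓘)
    (h2 : ∀ k, p ≤ k → Subsingleton (Coh.HH X (kernel (Lef.quotMap (Lef.pow_succ_le 𝓘 k))) 2))
    {n : ℕ} (hn : p ≤ n) (N : (Y_ n).Modules) (hN : PicF.IsInvertible N) :
    ∃ (U : X.Opens) (L : (U : Scheme.{u}).Modules) (g : (Y_ n) ⟶ U), (𝓘.support : Set X) ⊆ (U : Set X) ∧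
      g ≫ U.ι = (𝓘 ^ (n + 1)).subschemeι ∧ PicF.IsInvertible L ∧ Nonempty ((Scheme.Modules.pullback g).obj L ≅ N) := by
  obtain ⟨𝔐, h𝔐, ⟨eN⟩⟩ := exists_modSys 𝓘 p h2 hn N hN
  obtain ⟨U, E, hU, hE, ⟨eC⟩⟩ := h1.2 𝔐 fun m => ResDesc.isFinLocFree_of_isInvertible (h𝔐 m)
  let P := (Scheme.Modules.pushforward U.ι).obj E
  let eL : ∀ m, (Scheme.Modules.pullback (𝓘 ^ (m + 1)).subschemeι).obj P ≅ 𝔐.F m := fun m =>
    ⟨eC.hom.app m, eC.inv.app m, congrArg (fun φ => φ.app m) eC.hom_inv_id,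
      congrArg (fun φ => φ.app m) eC.inv_hom_id⟩
  have hs : ∀ m : ℕ, Set.range (𝓘 ^ (m + 1)).subschemeι.base = (𝓘.support : Set X) := fun m => by
    rw [Scheme.IdealSheafData.range_subschemeι, Scheme.IdealSheafData.support_pow _ _ (Nat.succ_ne_zero _)]
  let i : ∀ m : ℕ, (Y_ m) ⟶ (U : Scheme.{u}) := fun m =>
    IsOpenImmersion.lift U.ι (𝓘 ^ (m + 1)).subschemeι (by rw [hs, Scheme.Opens.range_ι]; exact hU)
  have hi : ∀ m, i m ≫ U.ι = (𝓘 ^ (m + 1)).subschemeι := fun m => IsOpenImmersion.lift_fac _ _ _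
  let eE : ∀ m, (Scheme.Modules.pullback (i m)).obj E ≅ 𝔐.F m := fun m =>
    (Scheme.Modules.pullback (i m)).mapIso (((Scheme.Modules.restrictFunctorAdjCounitIso U.ι).app E).symm ≪≫
      (Scheme.Modules.restrictFunctorIsoPullback U.ι).app P) ≪≫
    (Scheme.Modules.pullbackComp (i m) U.ι).app P ≪≫ (Scheme.Modules.pullbackCongr (hi m)).app P ≪≫ eL m
  have hcoh : Coh.IsCoh E := ⟨LocFree.isQCoh_of_isFinLocFree hE, LocFree.isFT_of_isFinLocFree hE⟩
  let V₀ : (U : Scheme.{u}).Opens := ⟨{x | PicBdd.Free1 E x}, PicBdd.isOpen_free1 hcoh⟩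
  let V : X.Opens := U.ι ''ᵁ V₀
  have hVU : V ≤ U := fun x hx => by obtain ⟨y, -, rfl⟩ := hx; exact y.2
  have hV : (𝓘.support : Set X) ⊆ (V : Set X) := fun x hx => by
    obtain ⟨z, rfl⟩ := (hs 0).ge hx
    refine ⟨(i 0).base z, ?_, congrArg (fun φ => φ.base z) (hi 0)⟩
    exact free1_of_finLocFree (i 0) hE (ParaFLib.isInvertible_of_iso (eE 0).symm (h𝔐 0)) z
  let j := X.homOfLE hVU
  have hj : ∀ y, PicBdd.Free1 E (j.base y) := fun y => by
    obtain ⟨y', hy', e⟩ := y.2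
    have : y' = j.base y := Subtype.ext (e.trans (Scheme.homOfLE_apply hVU y).symm)
    exact this ▸ hy'
  let g : (Y_ n) ⟶ (V : Scheme.{u}) :=
    IsOpenImmersion.lift V.ι (𝓘 ^ (n + 1)).subschemeι (by rw [hs, Scheme.Opens.range_ι]; exact hV)
  have hg : g ≫ V.ι = (𝓘 ^ (n + 1)).subschemeι := IsOpenImmersion.lift_fac _ _ _
  have hgj : g ≫ j = i n := by
    rw [← cancel_mono U.ι, Category.assoc, Scheme.homOfLE_ι, hg, hi]
  exact ⟨V, (Scheme.Modules.pullback j).obj E, g, hV, hg, PicBdd.isInvertible_pullback_of_free1 j hcoh hj,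
    ⟨(Scheme.Modules.pullbackComp g j).app E ≪≫ (Scheme.Modules.pullbackCongr hgj).app E ≪≫ eE n ≪≫ eN⟩⟩

/-- An invertible module on a neighbourhood trivial on a thickening is trivial. -/
theorem nonempty_trivial_nhd (p : ℕ) (h : Lef.LefCond X 𝓘)
    (hH : ∀ k, p ≤ k → Subsingleton (Coh.HH X (kernel (Lef.quotMap (Lef.pow_succ_le 𝓘 k))) 1))
    {n : ℕ} (hn : p ≤ n) (U : X.Opens) (hU : (𝓘.support : Set X) ⊆ (U : Set X)) (L : (U : Scheme.{u}).Modules)
    (hL : PicF.IsInvertible L) (g : (Y_ n) ⟶ (U : Scheme.{u})) (hg : g ≫ U.ι = (𝓘 ^ (n + 1)).subschemeι)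
    (e : (Scheme.Modules.pullback g).obj L ≅ Coh.structureModule _) : Nonempty (L ≅ Coh.structureModule _) := by
  obtain ⟨q, -, hq⟩ : ∃ q : ((𝓘.comap U.ι) ^ (n + 1)).subscheme ⟶ (Y_ n), IsIso q ∧
      q ≫ (𝓘 ^ (n + 1)).subschemeι = ((𝓘.comap U.ι) ^ (n + 1)).subschemeι ≫ U.ι := by
    rw [← ThickSys.comap_pow]
    exact exists_iso_comap _ U (by rw [Scheme.IdealSheafData.support_pow _ _ (Nat.succ_ne_zero _)]; exact hU)
  have hqg : q ≫ g = ((𝓘.comap U.ι) ^ (n + 1)).subschemeι := by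
    rw [← cancel_mono U.ι, Category.assoc, hg, hq]
  exact nonempty_trivial (fun E hE => h U hU E hE) (fun k hk => subsingleton_kernel_restrict 𝓘 U hU k (hH k hk))
    hn hL ⟨(Scheme.Modules.pullbackCongr hqg.symm).app L ≪≫ ((Scheme.Modules.pullbackComp q g).app L).symm ≪≫
      (Scheme.Modules.pullback q).mapIso e ≪≫ PicLoc.pullbackStructureIso q⟩

end

end Groth.Agent.FormAlg.LefPic
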