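import Groth.Agent.FormAlg.LeffPic
import Groth.Agent.FormAlg.ParafStalk

/-!
Picard groups of the ambient scheme under the effective Lefschetz condition and parafactoriality.
-/

set_option autoImplicit false
set_option maxHeartbeats 1000000
set_option linter.style.haveILetI false
set_option backward.isDefEq.respectTransparency false
set_option backward.isDefEq.respectTransparency.types false
universe u

namespace Groth.Agent.FormAlg.LefPic

open CategoryTheory CategoryTheory.Limits AlgebraicGeometry TopologicalSpace Opposite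

noncomputable section

variable {X : Scheme.{u}} {𝓘 : X.IdealSheafData} {p n : ℕ}

theorem picPullbackSurjective_open [IsLocallyNoetherian X] (U : X.Opens)
    (h : ∀ x : X, x ∉ U → ParaF.IsParafactorialLocalRing (X.presheaf.stalk x)) :
    Formal2.PicPullbackSurjective U.ι := fun L hL =>
  ⟨_, isInvertible_push_of_stalks U h L hL,
    ⟨((Scheme.Modules.restrictFunctorIsoPullback U.ι).app _).symm ≪≫
      (Scheme.Modules.restrictFunctorAdjCounitIso U.ι).app L⟩⟩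

theorem exists_lift_of_le (U : X.Opens) (hU : (𝓘.support : Set X) ⊆ (U : Set X)) (m : ℕ) :
    ∃ g : (𝓘 ^ (m + 1)).subscheme ⟶ (U : Scheme.{u}), g ≫ U.ι = (𝓘 ^ (m + 1)).subschemeι :=
  ⟨IsOpenImmersion.lift U.ι (𝓘 ^ (m + 1)).subschemeι (by
    rw [Scheme.IdealSheafData.range_subschemeι, Scheme.IdealSheafData.support_pow _ _ (Nat.succ_ne_zero _),
      Scheme.Opens.range_ι]
    exact hU), IsOpenImmersion.lift_fac _ _ _⟩

theorem picPullbackInjective_thickening (h : Lef.LefCond X 𝓘)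
    (hH : ∀ k, p ≤ k → Subsingleton (Coh.HH X (kernel (Lef.quotMap (Lef.pow_succ_le 𝓘 k))) 1)) (hn : p ≤ n) :
    Formal2.PicPullbackInjective (𝓘 ^ (n + 1)).subschemeι := by
  rintro L hL ⟨e⟩
  obtain ⟨g, hg⟩ := exists_lift_of_le (𝓘 := 𝓘) ⊤ (fun x _ => trivial) n
  obtain ⟨t⟩ := nonempty_trivial_nhd 𝓘 p h hH hn ⊤ (fun x _ => trivial)
    ((Scheme.Modules.pullback (Scheme.Opens.ι (⊤ : X.Opens))).obj L) (PicLoc.isInvertible_pullback _ hL) g hg
    ((Scheme.Modules.pullbackComp g _).app L ≪≫ (Scheme.Modules.pullbackCongr hg).app L ≪≫ e)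
  exact ⟨((Scheme.Modules.pullbackId X).app L).symm ≪≫
    (Scheme.Modules.pullbackCongr X.topIso.inv_hom_id.symm).app L ≪≫
    ((Scheme.Modules.pullbackComp X.topIso.inv X.topIso.hom).app L).symm ≪≫
    (Scheme.Modules.pullback X.topIso.inv).mapIso t ≪≫ PicLoc.pullbackStructureIso _⟩

theorem picPullbackInjective_open (h : Lef.LefCond X 𝓘)
    (hH : ∀ k, p ≤ k → Subsingleton (Coh.HH X (kernel (Lef.quotMap (Lef.pow_succ_le 𝓘 k))) 1))
    (U : X.Opens) (hU : (𝓘.support : Set X) ⊆ (U : Set X)) : Formal2.PicPullbackInjective U.ι := by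
  rintro L hL ⟨e⟩
  obtain ⟨g, hg⟩ := exists_lift_of_le U hU p
  exact picPullbackInjective_thickening h hH le_rfl L hL
    ⟨(Scheme.Modules.pullbackCongr hg.symm).app L ≪≫ ((Scheme.Modules.pullbackComp g U.ι).app L).symm ≪≫
      (Scheme.Modules.pullback g).mapIso e ≪≫ PicLoc.pullbackStructureIso g⟩

theorem picPullbackSurjective_thickening [IsLocallyNoetherian X] (h1 : LefX.LeffCond X 𝓘)
    (h2 : ∀ k, p ≤ k → Subsingleton (Coh.HH X (kernel (Lef.quotMap (Lef.pow_succ_le 𝓘 k))) 2))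
    (h3 : ∀ U : X.Opens, (𝓘.support : Set X) ⊆ (U : Set X) → ∀ x : X, x ∉ U →
      ParaF.IsParafactorialLocalRing (X.presheaf.stalk x)) (hn : p ≤ n) :
    Formal2.PicPullbackSurjective (𝓘 ^ (n + 1)).subschemeι := fun N hN => by
  obtain ⟨U, L, g, hU, hg, hL, ⟨e⟩⟩ := exists_nhd_lift 𝓘 p h1 h2 hn N hN
  obtain ⟨M, hM, ⟨eM⟩⟩ := picPullbackSurjective_open U (h3 U hU) L hL
  exact ⟨M, hM, ⟨(Scheme.Modules.pullbackCongr hg.symm).app M ≪≫ ((Scheme.Modules.pullbackComp g U.ι).app M).symm ≪≫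
    (Scheme.Modules.pullback g).mapIso eM ≪≫ e⟩⟩

theorem picPullbackBijective_thickening_open [IsLocallyNoetherian X] (h1 : LefX.LeffCond X 𝓘)
    (h2 : ∀ k, p ≤ k → ∀ i : ℕ, (i = 1 ∨ i = 2) → Subsingleton (Coh.HH X (kernel (Lef.quotMap (Lef.pow_succ_le 𝓘 k))) i))
    (h3 : ∀ U : X.Opens, (𝓘.support : Set X) ⊆ (U : Set X) → ∀ x : X, x ∉ U →
      ParaF.IsParafactorialLocalRing (X.presheaf.stalk x)) (U : X.Opens) (hU : (𝓘.support : Set X) ⊆ (U : Set X))
    (hn : p ≤ n) :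
    Formal2.PicPullbackInjective ((𝓘.comap U.ι) ^ (n + 1)).subschemeι ∧
      Formal2.PicPullbackSurjective ((𝓘.comap U.ι) ^ (n + 1)).subschemeι := by
  obtain ⟨q, hq', hq⟩ : ∃ q : ((𝓘.comap U.ι) ^ (n + 1)).subscheme ⟶ (𝓘 ^ (n + 1)).subscheme, IsIso q ∧
      q ≫ (𝓘 ^ (n + 1)).subschemeι = ((𝓘.comap U.ι) ^ (n + 1)).subschemeι ≫ U.ι := by
    rw [← ThickSys.comap_pow]
    exact exists_iso_comap _ U (by rw [Scheme.IdealSheafData.support_pow _ _ (Nat.succ_ne_zero _)]; exact hU)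
  haveI := hq'
  let i' := ((𝓘.comap U.ι) ^ (n + 1)).subschemeι
  refine ⟨fun L hL ⟨e⟩ => nonempty_trivial_nhd 𝓘 p h1.1 (fun k hk => h2 k hk 1 (Or.inl rfl)) hn U hU L hL
    (inv q ≫ i') (by rw [Category.assoc, ← hq, IsIso.inv_hom_id_assoc])
    (((Scheme.Modules.pullbackComp (inv q) i').app L).symm ≪≫ (Scheme.Modules.pullback (inv q)).mapIso e ≪≫
      PicLoc.pullbackStructureIso _), fun N hN => ?_⟩
  obtain ⟨M, hM, ⟨e⟩⟩ := picPullbackSurjective_thickening h1 (fun k hk => h2 k hk 2 (Or.inr rfl)) h3 hn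
    ((Scheme.Modules.pullback (inv q)).obj N) (PicLoc.isInvertible_pullback _ hN)
  exact ⟨_, PicLoc.isInvertible_pullback U.ι hM, ⟨(Scheme.Modules.pullbackComp i' U.ι).app M ≪≫
    (Scheme.Modules.pullbackCongr hq.symm).app M ≪≫ ((Scheme.Modules.pullbackComp q _).app M).symm ≪≫
    (Scheme.Modules.pullback q).mapIso e ≪≫ (Scheme.Modules.pullbackComp q (inv q)).app N ≪≫
    (Scheme.Modules.pullbackCongr (IsIso.hom_inv_id q)).app N ≪≫ (Scheme.Modules.pullbackId _).app N⟩⟩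

end

end Groth.Agent.FormAlg.LefPic
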