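import Groth.Agent.FormAlg.Sect

/-!
Finiteness of the sections over a punctured spectrum from finiteness of `H^1_𝔞`.
-/

set_option autoImplicit false
set_option maxHeartbeats 1000000
set_option linter.style.haveILetI false
set_option backward.isDefEq.respectTransparency false
set_option backward.isDefEq.respectTransparency.types false
universe u

namespace Groth.Agent.FormAlg

open CategoryTheory CategoryTheory.Limits AlgebraicGeometry TopologicalSpace Opposite
open Groth.Agent.LocH (Sec secOf injSES injSES_shortExact)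
open Groth.Agent.PunctArt (mapS)

noncomputable section

variable {A : Type u} [CommRing A] [IsNoetherianRing A] (𝔞 : Ideal A)

local notation "U𝔞" => EGA4.openCompl A 𝔞

theorem cls_zero (X : ModuleCat.{u} A) : Cls 𝔞 (0 : Sec A X U𝔞) (0 : ↑((localCohomology 𝔞 1).obj X)) := by
  have h0 : (injSES X).g (0 : (injSES X).X₂) = 0 := map_zero (injSES X).g.hom
  refine ⟨0, h0.symm ▸ zero_mem _, by rw [map_zero, map_zero], ?_⟩
  rw [show (⟨(injSES X).g (0 : (injSES X).X₂), h0.symm ▸ zero_mem _⟩ : DRing.torsionSub 𝔞 (injSES X).X₃) = 0 from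
    Subtype.ext h0]
  exact ((map_zero _).symm.trans (congrArg _ (map_zero _).symm))

variable {𝔞} in
theorem Cls.smul {X : ModuleCat.{u} A} {s : Sec A X U𝔞} {w : ↑((localCohomology 𝔞 1).obj X)} (h : Cls 𝔞 s w) (r : A) :
    Cls 𝔞 (r • s) (r • w) := by
  obtain ⟨e, he, hs, rfl⟩ := h
  have hc : (injSES X).g (r • e) = r • (injSES X).g e := map_smul (injSES X).g.hom r e
  refine ⟨r • e, hc ▸ Submodule.smul_mem _ r he, by rw [map_smul, map_smul, hs], ?_⟩
  refine (map_smul _ r _).symm.trans (congrArg _ ?_)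
  exact (map_smul _ r _).symm.trans (congrArg _ (Subtype.ext hc.symm))

/-- The graph of `Γ(U, X~) → H^1_𝔞(X)`. -/
def clsSub (X : ModuleCat.{u} A) : Submodule A (Sec A X U𝔞 × ↑((localCohomology 𝔞 1).obj X)) where
  carrier := {p | Cls 𝔞 p.1 p.2}
  zero_mem' := cls_zero 𝔞 X
  add_mem' {a b} ha hb := by
    have h := ha.sub ((cls_zero 𝔞 X).sub hb)
    simpa using h
  smul_mem' r a ha := ha.smul r

theorem finite_of_graph {B S H : Type u} [CommRing B] [IsNoetherianRing B] [AddCommGroup S] [Module B S]
    [AddCommGroup H] [Module B H] [Module.Finite B H] (R₀ : Submodule B S) [Module.Finite B R₀]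
    (G : Submodule B (S × H)) (h1 : ∀ s, ∃ w, (s, w) ∈ G) (h2 : ∀ s, (s, (0 : H)) ∈ G → s ∈ R₀) :
    Module.Finite B S := by
  haveI : IsNoetherian B R₀ := isNoetherian_of_isNoetherianRing_of_finite B R₀
  haveI : IsNoetherian B H := isNoetherian_of_isNoetherianRing_of_finite B H
  let q : G →ₗ[B] H := (LinearMap.snd B S H).comp G.subtype
  let j : LinearMap.ker q →ₗ[B] R₀ :=
    LinearMap.codRestrict _ (((LinearMap.fst B S H).comp G.subtype).comp (LinearMap.ker q).subtype) fun z => by
      refine h2 _ ?_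
      have h : (z.1.1.1, z.1.1.2) ∈ G := z.1.2
      rwa [show z.1.1.2 = 0 from z.2] at h
  have hj : Function.Injective j := fun a b hab =>
    Subtype.ext (Subtype.ext (Prod.ext (congrArg Subtype.val hab)
      ((show a.1.1.2 = 0 from a.2).trans (show b.1.1.2 = 0 from b.2).symm)))
  haveI : IsNoetherian B (LinearMap.ker q) := isNoetherian_of_injective j hj
  haveI : Module.Finite B (LinearMap.ker q) := inferInstance
  haveI : Module.Finite B (LinearMap.range q) := Module.Finite.of_fg (IsNoetherian.noetherian _)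
  haveI : Module.Finite B (G ⧸ LinearMap.ker q) := Module.Finite.equiv q.quotKerEquivRange.symm
  haveI : Module.Finite B G := Module.Finite.of_submodule_quotient (LinearMap.ker q)
  refine Module.Finite.of_surjective ((LinearMap.fst B S H).comp G.subtype) fun s => ?_
  obtain ⟨w, hw⟩ := h1 s
  exact ⟨⟨(s, w), hw⟩, rfl⟩

/-- `Γ(U, M~)` is finite if `M` and `H^1_𝔞(M)` are. -/
theorem finite_sec_of_finite_H (M : Type u) [AddCommGroup M] [Module A M] [Module.Finite A M]
    [Module.Finite A (LocCoh.H 𝔞 1 M)] : Module.Finite A (Sec A M U𝔞) := by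
  haveI : Module.Finite A ↑((localCohomology 𝔞 1).obj (ModuleCat.of A M)) :=
    inferInstanceAs (Module.Finite A (LocCoh.H 𝔞 1 M))
  haveI : Module.Finite A (LinearMap.range (secOf A M U𝔞)) := Module.Finite.range (secOf A M U𝔞)
  exact finite_of_graph (B := A) (S := Sec A M U𝔞) (H := ↑((localCohomology 𝔞 1).obj (ModuleCat.of A M)))
    (LinearMap.range (secOf A M U𝔞)) (clsSub 𝔞 (ModuleCat.of A M))
    (fun s => exists_cls (𝔞 := 𝔞) (X := ModuleCat.of A M) s) fun s hs => Cls.mem_range (𝔞 := 𝔞) (X := ModuleCat.of A M) (s := s)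
      (show Cls 𝔞 (X := ModuleCat.of A M) s 0 from hs)

end

end Groth.Agent.FormAlg
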