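import Groth.Agent.FormAlg.Colim
import Groth.Agent.FormAlg.SecFinite
import Groth.Agent.AdicLim.Noetherian

/-!
The module `lim Γ(U, (M/f^{n+1}M)~)` is finite when `Γ(U, (M/fM)~)` is, and is `M~` near `U ∩ V(f)`.
-/

set_option autoImplicit false
set_option maxHeartbeats 1000000
set_option linter.style.haveILetI false
set_option backward.isDefEq.respectTransparency false
set_option backward.isDefEq.respectTransparency.types false
universe u

namespace Groth.Agent.FormAlg

open CategoryTheory CategoryTheory.Limits AlgebraicGeometry TopologicalSpace Opposite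
open Groth.Agent.LocH (Sec secOf secRes secRes_secOf secRes_secRes sec_ext exists_basicOpen_le)
open Groth.Agent.PunctArt (mapS mapS_secOf mapS_smul)

noncomputable section

variable {A : Type u} [CommRing A] (I : Ideal A) (M : Type u) [AddCommGroup M] [Module A M]
  (U : (Spec (CommRingCat.of A)).Opens)

/-- `lim Γ(U, (M/I^{n+1}M)~)` -/
def limSec : Submodule A (∀ n, Sec A (Formal2.quotPow A I M n) U) where
  carrier := {y | Compat I U y}
  zero_mem' := fun _ => map_zero _
  add_mem' {a b} ha hb := fun n => by rw [Pi.add_apply, map_add, ha n, hb n, Pi.add_apply]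
  smul_mem' r a ha := fun n => by rw [Pi.smul_apply, map_smul, ha n, Pi.smul_apply]

/-- `M → lim Γ(U, (M/I^{n+1}M)~)` -/
def toLim : M →ₗ[A] limSec I M U :=
  LinearMap.codRestrict _ (LinearMap.pi fun n => (secOf A _ U).comp (Formal2.quotPowπ A I M n)) fun m n => by
    refine (mapS_secOf (ModuleCat.ofHom (Formal2.quotPowTrans A I M n)) U _).trans ?_
    rfl

theorem toLim_apply (m : M) (n : ℕ) : (toLim I M U m).1 n = secOf A _ U (Formal2.quotPowπ A I M n m) := rfl

variable {I M U}

variable (f : A)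

/-- Multiplication by `f`, from `M/f^{n+1}M` to `M/f^{n+2}M`. -/
def mulQ (n : ℕ) :
    Formal2.quotPow A (Ideal.span {f}) M n →ₗ[A] Formal2.quotPow A (Ideal.span {f}) M (n + 1) :=
  Submodule.mapQ _ _ (f • LinearMap.id) fun x hx => by
    show f • x ∈ Ideal.span {f} ^ (n + 1 + 1) • (⊤ : Submodule A M)
    rw [pow_succ', Submodule.mul_smul]
    exact Submodule.smul_mem_smul (Ideal.mem_span_singleton_self f) hx

theorem mulQ_mk (n : ℕ) (m : M) :
    mulQ (M := M) f n (Submodule.Quotient.mk m) = Submodule.Quotient.mk (f • m) := rfl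

theorem qt_mk {I : Ideal A} {n m : ℕ} (h : n ≤ m) (x : M) :
    qt I h (Submodule.Quotient.mk x) = (Submodule.Quotient.mk x : Formal2.quotPow A I M n) := rfl

theorem qt_mulQ (n : ℕ) :
    (qt (Ideal.span {f}) (M := M) (Nat.le_succ n)).comp (mulQ f n) = f • LinearMap.id :=
  LinearMap.ext fun x => Submodule.Quotient.induction_on _ x fun m => by
    rw [LinearMap.comp_apply, mulQ_mk, qt_mk]
    rfl

theorem mulQ_qt (n : ℕ) :
    (mulQ (M := M) f n).comp (qt (Ideal.span {f}) (Nat.le_succ n)) =
      (qt (Ideal.span {f}) (Nat.le_succ (n + 1))).comp (mulQ f (n + 1)) :=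
  LinearMap.ext fun x => Submodule.Quotient.induction_on _ x fun m => by
    rw [LinearMap.comp_apply, LinearMap.comp_apply, mulQ_mk, qt_mk, qt_mk, mulQ_mk]

theorem mem_span_pow_smul_top {n : ℕ} {x : M} :
    x ∈ Ideal.span {f} ^ n • (⊤ : Submodule A M) ↔ ∃ m : M, f ^ n • m = x := by
  rw [Ideal.span_singleton_pow, Submodule.ideal_span_singleton_smul, Submodule.mem_smul_pointwise_iff_exists]
  exact ⟨fun ⟨m, _, h⟩ => ⟨m, h⟩, fun ⟨m, h⟩ => ⟨m, trivial, h⟩⟩

variable {f}

theorem mulQ_injective (hreg : IsSMulRegular M f) (n : ℕ) : Function.Injective (mulQ (M := M) f n) :=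
  (injective_iff_map_eq_zero _).2 fun x => Submodule.Quotient.induction_on _ x fun m hm => by
    rw [mulQ_mk, Submodule.Quotient.mk_eq_zero, mem_span_pow_smul_top] at hm
    obtain ⟨m', hm'⟩ := hm
    refine (Submodule.Quotient.mk_eq_zero _).2 ((mem_span_pow_smul_top f).2 ⟨m', hreg ?_⟩)
    show f • f ^ (n + 1) • m' = f • m
    rw [smul_smul, ← pow_succ', hm']

/-- `M/f^{n+1} → M/f^{n+2} → M/f`. -/
def mulSES (f : A) (n : ℕ) : ShortComplex (ModuleCat.{u} A) :=
  ShortComplex.mk (ModuleCat.ofHom (mulQ (M := M) f n))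
    (ModuleCat.ofHom (qt (Ideal.span {f}) (M := M) (Nat.zero_le (n + 1))))
    (ModuleCat.hom_ext (LinearMap.ext fun x => Submodule.Quotient.induction_on _ x fun m => by
      show qt _ (Nat.zero_le (n + 1)) (mulQ f n (Submodule.Quotient.mk m)) = 0
      rw [mulQ_mk, qt_mk, Submodule.Quotient.mk_eq_zero, mem_span_pow_smul_top]
      exact ⟨m, by rw [zero_add, pow_one]⟩))

theorem mulSES_shortExact (hreg : IsSMulRegular M f) (n : ℕ) : (mulSES (M := M) f n).ShortExact :=
  { exact := by
      rw [ShortComplex.moduleCat_exact_iff]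
      intro x hx
      obtain ⟨m, rfl⟩ := Submodule.mkQ_surjective _ x
      obtain ⟨m', hm'⟩ := (mem_span_pow_smul_top f).1
        (show m ∈ Ideal.span {f} ^ (0 + 1) • (⊤ : Submodule A M) from (Submodule.Quotient.mk_eq_zero _).1 hx)
      exact ⟨Submodule.Quotient.mk m', by
        show mulQ f n (Submodule.Quotient.mk m') = Submodule.mkQ _ m
        rw [mulQ_mk, ← hm', zero_add, pow_one]
        rfl⟩
    mono_f := (ModuleCat.mono_iff_injective _).2 (mulQ_injective hreg n)
    epi_g := (ModuleCat.epi_iff_surjective _).2 fun x => Submodule.Quotient.induction_on _ x fun m =>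
      ⟨Submodule.Quotient.mk m, rfl⟩ }

/-- A family vanishing modulo `f` is a multiple of `f`. -/
theorem exists_smul_eq_of_zero (hreg : IsSMulRegular M f) (z : limSec (Ideal.span {f}) M U) (hz : z.1 0 = 0) :
    ∃ z' : limSec (Ideal.span {f}) M U, f • z' = z := by
  have hz' : ∀ n, ∃ t, mapS (mulSES (M := M) f n).f U t = z.1 (n + 1) := fun n =>
    exists_of_mapS_g (mulSES_shortExact hreg n) U ((Compat.eq z.2 (Nat.zero_le (n + 1))).trans hz)
  choose t ht using hz'
  have hc : Compat (Ideal.span {f}) U t := fun n => by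
    refine mapS_injective (mulQ f n) (mulQ_injective hreg n) U ?_
    rw [mapS_lin, ← qt_succ, mulQ_qt, ← mapS_lin, qt_succ, show mapS (ModuleCat.ofHom (mulQ f (n + 1))) U (t (n + 1)) = z.1 (n + 2) from ht (n + 1),
      show mapS (ModuleCat.ofHom (mulQ f n)) U (t n) = z.1 (n + 1) from ht n]
    exact z.2 (n + 1)
  refine ⟨⟨t, hc⟩, Subtype.ext (funext fun n => ?_)⟩
  show f • t n = z.1 n
  rw [← mapS_smul_id f U (t n), ← qt_mulQ, ← mapS_lin]
  exact (congrArg (mapS (ModuleCat.ofHom (qt (Ideal.span {f}) (M := M) (Nat.le_succ n))) U) (ht n)).trans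
    (Compat.eq z.2 (Nat.le_succ n))

theorem pow_smul_component (n : ℕ) (s : Sec A (Formal2.quotPow A (Ideal.span {f}) M n) U) : f ^ (n + 1) • s = 0 := by
  rw [← mapS_smul_id (f ^ (n + 1)) U s, show f ^ (n + 1) • (LinearMap.id :
    Formal2.quotPow A (Ideal.span {f}) M n →ₗ[A] _) = 0 from LinearMap.ext fun x =>
      Submodule.Quotient.induction_on _ x fun m => (Submodule.Quotient.mk_smul _ _ _).symm.trans
        ((Submodule.Quotient.mk_eq_zero _).2 ((mem_span_pow_smul_top f).2 ⟨m, rfl⟩))]
  exact mapS_zero (X := ModuleCat.of A (Formal2.quotPow A (Ideal.span {f}) M n))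
    (Y := ModuleCat.of A (Formal2.quotPow A (Ideal.span {f}) M n)) U s

variable [IsNoetherianRing A] [IsAdicComplete (Ideal.span {f}) A]

/-- Finiteness of the limit. -/
theorem finite_limSec (hreg : IsSMulRegular M f)
    [Module.Finite A (Sec A (Formal2.quotPow A (Ideal.span {f}) M 0) U)] :
    Module.Finite A (limSec (Ideal.span {f}) M U) := by
  classical
  let π₀ : limSec (Ideal.span {f}) M U →ₗ[A] Sec A (Formal2.quotPow A (Ideal.span {f}) M 0) U :=
    (LinearMap.proj (φ := fun n => Sec A (Formal2.quotPow A (Ideal.span {f}) M n) U) 0).comp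
      (limSec (Ideal.span {f}) M U).subtype
  haveI : IsNoetherian A (Sec A (Formal2.quotPow A (Ideal.span {f}) M 0) U) :=
    isNoetherian_of_isNoetherianRing_of_finite A _
  obtain ⟨k, g', hg'⟩ := Submodule.fg_iff_exists_fin_generating_family.1 (IsNoetherian.noetherian (LinearMap.range π₀))
  have hg'' : ∀ i, ∃ g, π₀ g = g' i := fun i => (hg'.le (Submodule.subset_span (Set.mem_range_self i)))
  choose g hg using hg''
  let Φ : (Fin k → A) →ₗ[A] limSec (Ideal.span {f}) M U := Fintype.linearCombination A g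
  have step : ∀ y : limSec (Ideal.span {f}) M U, ∃ (c : Fin k → A) (y' : limSec (Ideal.span {f}) M U),
      y = Φ c + f • y' := fun y => by
    obtain ⟨c, hc⟩ := (Submodule.mem_span_range_iff_exists_fun A).1 (hg'.ge (LinearMap.mem_range_self π₀ y))
    obtain ⟨y', hy'⟩ := exists_smul_eq_of_zero hreg (y - Φ c) (by
      show π₀ (y - Φ c) = 0
      rw [map_sub, Fintype.linearCombination_apply, map_sum, ← hc, sub_eq_zero]
      exact Finset.sum_congr rfl fun i _ => by rw [map_smul, hg])
    exact ⟨c, y', by rw [hy', add_sub_cancel]⟩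
  choose c next hnext using step
  refine Module.Finite.of_surjective Φ fun y => ?_
  let ys : ℕ → limSec (Ideal.span {f}) M U := fun j => next^[j] y
  have hys : ∀ K, y = Φ (∑ j ∈ Finset.range K, f ^ j • c (ys j)) + f ^ K • ys K := fun K => by
    induction K with
    | zero => simp [ys]
    | succ K ih =>
      refine ih.trans ?_
      rw [Finset.sum_range_succ, map_add, map_smul,
        show ys (K + 1) = next (ys K) from Function.iterate_succ_apply' _ _ _, pow_succ, mul_smul, add_assoc, ← smul_add,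
        ← hnext (ys K)]
  have hC : ∀ i : Fin k, ∃ C : A, ∀ K, C - ∑ j ∈ Finset.range K, f ^ j * c (ys j) i ∈ Ideal.span {f} ^ K := fun i =>
    AdicLim.exists_series_limit (fun j => f ^ j * c (ys j) i) fun j =>
      Ideal.mul_mem_right _ _ (Ideal.pow_mem_pow (Ideal.mem_span_singleton_self f) j)
  choose C hC using hC
  refine ⟨C, Subtype.ext (funext fun n => sub_eq_zero.1 ?_)⟩
  have hd : ∀ i, ∃ a : A, C i = (∑ j ∈ Finset.range (n + 1), f ^ j • c (ys j)) i + f ^ (n + 1) * a := fun i => by
    have h := hC i (n + 1)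
    rw [Ideal.span_singleton_pow, Ideal.mem_span_singleton'] at h
    obtain ⟨a, ha⟩ := h
    refine ⟨a, ?_⟩
    rw [Finset.sum_apply, mul_comm, ha]
    simp only [Pi.smul_apply, smul_eq_mul, add_sub_cancel]
  choose a ha using hd
  have hCsum : C = (∑ j ∈ Finset.range (n + 1), f ^ j • c (ys j)) + f ^ (n + 1) • a := funext fun i => ha i
  have h2 : Φ C - y = f ^ (n + 1) • (Φ a - ys (n + 1)) := by
    rw [hCsum, map_add, map_smul, smul_sub]
    rw [eq_sub_iff_add_eq.2 (hys (n + 1)).symm]
    simp only [sub_eq_add_neg, neg_add, neg_neg]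
    abel
  show (Φ C - y).1 n = 0
  rw [h2]
  exact pow_smul_component n _

end

end Groth.Agent.FormAlg
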