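import Groth.Agent.FormAlg.Lim
import Groth.Agent.LocH.TildeTorsion

/-!
Algebraisation of formal sections for a regular `f` with `H^1_𝔞(M/fM)` finite.
-/

set_option autoImplicit false
set_option maxHeartbeats 1000000
set_option linter.style.haveILetI false
set_option backward.isDefEq.respectTransparency false
set_option backward.isDefEq.respectTransparency.types false
universe u

namespace Groth.Agent.FormAlg

open CategoryTheory CategoryTheory.Limits AlgebraicGeometry TopologicalSpace Opposite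
open Groth.Agent.LocH (Sec secOf secRes secRes_secOf secRes_secRes sec_ext exists_basicOpen_le)
open Groth.Agent.PunctArt (mapS mapS_secOf mapS_smul)

noncomputable section

variable {A : Type u} [CommRing A]

theorem exists_mul_ne {p : Ideal A} [p.IsPrime] {s t : A} (hs : s ∉ p) (ht : t ∉ p) : s * t ∉ p :=
  fun h => (Ideal.IsPrime.mem_or_mem inferInstance h).elim hs ht

/-- Nakayama at a prime. -/
theorem exists_smul_eq_zero_of_le {Q : Type u} [AddCommGroup Q] [Module A Q] [Module.Finite A Q] {p : Ideal A}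
    [p.IsPrime] {f : A} (hf : f ∈ p) (h : ∀ q : Q, ∃ t, t ∉ p ∧ ∃ q' : Q, t • q = f • q') (q : Q) :
    ∃ t, t ∉ p ∧ t • q = 0 := by
  let Rp := Localization.AtPrime p
  let Qp := LocalizedModule p.primeCompl Q
  have hle : (⊤ : Submodule Rp Qp) ≤ IsLocalRing.maximalIdeal Rp • (⊤ : Submodule Rp Qp) := fun x _ => by
    induction x using LocalizedModule.induction_on with
    | h m s =>
      obtain ⟨t, ht, q', hq'⟩ := h m
      have h1 : LocalizedModule.mk m s = algebraMap A Rp f • LocalizedModule.mk q' ((⟨t, ht⟩ : p.primeCompl) * s) := by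
        rw [IsScalarTower.algebraMap_smul, LocalizedModule.smul'_mk, ← hq']
        exact (LocalizedModule.mk_cancel_common_left (⟨t, ht⟩ : p.primeCompl) s m).symm
      rw [h1]
      refine Submodule.smul_mem_smul ?_ Submodule.mem_top
      rw [← IsLocalization.AtPrime.map_eq_maximalIdeal p Rp]
      exact Ideal.mem_map_of_mem _ hf
  haveI : Module.Finite Rp Qp := inferInstance
  have htop : (⊤ : Submodule Rp Qp) = ⊥ :=
    Submodule.eq_bot_of_le_smul_of_le_jacobson_bot _ _ Module.Finite.fg_top hle (IsLocalRing.maximalIdeal_le_jacobson ⊥)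
  have h0 : LocalizedModule.mk q (1 : p.primeCompl) = 0 :=
    (Submodule.mem_bot Rp).1 (htop ▸ (Submodule.mem_top : LocalizedModule.mk q (1 : p.primeCompl) ∈ (⊤ : Submodule Rp Qp)))
  rw [← LocalizedModule.zero_mk (1 : p.primeCompl), LocalizedModule.mk_eq] at h0
  obtain ⟨u, hu⟩ := h0
  refine ⟨u, u.2, ?_⟩
  simpa [Submonoid.smul_def] using hu

variable [IsNoetherianRing A] {M : Type u} [AddCommGroup M] [Module A M] [Module.Finite A M] {f : A} {𝔞 : Ideal A}

local notation "U𝔞" => EGA4.openCompl A 𝔞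

variable [IsAdicComplete (Ideal.span {f}) A] (hreg : IsSMulRegular M f)
  [Module.Finite A (Sec A (Formal2.quotPow A (Ideal.span {f}) M 0) (EGA4.openCompl A 𝔞))]

include hreg in
/-- Near `U ∩ V(f)` the map `M → lim` is an isomorphism. -/
theorem exists_local_lift (p : PrimeSpectrum A) (hp : p ∈ U𝔞) (hfp : f ∈ p.asIdeal)
    (y : limSec (Ideal.span {f}) M U𝔞) :
    ∃ t, t ∉ p.asIdeal ∧ t • y ∈ LinearMap.range (toLim (Ideal.span {f}) M U𝔞) ∧
      ∀ m ∈ LinearMap.ker (toLim (Ideal.span {f}) M U𝔞), t • m = 0 := by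
  classical
  haveI := finite_limSec (M := M) (U := U𝔞) hreg
  haveI : IsNoetherian A M := isNoetherian_of_isNoetherianRing_of_finite A M
  obtain ⟨a, ha, hap⟩ := SetLike.not_le_iff_exists.1 (show ¬ 𝔞 ≤ p.asIdeal from hp)
  let ι := toLim (Ideal.span {f}) M U𝔞
  obtain ⟨t₁, ht₁, h₁⟩ := exists_smul_eq_zero_of_le (Q := limSec (Ideal.span {f}) M U𝔞 ⧸ LinearMap.range ι)
    (p := p.asIdeal) hfp (fun q => by
      obtain ⟨z, rfl⟩ := Submodule.Quotient.mk_surjective _ q
      obtain ⟨n, hn⟩ := LocH.isPowerTorsion_coker (M := Formal2.quotPow A (Ideal.span {f}) M 0) 𝔞 (Submodule.Quotient.mk (z.1 0))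
      obtain ⟨mb, hm⟩ := (Submodule.Quotient.mk_eq_zero _).1
        ((Submodule.Quotient.mk_smul _ (a ^ n) _).trans (hn _ (Ideal.pow_mem_pow ha n)))
      obtain ⟨m, rfl⟩ := Submodule.mkQ_surjective _ mb
      obtain ⟨z', hz'⟩ := exists_smul_eq_of_zero hreg (a ^ n • z - ι m) (by
        show a ^ n • z.1 0 - (ι m).1 0 = 0
        rw [toLim_apply, sub_eq_zero, ← hm]
        )
      refine ⟨a ^ n, fun h => hap (p.isPrime.mem_of_pow_mem n h), Submodule.Quotient.mk z', ?_⟩
      rw [← Submodule.Quotient.mk_smul, ← Submodule.Quotient.mk_smul, Submodule.Quotient.eq, hz', sub_sub_cancel]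
      exact LinearMap.mem_range_self ι m) (Submodule.Quotient.mk y)
  rw [← Submodule.Quotient.mk_smul, Submodule.Quotient.mk_eq_zero] at h₁
  obtain ⟨G, hG⟩ := (IsNoetherian.noetherian (LinearMap.ker ι) : (LinearMap.ker ι).FG)
  have hkill : ∀ m ∈ G, ∃ t, t ∉ p.asIdeal ∧ t • m = 0 := fun m hm => by
    have hm' : ι m = 0 := LinearMap.mem_ker.1 (hG ▸ Submodule.subset_span hm)
    refine exists_smul_eq_zero_of_krull (I := Ideal.span {f}) p ((Ideal.span_singleton_le_iff_mem _).2 hfp) m fun n => ?_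
    obtain ⟨g, hpg, hg⟩ := exists_basicOpen_le (show p ∈ U𝔞 from hp)
    have h0 : secOf A (Formal2.quotPow A (Ideal.span {f}) M n) (PrimeSpectrum.basicOpen g) (Submodule.Quotient.mk m) = 0 := by
      rw [← secRes_secOf hg, show secOf A _ U𝔞 (Submodule.Quotient.mk m) = 0 from congrFun (congrArg Subtype.val hm') n,
        map_zero]
    obtain ⟨⟨_, k, rfl⟩, hk⟩ := (IsLocalizedModule.eq_zero_iff (Submonoid.powers g) _).1 h0
    exact ⟨g ^ k, fun hm => hpg (p.isPrime.mem_of_pow_mem k hm),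
      Submodule.smul_mono_left (Ideal.pow_le_pow_right (Nat.le_succ n)) ((Submodule.Quotient.mk_eq_zero _).1 hk)⟩
  choose t ht htm using hkill
  refine ⟨t₁ * ∏ m : G, t m.1 m.2, exists_mul_ne ht₁ fun h => ?_, ?_, fun m hm => ?_⟩
  · obtain ⟨m, -, hm⟩ := Ideal.IsPrime.prod_mem_iff.1 h
    exact ht m.1 m.2 hm
  · rw [mul_comm, mul_smul]
    exact Submodule.smul_mem _ _ h₁
  · rw [mul_smul]
    refine (congrArg (t₁ • ·) ?_).trans (smul_zero t₁)
    have hm' : m ∈ Submodule.span A (G : Set M) := hG.symm ▸ hm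
    induction hm' using Submodule.span_induction with
    | mem x hx =>
      rw [← Finset.prod_erase_mul _ _ (Finset.mem_univ (⟨x, hx⟩ : G)), mul_smul, htm x hx, smul_zero]
    | zero => rw [smul_zero]
    | add x x' hx hx' h h' =>
      rw [smul_add, h (hG ▸ hx), h' (hG ▸ hx'), add_zero]
    | smul r x hx h => rw [smul_comm, h (hG ▸ hx), smul_zero]

omit [IsNoetherianRing A] [Module.Finite A M] [IsAdicComplete (Ideal.span {f}) A]
  [Module.Finite A (Sec A (Formal2.quotPow A (Ideal.span {f}) M 0) (EGA4.openCompl A 𝔞))] in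
theorem sec_smul_cancel {X : Type u} [AddCommGroup X] [Module A X] {V : (Spec (CommRingCat.of A)).Opens} (a : A)
    (hV : V ≤ PrimeSpectrum.basicOpen a) (u v : Sec A X V) (h : a • u = a • v) : u = v :=
  sub_eq_zero.1 (LocH.eq_zero_of_pow_smul_eq_zero (f := a) hV (n := 1) (by rw [pow_one, smul_sub, h, sub_self]))

omit [IsNoetherianRing A] [Module.Finite A M] [IsAdicComplete (Ideal.span {f}) A]
  [Module.Finite A (Sec A (Formal2.quotPow A (Ideal.span {f}) M 0) (EGA4.openCompl A 𝔞))] in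
theorem exists_sec_div {W : (Spec (CommRingCat.of A)).Opens} (t : A) (hW : W ≤ PrimeSpectrum.basicOpen t) (m : M) :
    ∃ x : Sec A M W, t • x = secOf A M W m := by
  have hu := IsLocalizedModule.map_units (secOf A M (PrimeSpectrum.basicOpen t))
    (⟨t, 1, pow_one _⟩ : Submonoid.powers t)
  obtain ⟨x, hx⟩ := ((Module.End.isUnit_iff _).1 hu).2 (secOf A M _ m)
  refine ⟨secRes A M hW x, ?_⟩
  rw [← map_smul, show t • x = secOf A M _ m from hx, secRes_secOf]

omit [IsNoetherianRing A] [Module.Finite A M] [IsAdicComplete (Ideal.span {f}) A]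
  [Module.Finite A (Sec A (Formal2.quotPow A (Ideal.span {f}) M 0) (EGA4.openCompl A 𝔞))] in
theorem res_eq_res_of_smul {W₁ W₂ : (Spec (CommRingCat.of A)).Opens} (s t : A)
    (h1 : W₁ ≤ PrimeSpectrum.basicOpen s) (h2 : W₂ ≤ PrimeSpectrum.basicOpen t) (ms mt : M) (xs : Sec A M W₁)
    (xt : Sec A M W₂) (hxs : s • xs = secOf A M W₁ ms) (hxt : t • xt = secOf A M W₂ mt)
    (h : s • (t • ms - s • mt) = 0) :
    secRes A M (inf_le_left : W₁ ⊓ W₂ ≤ W₁) xs = secRes A M (inf_le_right : W₁ ⊓ W₂ ≤ W₂) xt := by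
  refine sec_smul_cancel s (inf_le_left.trans h1) _ _ (sec_smul_cancel t (inf_le_right.trans h2) _ _
    (sec_smul_cancel s (inf_le_left.trans h1) _ _ ?_))
  have h3 := congrArg (secOf A M (W₁ ⊓ W₂)) h
  rw [map_smul, map_sub, map_smul, map_smul, map_zero] at h3
  rw [← secRes_secOf (inf_le_left : W₁ ⊓ W₂ ≤ W₁) ms, ← hxs, map_smul,
    ← secRes_secOf (inf_le_right : W₁ ⊓ W₂ ≤ W₂) mt, ← hxt, map_smul, smul_sub, sub_eq_zero,
    smul_comm s t (secRes A M _ xt)] at h3
  exact h3

omit [IsNoetherianRing A] [Module.Finite A M] [IsAdicComplete (Ideal.span {f}) A]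
  [Module.Finite A (Sec A (Formal2.quotPow A (Ideal.span {f}) M 0) (EGA4.openCompl A 𝔞))] in
theorem component_eq {U W : (Spec (CommRingCat.of A)).Opens} (hWU : W ≤ U) (t : A)
    (hW : W ≤ PrimeSpectrum.basicOpen t) {I : Ideal A} (n : ℕ) (yn : Sec A (Formal2.quotPow A I M n) U) (m : M)
    (hm : secOf A _ U (Formal2.quotPowπ A I M n m) = t • yn) (x : Sec A M W) (hx : t • x = secOf A M W m) :
    secRes A _ hWU yn = mapS (qπ I M n) W x := by
  refine sec_smul_cancel t hW _ _ ?_
  refine ((map_smul (secRes A _ hWU) t yn).symm.trans ?_).trans (map_smul (mapS (qπ I M n) W) t x)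
  refine (congrArg (secRes A _ hWU) hm).symm.trans ?_
  refine (secRes_secOf hWU (Formal2.quotPowπ A I M n m)).trans ?_
  refine Eq.trans ?_ (congrArg (mapS (qπ I M n) W) hx).symm
  exact (mapS_secOf (qπ I M n) W m).symm

omit [IsNoetherianRing A] [Module.Finite A M] [IsAdicComplete (Ideal.span {f}) A]
  [Module.Finite A (Sec A (Formal2.quotPow A (Ideal.span {f}) M 0) (EGA4.openCompl A 𝔞))] in
theorem eq_of_cover {X : Type u} [AddCommGroup X] [Module A X] {ι : Type u} (W : ι → (Spec (CommRingCat.of A)).Opens)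
    {V : (Spec (CommRingCat.of A)).Opens} (hle : ∀ i, W i ≤ V) (hV : V ≤ iSup W) (a b : Sec A X V)
    (h : ∀ i, secRes A X (hle i) a = secRes A X (hle i) b) : a = b := by
  refine sec_ext fun p hp => ?_
  obtain ⟨i, hi⟩ := Opens.mem_iSup.1 (hV hp)
  obtain ⟨g, hpg, hg⟩ := exists_basicOpen_le hi
  refine ⟨g, hg.trans (hle i), hpg, ?_⟩
  rw [← secRes_secRes (hle i) hg a, ← secRes_secRes (hle i) hg b, h i]

omit [IsNoetherianRing A] [Module.Finite A M] [IsAdicComplete (Ideal.span {f}) A]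
  [Module.Finite A (Sec A (Formal2.quotPow A (Ideal.span {f}) M 0) (EGA4.openCompl A 𝔞))] in
theorem component_res {U V W : (Spec (CommRingCat.of A)).Opens} (hVU : V ≤ U) (hWV : W ≤ V) (t : A)
    (hW : W ≤ PrimeSpectrum.basicOpen t) {I : Ideal A} (n : ℕ) (yn : Sec A (Formal2.quotPow A I M n) U) (m : M)
    (hm : secOf A _ U (Formal2.quotPowπ A I M n m) = t • yn) (x : Sec A M W) (hx : t • x = secOf A M W m)
    (z : Sec A M V) (hz : secRes A M hWV z = x) :
    secRes A _ hWV (secRes A _ hVU yn) = secRes A _ hWV (mapS (qπ I M n) V z) := by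
  refine ((secRes_secRes hVU hWV yn).trans (component_eq (hWV.trans hVU) t hW n yn m hm x hx)).trans ?_
  rw [← hz]
  exact (secRes_mapS (qπ I M n) hWV z).symm

include hreg in
theorem alg_of_finite_H : Alg (Ideal.span {f}) M U𝔞 := by
  intro y hy
  let Y : limSec (Ideal.span {f}) M U𝔞 := ⟨y, hy⟩
  let J : Type u := {t : A // t • Y ∈ LinearMap.range (toLim (Ideal.span {f}) M U𝔞) ∧
    ∀ m ∈ LinearMap.ker (toLim (Ideal.span {f}) M U𝔞), t • m = 0}
  let W : J → (Spec (CommRingCat.of A)).Opens := fun t => PrimeSpectrum.basicOpen t.1 ⊓ U𝔞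
  have hW : ∀ t, W t ≤ PrimeSpectrum.basicOpen t.1 := fun t => inf_le_left
  choose m hm using fun t : J => t.2.1
  choose x hx using fun t : J => exists_sec_div t.1 (hW t) (m t)
  have hker : ∀ s t : J, (toLim (Ideal.span {f}) M U𝔞) (t.1 • m s - s.1 • m t) = 0 := fun s t => by
    rw [map_sub, map_smul, map_smul, hm s, hm t, smul_comm, sub_self]
  have hcompat : TopCat.Presheaf.IsCompatible (LocH.secSheaf A M).1 W x := fun s t =>
    res_eq_res_of_smul s.1 t.1 (hW s) (hW t) (m s) (m t) (x s) (x t) (hx s) (hx t)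
      (s.2.2 _ (LinearMap.mem_ker.2 (hker s t)))
  let V : (Spec (CommRingCat.of A)).Opens := iSup W
  obtain ⟨z, hz, -⟩ := (LocH.secSheaf A M).existsUnique_gluing W x hcompat
  have hV : Formal2.Admissible A (Ideal.span {f}) U𝔞 V := by
    refine ⟨iSup_le fun t => inf_le_right, fun p hp hpf => ?_⟩
    obtain ⟨t, ht, htY, htK⟩ := exists_local_lift hreg p hp (hpf (Ideal.mem_span_singleton_self f)) Y
    exact le_iSup W ⟨t, htY, htK⟩ (show p ∈ PrimeSpectrum.basicOpen t ⊓ U𝔞 from ⟨ht, hp⟩)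
  refine ⟨V, hV, z, fun n => ?_⟩
  exact eq_of_cover W (fun t => le_iSup W t) le_rfl _ _ fun t =>
    component_res hV.1 (le_iSup W t) t.1 (hW t) n (y n) (m t) (congrFun (congrArg Subtype.val (hm t)) n) (x t) (hx t)
      z (hz t)

end

end Groth.Agent.FormAlg
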