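import Groth.Agent.W7Exist.IPow
import Groth.Agent.W7Rees.HomFull
import Groth.Agent.LefFEt.Pair
import Groth.Agent.LefFEt.QuasiAffine
import Groth.Agent.FormAlg.LefPunct

/-!
Sections of finite locally free modules as formal sections, from the structure sheaf.
-/

set_option autoImplicit false
set_option maxHeartbeats 1000000
set_option linter.style.haveILetI false
set_option backward.isDefEq.respectTransparency false
set_option backward.isDefEq.respectTransparency.types false
universe u

namespace Groth.Agent.FormAlg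

open CategoryTheory CategoryTheory.Limits AlgebraicGeometry TopologicalSpace Opposite
open Groth.Agent.QC (res res_res app_res appₗ)

noncomputable section

variable {A : Type u} [CommRing A] {X : Scheme.{u}} [X.Over (Spec (CommRingCat.of A))] (I : Ideal A)

theorem iSheaf_pow_ideal (m : ℕ) (V : X.affineOpens) :
    ((W7Exist.iSheaf (X := X) I) ^ m).ideal V = (I.map (W7Cech.secRing A V.1)) ^ m := by
  rw [Scheme.IdealSheafData.ideal_pow, Pi.pow_apply]
  rfl

/-- The projection to `O/I^nO` and the restriction to the thickening have the same kernel on affines. -/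
theorem π_app_eq_zero_iff_toSub (n : ℕ) (V : X.affineOpens) (r : Γ(X, V.1)) :
    (Formal.modPowπ I n (Coh.structureModule X)).app V.1 r = 0 ↔
      (ClSub.toSubscheme ((W7Exist.iSheaf (X := X) I) ^ n)).app V.1 r = 0 := by
  rw [LefFEt.toSub_eq_zero_iff, iSheaf_pow_ideal]
  refine (W7Rees.π_app_eq_zero_iff I (QC.isQCoh_unit X) V.2 n _).trans ?_
  rw [smul_eq_mul, Ideal.mul_top]

theorem exists_quotMod_iSheaf_iso (n : ℕ) :
    ∃ κ : Formal.modPow I n (Coh.structureModule X) ≅ ClSub.quotMod ((W7Exist.iSheaf (X := X) I) ^ n),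
      Formal.modPowπ I n (Coh.structureModule X) ≫ κ.hom = ClSub.toSubscheme ((W7Exist.iSheaf (X := X) I) ^ n) := by
  let π := Formal.modPowπ I n (Coh.structureModule X)
  let q := ClSub.toSubscheme ((W7Exist.iSheaf (X := X) I) ^ n)
  obtain ⟨d, hd⟩ := W7Exist.exists_desc_modPow I n q fun a ha => W7Exist.hom_eq_zero_of_affine _ fun V s => by
    show q.app V.1 ((Formal.smulMod A (Coh.structureModule X) a).app V.1 s) = 0
    refine (π_app_eq_zero_iff_toSub I n V _).1 ?_
    exact congr(($(W7Exist.smulMod_π I n (Coh.structureModule X) a ha)).app V.1 s)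
  have h2 : kernel.ι q ≫ π = 0 := W7Exist.hom_eq_zero_of_affine _ fun V w => by
    show π.app V.1 ((kernel.ι q).app V.1 w) = 0
    refine (π_app_eq_zero_iff_toSub I n V _).2 ?_
    exact congr(($(kernel.condition q)).app V.1 w)
  haveI : Epi π := by unfold π Formal.modPowπ; infer_instance
  haveI : Epi q := inferInstance
  refine ⟨⟨d, Abelian.epiDesc q π h2, ?_, ?_⟩, hd⟩
  · rw [← cancel_epi π, ← Category.assoc, hd, Abelian.comp_epiDesc, Category.comp_id]
  · rw [← cancel_epi q, ← Category.assoc, Abelian.comp_epiDesc, hd, Category.comp_id]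

/-- The structure sheaf has the Lefschetz bijectivity when its sections are formal sections. -/
theorem homToFormal_iSheaf
    (h : Function.Bijective (Formal.toHHlim I (Coh.structureModule X) 0)) :
    Lef.HomToFormalBijective (W7Exist.iSheaf (X := X) I) (Coh.structureModule X) := by
  choose κ hκ using fun n => exists_quotMod_iSheaf_iso (X := X) I (n + 1)
  have hq : ∀ n, (κ (n + 1)).inv ≫ Formal.modPowTrans I (n + 1) (Coh.structureModule X) ≫ (κ n).hom =
      Lef.quotMap (Lef.pow_succ_le (W7Exist.iSheaf (X := X) I) n) := fun n => by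
    rw [← cancel_epi (ClSub.toSubscheme ((W7Exist.iSheaf (X := X) I) ^ (n + 1 + 1))), LefDiv.toSubscheme_quotMap]
    conv_lhs => rw [← hκ (n + 1), Category.assoc, Iso.hom_inv_id_assoc, ← Category.assoc, Formal.modPowπ_trans]
    exact hκ n
  refine ⟨fun φ ψ hn => (homH0 (A := A) _).injective (h.1 (Subtype.ext (funext fun n => ?_))), fun y hy => ?_⟩
  · show Sheaf.H.map _ 0 _ = Sheaf.H.map _ 0 _
    rw [← homH0_comp, ← homH0_comp]
    refine congrArg _ ((cancel_mono (κ n).hom).1 ?_)
    rw [Category.assoc, Category.assoc, hκ]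
    exact hn n
  · obtain ⟨x, hx⟩ := h.2 ⟨fun n => homH0 (A := A) _ (y n ≫ (κ n).inv), fun n => by
      show Sheaf.H.map _ 0 _ = _
      rw [← homH0_comp]
      refine congrArg _ ((cancel_mono (κ n).hom).1 ?_)
      rw [Category.assoc, Category.assoc, Category.assoc, Iso.inv_hom_id, Category.comp_id, hq n]
      exact hy n⟩
    refine ⟨(homH0 (A := A) _).symm x, fun n => ?_⟩
    rw [← hκ n, ← Category.assoc, ← Iso.eq_comp_inv]
    refine (homH0 (A := A) _).injective ?_
    rw [homH0_comp, Equiv.apply_symm_apply]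
    exact congrFun (congrArg Subtype.val hx) n

/-- Sections of a finite locally free module are its formal sections, if the dual has the bijectivity. -/
theorem bijective_toHHlim_of_dual [IsLocallyNoetherian X] {E : X.Modules} (hE : FlatMod.IsFinLocFree E)
    (hJ : Lef.HomToFormalBijective (W7Exist.iSheaf (X := X) I) (RefHull.dual E)) :
    Function.Bijective (Formal.toHHlim I E 0) := by
  have hEq : Coh.IsQCoh E := LocFree.isQCoh_of_isFinLocFree hE
  have hcong : ∀ (m : ℕ) (V : X.affineOpens) (s : Γ(E, V.1)),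
      LefFEt.Cong ((W7Exist.iSheaf (X := X) I) ^ m) V s ↔ (Formal.modPowπ I m E).app V.1 s = 0 := fun m V s => by
    show s ∈ (((W7Exist.iSheaf (X := X) I) ^ m).ideal V • ⊤ : Submodule Γ(X, V.1) Γ(E, V.1)) ↔ _
    rw [iSheaf_pow_ideal]
    exact (W7Rees.π_app_eq_zero_iff I hEq V.2 m s).symm
  obtain ⟨e, he⟩ := W7Rees.exists_zero_natural (X := X)
  refine ⟨(injective_iff_map_eq_zero _).2 fun x hx => (e E).injective ?_, fun Y => ?_⟩
  · rw [map_zero]
    refine LefFEt.sections_injective _ hE hJ _ fun m V => (hcong (m + 1) V _).2 ?_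
    rw [← app_res]
    have h0 : (Formal.modPowπ I (m + 1) E).app ⊤ (e E x) = 0 := by
      rw [← he]
      refine Eq.trans ?_ (map_zero (e (Formal.modPow I (m + 1) E)))
      exact congrArg (e _) (congrFun (congrArg Subtype.val hx) m)
    rw [h0, map_zero]
  · let s : ∀ m, Γ(Formal.modPow I (m + 1) E, ⊤) := fun m => e _ (Y.1 m)
    have hs : ∀ m, (Formal.modPowTrans I (m + 1) E).app ⊤ (s (m + 1)) = s m := fun m => by
      show (Formal.modPowTrans I (m + 1) E).app ⊤ (e _ (Y.1 (m + 1))) = e _ (Y.1 m)
      rw [← he]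
      exact congrArg (e _) (Y.2 m)
    have hlift : ∀ (m : ℕ) (V : X.affineOpens), ∃ t : Γ(E, V.1),
        (Formal.modPowπ I (m + 1) E).app V.1 t = res _ (le_top : V.1 ≤ ⊤) (s m) := fun m V => by
      haveI : Epi (Formal.modPowπ I (m + 1) E) := inferInstanceAs (Epi (cokernel.π _))
      exact QC.app_surjective_of_epi V.2 hEq (W7Rees.isQCoh_modQuot E _ hEq) (Formal.modPowπ I (m + 1) E) _
    choose t ht using hlift
    obtain ⟨a, ha⟩ := LefFEt.sections_surjective _ hE hJ t
      (fun m U V h => (hcong (m + 1) V _).2 (by rw [map_sub, ← app_res, ht, ht, res_res, sub_self]))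
      (fun m U => (hcong (m + 1) U _).2 (by
        rw [map_sub, ht, ← Formal.modPowπ_trans I (m + 1) E]
        show (Formal.modPowTrans I (m + 1) E).app U.1 ((Formal.modPowπ I (m + 1 + 1) E).app U.1 (t (m + 1) U)) - _ = 0
        rw [ht, ← app_res, hs, sub_self]))
    refine ⟨(e E).symm a, Subtype.ext (funext fun m => (e _).injective ?_)⟩
    refine (he _ _ _ _).trans ?_
    rw [AddEquiv.apply_symm_apply]
    refine QC.section_eq_of_locally fun x _ => ?_
    obtain ⟨U, hxU, -⟩ := ClSubLib.exists_affine_le (show x ∈ (⊤ : X.Opens) from trivial)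
    obtain ⟨V, h, hxV, hc⟩ := ha m U x hxU
    refine ⟨V.1, le_top, hxV, ?_⟩
    have h1 := (hcong (m + 1) V _).1 hc
    rw [map_sub, sub_eq_zero, ← app_res, ← app_res, ht, res_res] at h1
    exact h1

/-- On a quasi-affine scheme the structure sheaf suffices. -/
theorem bijective_toHHlim_of_quasiAffine [IsNoetherian X] [X.IsQuasiAffine]
    (h : Function.Bijective (Formal.toHHlim I (Coh.structureModule X) 0)) {E : X.Modules}
    (hE : FlatMod.IsFinLocFree E) : Function.Bijective (Formal.toHHlim I E 0) := by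
  haveI : QuasiSeparatedSpace X := inferInstance
  exact bijective_toHHlim_of_dual I hE (LefFEt.homToFormal_of_unit _ (homToFormal_iSheaf I h) _
    (LocFree.isQCoh_of_isFinLocFree (ResDesc.isFinLocFree_dual hE)))

end

end Groth.Agent.FormAlg
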