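import Groth.Agent.FormAlg.Connected
import Groth.Agent.HLVT.Spec
import Groth.Agent.EGA41Cohen.Basic
import Groth.Agent.DualCx.Regular
import Groth.Agent.HTLib.Boot
import Groth.Agent.S0376
import Groth.Agent.S0814

/-!
Connectedness of `V(I) ∖ Z` in a complete local ring.
-/

set_option autoImplicit false
set_option maxHeartbeats 1000000
set_option linter.style.haveILetI false
set_option backward.isDefEq.respectTransparency false
set_option backward.isDefEq.respectTransparency.types false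
universe u

namespace Groth.Agent.FormAlg

open CategoryTheory CategoryTheory.Limits
open Groth.Agent.DualCx (del del_le)
attribute [local instance] HasDerivedCategory.standard

noncomputable section

variable {A : Type u} [CommRing A] [IsNoetherianRing A]

/-- The heights of the components of `V(P + I)` in `V(P)` are bounded by the cohomological dimension. -/
theorem del_sub_le_of_cdLE {ω : Dual.D A} (hω : Dual.IsDualizing A ω) {I : Ideal A} {d : ℕ}
    (hd : LocCoh.CdLE A I d) {p r : PrimeSpectrum A} (hr : r.asIdeal ∈ (p.asIdeal ⊔ I).minimalPrimes) :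
    (del hω p - del hω r).toNat ≤ d := by
  let π := Ideal.Quotient.mk p.asIdeal
  have hpr : p ≤ r := le_sup_left.trans hr.1.2
  have hker : RingHom.ker π ≤ r.asIdeal := by rw [Ideal.mk_ker]; exact le_sup_left.trans hr.1.2
  haveI : (r.asIdeal.map π).IsPrime := Ideal.map_isPrime_of_surjective Ideal.Quotient.mk_surjective hker
  have hmin : r.asIdeal.map π ∈ (I.map π).minimalPrimes := by
    refine ⟨⟨inferInstance, Ideal.map_mono (le_sup_right.trans hr.1.2)⟩, fun Q hQ hQr => ?_⟩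
    haveI := hQ.1
    have hc : (r.asIdeal.map π).comap π = r.asIdeal := by
      rw [Ideal.comap_map_of_surjective _ Ideal.Quotient.mk_surjective, ← RingHom.ker_eq_comap_bot, sup_eq_left.2 hker]
    have h1 : r.asIdeal ≤ Q.comap π := hr.2 ⟨Ideal.IsPrime.comap π, sup_le (Ideal.mk_ker.ge.trans (Ideal.comap_mono bot_le))
      (Ideal.map_le_iff_le_comap.1 hQ.2)⟩ (hc ▸ Ideal.comap_mono hQr)
    rw [← Ideal.map_comap_of_surjective π Ideal.Quotient.mk_surjective Q]
    exact Ideal.map_mono h1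
  have hq : LocCoh.CdLE (A ⧸ p.asIdeal) (I.map π) d := fun N _ _ i hi => by
    letI : Module A N := Module.compHom N π
    haveI : IsScalarTower A (A ⧸ p.asIdeal) N := ⟨fun r x m => by rw [Algebra.smul_def, mul_smul]; rfl⟩
    obtain ⟨φ, -⟩ := LocH.exists_semilinearEquiv (R := A) (R' := A ⧸ p.asIdeal) (I := I) i N
    haveI : Subsingleton ↑((CategoryTheory.Functor.obj (localCohomology I i)) (ModuleCat.of A N)) := hd N i hi
    exact φ.toEquiv.subsingleton
  let x : PrimeSpectrum (A ⧸ p.asIdeal) := ⟨r.asIdeal.map π, inferInstance⟩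
  have h1 : Order.height x ≤ d := by
    rw [← PrimeSpectrum.height_eq_orderHeight]
    exact LocH.height_le_of_cdLE hq hmin
  let e := p.asIdeal.primeSpectrumQuotientOrderIsoZeroLocus
  have hex : (e x : PrimeSpectrum A) = r := by
    refine PrimeSpectrum.ext ?_
    show (r.asIdeal.map π).comap π = r.asIdeal
    rw [Ideal.comap_map_of_surjective _ Ideal.Quotient.mk_surjective, ← RingHom.ker_eq_comap_bot, sup_eq_left.2 hker]
  have h2 : Order.krullDim (Set.Icc p r) ≤ Order.krullDim (Set.Iic x) := by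
    refine Order.krullDim_le_of_strictMono (fun z => ⟨e.symm ⟨z.1, z.2.1⟩, ?_⟩) fun a b hab => ?_
    · show e.symm ⟨z.1, z.2.1⟩ ≤ x
      rw [e.symm_apply_le]
      show z.1 ≤ (e x : PrimeSpectrum A)
      rw [hex]
      exact z.2.2
    · exact e.symm.strictMono hab
  rw [HTLib.krullDim_Icc hω hpr, ← Order.height_eq_krullDim_Iic] at h2
  exact_mod_cast h2.trans (WithBot.coe_le_coe.2 h1)

variable [IsLocalRing A]

/-- Some point of `V(P) ∩ V(I)` has dimension at least `dim A/P - cd`. -/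
theorem exists_dim_le_add {ω : Dual.D A} (hω : Dual.IsDualizing A ω) (hn : Dual.IsNormalized A ω) {I : Ideal A}
    (hI : I ≠ ⊤) {d : ℕ} (hd : LocCoh.CdLE A I d) (p : PrimeSpectrum A) :
    ∃ r : PrimeSpectrum A, p ≤ r ∧ I ≤ r.asIdeal ∧
      ringKrullDim (A ⧸ p.asIdeal) ≤ ringKrullDim (A ⧸ r.asIdeal) + (d : WithBot ℕ∞) := by
  obtain ⟨r₀, hr₀, -⟩ := Ideal.exists_minimalPrimes_le (sup_le (IsLocalRing.le_maximalIdeal p.isPrime.ne_top)
    (IsLocalRing.le_maximalIdeal hI) : p.asIdeal ⊔ I ≤ IsLocalRing.maximalIdeal A)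
  let r : PrimeSpectrum A := ⟨r₀, hr₀.1.1⟩
  refine ⟨r, le_sup_left.trans hr₀.1.2, le_sup_right.trans hr₀.1.2, ?_⟩
  have h := del_sub_le_of_cdLE hω hd (p := p) (r := r) hr₀
  rw [DualCx.ringKrullDim_quotient_eq hω hn, DualCx.ringKrullDim_quotient_eq hω hn]
  exact_mod_cast (show (del hω p).toNat ≤ (del hω r).toNat + d by omega)

theorem nat_lt_of_coe_lt {a b c : ℕ} (h : (a : WithBot ℕ∞) + (b : WithBot ℕ∞) < (c : WithBot ℕ∞)) : a + b < c := by
  exact_mod_cast h

theorem coe_lt_coe_of_lt {a b : ℕ} (h : a < b) : (a : WithBot ℕ∞) < (b : WithBot ℕ∞) := by exact_mod_cast h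

theorem toNat_sub_lt {x y : ℤ} {m : ℕ} (_ : y ≤ x) (h : y.toNat + m < x.toNat) : m < (x - y).toNat := by omega

theorem isConnected_of_dim [IsAdicComplete (IsLocalRing.maximalIdeal A) A] (I : Ideal A) (hI : I ≠ ⊤) (e : ℕ)
    (he : LocCoh.CdLE A I e) (Z : Set (PrimeSpectrum A)) (hZ : IsClosed Z)
    (hZI : Z ⊆ PrimeSpectrum.zeroLocus (I : Set A))
    (hdim : ∀ p ∈ minimalPrimes A, topologicalKrullDim Z + ((e + 1 : ℕ) : WithBot ℕ∞) < ringKrullDim (A ⧸ p))
    (hc : ∀ Z' : Set (PrimeSpectrum A), IsClosed Z' → ¬ _root_.IsConnected Z'ᶜ →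
      topologicalKrullDim Z + ((e : ℕ) : WithBot ℕ∞) < topologicalKrullDim Z') :
    _root_.IsConnected (PrimeSpectrum.zeroLocus (I : Set A) \ Z) := by
  obtain ⟨ω₀, hω₀⟩ := Groth.Agent.S0376.result A
  obtain ⟨n, hn⟩ := DualCx.exists_normalized_shift hω₀
  have hω := DualCx.isDualizing_shift hω₀ n
  let K := PrimeSpectrum.vanishingIdeal Z
  have hZK : PrimeSpectrum.zeroLocus (K : Set A) = Z := by
    rw [PrimeSpectrum.zeroLocus_vanishingIdeal_eq_closure, hZ.closure_eq]
  have hIK : I ≤ K := fun a ha => (PrimeSpectrum.mem_vanishingIdeal _ _).2 fun p hp => hZI hp ha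
  rw [← hZK, HLVT.topDim_zeroLocus] at hdim hc
  rw [← hZK]
  have hbound : ∀ p : PrimeSpectrum A, (∀ r : PrimeSpectrum A, p ≤ r → I ≤ r.asIdeal → K ≤ r.asIdeal) →
      ringKrullDim (A ⧸ p.asIdeal) ≤ ringKrullDim (A ⧸ K) + (e : WithBot ℕ∞) := fun p hp => by
    obtain ⟨r, hpr, hIr, hle⟩ := exists_dim_le_add hω hn hI he p
    exact hle.trans (add_le_add_left (HLVT.ringKrullDim_quotient_antitone (hp r hpr hIr)) _)
  refine ⟨?_, ?_⟩
  · by_contra hne
    obtain ⟨P, hP, -⟩ := HLVT.exists_minimal_ge (IsLocalRing.maximalIdeal A)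
    refine (hdim P hP).not_ge ((hbound ⟨P, Ideal.minimalPrimes_isPrime hP⟩ fun r _ hIr => ?_).trans
      (add_le_add_right (by exact_mod_cast Nat.le_succ e) _))
    by_contra hK
    exact hne ⟨r, hIr, hK⟩
  haveI := EGA41Cohen.isAdicComplete_ideal I hI
  refine Groth.Agent.S0814.result A I K hIK ⟨_, hω⟩ e he ?_ ?_
  · intro p hp _ q _ hpq hKq
    let p' : PrimeSpectrum A := ⟨p, Ideal.minimalPrimes_isPrime hp⟩
    let q' : PrimeSpectrum A := ⟨q, inferInstance⟩
    have h1 := hdim p hp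
    have h2 : ringKrullDim (A ⧸ q) ≤ ringKrullDim (A ⧸ K) := HLVT.ringKrullDim_quotient_antitone hKq
    have h3 := (add_le_add_left h2 ((e + 1 : ℕ) : WithBot ℕ∞)).trans_lt h1
    rw [show ringKrullDim (A ⧸ p) = _ from DualCx.ringKrullDim_quotient_eq hω hn p',
      show ringKrullDim (A ⧸ q) = _ from DualCx.ringKrullDim_quotient_eq hω hn q'] at h3
    rw [show Formal2.dimBetween A p q = Formal2.dimBetween A p'.asIdeal q'.asIdeal from rfl,
      HTLib.dimBetween_eq (p := p') (q := q') hω hpq]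
    have h4 := del_le hω (show p' ≤ q' from hpq)
    have h5 := nat_lt_of_coe_lt h3
    exact coe_lt_coe_of_lt (toNat_sub_lt h4 h5)
  · intro V hV _ hSV
    by_contra hVc
    obtain ⟨J, hJ⟩ := (PrimeSpectrum.isClosed_iff_zeroLocus_ideal _).1 hV.isClosed_compl
    have h := hc Vᶜ hV.isClosed_compl (by rwa [compl_compl])
    rw [hJ, HLVT.topDim_zeroLocus] at h
    by_cases hJt : J = ⊤
    · subst hJt
      haveI : Subsingleton (A ⧸ (⊤ : Ideal A)) := Ideal.Quotient.subsingleton_iff.2 rfl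
      rw [ringKrullDim_eq_bot_of_subsingleton (R := A ⧸ (⊤ : Ideal A))] at h
      exact not_lt_bot h
    · obtain ⟨D, hD⟩ := HLVT.exists_dim_quot hJt
      obtain ⟨r, hr, hJr, hrD⟩ := HLVT.exists_prime_ge_dim J hD
      refine (hD ▸ h).not_ge (hrD.trans (hbound ⟨r, hr⟩ fun s hrs hIs => ?_))
      by_contra hK
      have hs : s ∈ Vᶜ := hJ ▸ hJr.trans hrs
      exact hs (hSV ⟨hIs, hK⟩)

end

end Groth.Agent.FormAlg
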