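import Groth.Agent.FormAlg.PicSurj
import Groth.Agent.InvExt.Main
import Groth.Agent.AmpleDesc.Basic

/-!
Extension of invertible modules from a neighbourhood of the divisor `f = 0` to the punctured spectrum.
-/

set_option autoImplicit false
set_option maxHeartbeats 1000000
set_option linter.style.haveILetI false
set_option backward.isDefEq.respectTransparency false
set_option backward.isDefEq.respectTransparency.types false
universe u

namespace Groth.Agent.FormAlg

open CategoryTheory CategoryTheory.Limits AlgebraicGeometry TopologicalSpace Opposite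
open Groth.Agent.QC (res resO)
open TMul (IsGen val homOf)

noncomputable section

/-- A trivialisation after localisation comes from a section generating along the image. -/
theorem exists_section_gen {A R : Type u} [CommRing A] [CommRing R] [Algebra A R] (M : Submonoid A)
    [IsLocalization M R] {O X' : Scheme.{u}} (f : O ⟶ Spec (CommRingCat.of A)) [QuasiCompact f] [QuasiSeparated f]
    {g' : X' ⟶ O} {f' : X' ⟶ Spec (CommRingCat.of R)}
    (H : IsPullback g' f' f (Spec.map (CommRingCat.ofHom (algebraMap A R))))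
    {L : O.Modules} (hL : PicF.IsInvertible L)
    (e : (Scheme.Modules.pullback g').obj L ≅ Coh.structureModule X') :
    ∃ m : Γ(L, ⊤), Set.range g'.base ⊆ (CohB1.genLocus L (homOf m) : Set O) := by
  classical
  let g := Spec.map (CommRingCat.ofHom (algebraMap A R))
  haveI : Module.Flat A R := IsLocalization.flat R M
  haveI : Flat g := (HasRingHomProperty.Spec_iff (P := @Flat)).2 (by
    rw [CommRingCat.hom_ofHom]; exact RingHom.flat_algebraMap_iff.2 inferInstance)
  obtain ⟨k, b, m, hz⟩ := AmpleDesc.exists_combination H (TMul.isQCoh_of_isInvertible hL) (val e.inv ⊤)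
  let eR := Scheme.ΓSpecIso (CommRingCat.of R)
  obtain ⟨s, hs⟩ := IsLocalization.exist_integer_multiples_of_finite M fun i => eR.hom (b i)
  choose a ha using hs
  let ψ := (Scheme.ΓSpecIso (CommRingCat.of A)).inv
  have key : ∀ x : A, g.appTop (ψ x) = eR.inv (algebraMap A R x) := fun x =>
    (congrArg (fun φ => φ x) (Scheme.ΓSpecIso_inv_naturality (CommRingCat.ofHom (algebraMap A R)))).symm
  have hb : ∀ i, g.appTop (ψ (a i)) = eR.inv (algebraMap A R (s : A)) * b i := fun i => by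
    rw [key, ha i, Algebra.smul_def, map_mul]
    congr 1
    exact congrArg (fun φ => φ (b i)) eR.hom_inv_id
  have hw : ∀ y : Γ(Spec (CommRingCat.of A), ⊤), f'.appTop (g.appTop y) = g'.appTop (f.appTop y) := fun y => by
    have h := congrArg (fun φ => (Scheme.Hom.appTop φ) y) H.w
    simp only [Scheme.Hom.comp_appTop] at h
    exact h.symm
  let c : Γ(X', ⊤) := f'.appTop (eR.inv (algebraMap A R (s : A)))
  have hc : IsUnit c := (((IsLocalization.map_units R s).map eR.inv.hom).map f'.appTop.hom)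
  let η := AmpleDesc.eta g' L
  have hadd : ∀ v : Fin k → Γ(L, ⊤), η (∑ i, v i) = ∑ i, η (v i) := fun v =>
    map_sum (((Scheme.Modules.pullbackPushforwardAdjunction g').unit.app L).app ⊤).hom v _
  have hsmul : ∀ (x : Γ(O, ⊤)) (v : Γ(L, ⊤)), η (x • v) = g'.appTop x • η v := fun x v =>
    Scheme.Modules.Hom.app_smul ((Scheme.Modules.pullbackPushforwardAdjunction g').unit.app L) x v
  let m₀ : Γ(L, ⊤) := ∑ i, f.appTop (ψ (a i)) • m i
  have hη : η m₀ = c • val e.inv ⊤ := by
    rw [hadd, hz, Finset.smul_sum]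
    refine Finset.sum_congr rfl fun i _ => ?_
    rw [hsmul, ← hw, hb, map_mul, mul_smul]
  have hgen : IsGen (η m₀) := by
    rw [hη]
    exact TMul.isGen_smul ((TMul.isIso_restrict_iff e.inv ⊤).1 inferInstance) hc
  refine ⟨m₀, ?_⟩
  rintro _ ⟨x, rfl⟩
  have h := TMul.genLocus_pullback g' hL (homOf m₀) (PicLoc.pullbackStructureIso g').symm
  have h' : IsGen (val ((PicLoc.pullbackStructureIso g').symm.hom ≫ (Scheme.Modules.pullback g').map (homOf m₀)) ⊤) := by
    rw [Iso.symm_hom, AmpleDesc.val_pullback, TMul.val_homOf, Groth.Agent.QC.res_self]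
    exact hgen
  exact (h.le (TMul.le_genLocus _ h' (trivial : x ∈ (⊤ : X'.Opens))) :)

/-- A compact open whose points below `q` lie in `G` lies in `G` near `q`. -/
theorem exists_basicOpen_inf_le {A : Type u} [CommRing A] {O G : (Spec (CommRingCat.of A)).Opens}
    (hO : IsCompact (O : Set (Spec (CommRingCat.of A)))) (q : PrimeSpectrum A) (hq : q ∉ O)
    (h : ∀ r : PrimeSpectrum A, r ≤ q → r ∈ O → r ∈ G) :
    ∃ s : A, s ∉ q.asIdeal ∧ PrimeSpectrum.basicOpen s ⊓ O ≤ G := by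
  classical
  obtain ⟨I, hI⟩ : ∃ I : Ideal A, ((G.1 : Set (PrimeSpectrum A))ᶜ) = PrimeSpectrum.zeroLocus (I : Set A) :=
    ⟨PrimeSpectrum.vanishingIdeal ((G.1 : Set (PrimeSpectrum A))ᶜ), by
      rw [PrimeSpectrum.zeroLocus_vanishingIdeal_eq_closure]
      exact G.isOpen.isClosed_compl.closure_eq.symm⟩
  have hc : ∀ y : O, ∃ a : A, (y.1 : PrimeSpectrum A) ∈ PrimeSpectrum.basicOpen a ∧ PrimeSpectrum.basicOpen a ≤ O := fun y => by
    obtain ⟨_, ⟨a, rfl⟩, hya, ha⟩ := PrimeSpectrum.isTopologicalBasis_basic_opens.exists_subset_of_mem_open y.2 O.isOpen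
    exact ⟨a, hya, ha⟩
  choose a hya haO using hc
  obtain ⟨t, ht⟩ := hO.elim_finite_subcover (fun y : O => (PrimeSpectrum.basicOpen (a y) : Set (PrimeSpectrum A)))
    (fun y => (PrimeSpectrum.basicOpen (a y)).isOpen) fun y hy => Set.mem_iUnion.2 ⟨⟨y, hy⟩, hya _⟩
  have hs : ∀ y : O, ∃ (s : A) (n : ℕ), s ∉ q.asIdeal ∧ s * a y ^ n ∈ I := fun y =>
    InvExt.exists_mul_pow_mem _ _ _ fun r hr hrq hIr => by
      by_contra har
      have h1 : (⟨r, hr⟩ : PrimeSpectrum A) ∈ (G.1 : Set (PrimeSpectrum A))ᶜ := hI ▸ hIr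
      exact h1 (h _ hrq (haO y har))
  choose s n hsq hsa using hs
  refine ⟨∏ y ∈ t, s y, q.asIdeal.primeCompl.prod_mem fun y _ => hsq y, ?_⟩
  rintro r ⟨hr, hrO⟩
  by_contra hrG
  obtain ⟨y, hy, hry⟩ := Set.mem_iUnion₂.1 (ht hrO)
  have h1 : r ∈ PrimeSpectrum.zeroLocus (I : Set A) := hI ▸ (hrG : r ∈ (G.1 : Set (PrimeSpectrum A))ᶜ)
  rcases r.2.mem_or_mem (h1 (hsa y)) with hm | hm
  · exact hr (r.asIdeal.mem_of_dvd (Finset.dvd_prod_of_mem s hy) hm)
  · exact hry (r.2.mem_of_pow_mem _ hm)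

/-- Closed subsets all of whose points are closed are finite and discrete. -/
theorem finite_discrete_of_closed {Y : Scheme.{u}} [NoetherianSpace Y] {Z : Set Y} (hZ : IsClosed Z)
    (h : ∀ z ∈ Z, IsClosed ({z} : Set Y)) : Z.Finite := by
  obtain ⟨T, hTfin, hTC, hTI, hTeq⟩ := NoetherianSpace.exists_finite_set_isClosed_irreducible hZ
  refine (Set.Finite.biUnion hTfin fun C hC => ?_).subset
    (fun y hy => by rw [hTeq, Set.sUnion_eq_biUnion] at hy; exact hy)
  obtain ⟨ξ, hξ⟩ := QuasiSober.sober (hTI C hC) (hTC C hC)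
  rw [← hξ.def, (h ξ (hTeq.ge ⟨C, hC, hξ.mem⟩)).closure_eq]
  exact Set.finite_singleton ξ

theorem local_pic_surjective {A : Type u} [CommRing A] [IsNoetherianRing A] [IsLocalRing A]
    (f : A) (hf : f ∈ IsLocalRing.maximalIdeal A) [IsAdicComplete (Ideal.span {f}) A] (hnzd : f ∈ nonZeroDivisors A)
    (h₁ : Module.Finite A (LocCoh.H (IsLocalRing.maximalIdeal A) 1 (A ⧸ Ideal.span {f})))
    (h₂ : Module.Finite A (LocCoh.H (IsLocalRing.maximalIdeal A) 2 (A ⧸ Ideal.span {f})))
    (h₃ : Subsingleton (LocCoh.H (IsLocalRing.maximalIdeal A) 3 (A ⧸ Ideal.span {f})))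
    (h₅ : ∀ (q : Ideal A) [q.IsPrime], f ∉ q → (∀ (q' : Ideal A), q'.IsPrime → q ≤ q' → f ∉ q' → q' = q) →
      Formal2.PicTrivial (↑(FEt.puncturedSpec (Localization.AtPrime q)) : Scheme.{u})) :
    Formal2.PicPullbackSurjective (Formal2.specQuotMap A f ∣_ FEt.puncturedSpec A) := by
  classical
  intro L₀ hL₀
  let P := FEt.puncturedSpec A
  let S := Formal2.specQuotMap A f
  obtain ⟨U', hU'P, hle, L, hL, ⟨eL⟩⟩ := local_pic_surjective_nhds P (IsLocalRing.maximalIdeal A)
    (puncturedSpec_eq A) f hnzd h₁ h₂ h₃ L₀ hL₀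
  let V : (↑P : Scheme.{u}).Opens := P.ι ⁻¹ᵁ U'
  let h : (↑V : Scheme.{u}) ⟶ ↑U' := P.ι ∣_ U'
  let L'' := (Scheme.Modules.pullback h).obj L
  have hL'' : PicF.IsInvertible L'' := PicLoc.isInvertible_pullback h hL
  let F := (Scheme.Modules.pushforward V.ι).obj L''
  have hF : UfdExtend.RankOne V F := S0234.rankOne_pushforward V hL''
  let eF : F.restrict V.ι ≅ L'' := (Scheme.Modules.restrictFunctorAdjCounitIso V.ι).app L''
  haveI : NoetherianSpace (Spec (CommRingCat.of A)) := inferInstanceAs (NoetherianSpace (PrimeSpectrum A))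
  haveI : NoetherianSpace (↑P : Scheme.{u}) := P.ι.isOpenEmbedding.isInducing.noetherianSpace
  let Z : Set (↑P : Scheme.{u}) := (V : Set (↑P : Scheme.{u}))ᶜ
  -- points of the complement are maximal among primes avoiding `f`
  have hdiv : ∀ r : PrimeSpectrum A, f ∈ r.asIdeal → r ≠ IsLocalRing.closedPoint A → r ∈ U' := fun r hfr hr => by
    obtain ⟨w, hw⟩ : r ∈ Set.range (PrimeSpectrum.comap (Ideal.Quotient.mk (Ideal.span {f}))) := by
      rw [range_comap_of_surjective _ _ Ideal.Quotient.mk_surjective, Ideal.mk_ker, PrimeSpectrum.mem_zeroLocus]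
      exact Ideal.span_le.2 (Set.singleton_subset_iff.2 hfr)
    subst hw
    exact hle hr
  have hmax : ∀ z : (↑P : Scheme.{u}), z ∈ Z → f ∉ (show PrimeSpectrum A from z.1).asIdeal ∧
      ∀ r : PrimeSpectrum A, (show PrimeSpectrum A from z.1) ≤ r → r = z.1 ∨ r = IsLocalRing.closedPoint A := by
    intro z hz
    refine ⟨fun hfz => hz (hdiv _ hfz z.2), fun r hr => eq_or_eq_of_meet _ _ hr f hf fun r' hr' hfr' => ?_⟩
    by_contra hne
    exact hz (((PrimeSpectrum.le_iff_specializes _ _).1 hr').mem_open U'.isOpen (hdiv r' hfr' hne))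
  have hclosed : ∀ z ∈ Z, IsClosed ({z} : Set (↑P : Scheme.{u})) := fun z hz => by
    refine closure_subset_iff_isClosed.1 fun y hy => ?_
    have hzy : (show PrimeSpectrum A from z.1) ≤ y.1 :=
      (PrimeSpectrum.le_iff_specializes _ _).2 ((specializes_iff_mem_closure.2 hy).map P.ι.continuous)
    rcases (hmax z hz).2 _ hzy with e | e
    · exact Subtype.ext e
    · exact absurd e y.2
  have hfin : Z.Finite := finite_discrete_of_closed V.isOpen.isClosed_compl hclosed
  -- neighbourhoods with generators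
  have hW : ∀ z : Z, ∃ W : (↑P : Scheme.{u}).Opens, z.1 ∈ W ∧ (∀ y ∈ W, y ∉ V → y = z.1) ∧
      ∃ g : Γ(F, W ⊓ V), IsGen g := by
    rintro ⟨z, hz⟩
    let T : (↑P : Scheme.{u}).Opens := ⟨(Z \ {z})ᶜ, by
      have h := (hfin.subset (Set.diff_subset (t := {z}))).isClosed_biUnion (f := fun y => {y}) fun y hy => hclosed y hy.1
      rw [Set.biUnion_of_singleton] at h
      exact h.isOpen_compl⟩
    let q : PrimeSpectrum A := z.1
    obtain ⟨hfq, hqmax⟩ := hmax z hz
    obtain ⟨_, ⟨b, rfl⟩, hqb, hbT⟩ := PrimeSpectrum.isTopologicalBasis_basic_opens.exists_subset_of_mem_open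
      (show q ∈ ((P.ι ''ᵁ T).1 : Set (PrimeSpectrum A)) from ⟨z, fun h => h.2 rfl, rfl⟩) (P.ι ''ᵁ T).isOpen
    let D : (↑P : Scheme.{u}).Opens := P.ι ⁻¹ᵁ PrimeSpectrum.basicOpen b
    have hDT : ∀ y ∈ D, y ∉ V → y = z := fun y hy hyV => by
      obtain ⟨y', hy', e⟩ := hbT (show y.1 ∈ PrimeSpectrum.basicOpen b from hy)
      obtain rfl : y' = y := P.ι.isOpenEmbedding.injective e
      by_contra hne
      exact hy' ⟨hyV, hne⟩
    let O : (↑P : Scheme.{u}).Opens := D ⊓ V
    let R := Localization.AtPrime q.asIdeal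
    let g := Spec.map (CommRingCat.ofHom (algebraMap A R))
    let Q := FEt.puncturedSpec R
    have hQ : ∀ y : (↑Q : Scheme.{u}), (show PrimeSpectrum A from g.base y.1) ≤ q ∧
        (show PrimeSpectrum A from g.base y.1) ≠ q := fun y => by
      let p : PrimeSpectrum R := y.1
      have h1 : (p.asIdeal.comap (algebraMap A R)) ≤ q.asIdeal := by
        refine (Ideal.comap_mono (IsLocalRing.le_maximalIdeal p.2.ne_top)).trans (le_of_eq ?_)
        exact Localization.AtPrime.comap_maximalIdeal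
      refine ⟨h1, fun e => y.2 ?_⟩
      have e' : p.asIdeal.comap (algebraMap A R) = q.asIdeal := congrArg PrimeSpectrum.asIdeal e
      refine PrimeSpectrum.ext ?_
      refine (IsLocalization.map_comap q.asIdeal.primeCompl R p.asIdeal).symm.trans ?_
      refine (congrArg (Ideal.map _) e').trans ?_
      exact Localization.AtPrime.map_eq_maximalIdeal
    have hPmem : ∀ y : (↑Q : Scheme.{u}), g.base y.1 ∈ P := fun y e =>
      hfq ((hQ y).1 (by rw [e]; exact hf))
    let ρ : (↑Q : Scheme.{u}) ⟶ ↑P := IsOpenImmersion.lift P.ι (Q.ι ≫ g) (by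
      rw [Scheme.Opens.range_ι]
      rintro _ ⟨y, rfl⟩
      exact hPmem y)
    have hρ : ρ ≫ P.ι = Q.ι ≫ g := IsOpenImmersion.lift_fac _ _ _
    have hρV : Set.range ρ.base ⊆ Set.range V.ι.base := by
      rw [Scheme.Opens.range_ι]
      rintro _ ⟨y, rfl⟩
      by_contra hy
      have he : (ρ.base y).1 = g.base y.1 := congrArg (fun φ => φ.base y) hρ
      rcases (hmax _ hy).2 q (by rw [show (ρ.base y).1 = g.base y.1 from he]; exact (hQ y).1) with e | e
      · exact (hQ y).2 (he.symm.trans e.symm)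
      · exact hfq (by show f ∈ q.asIdeal; rw [e]; exact hf)
    let σ : (↑Q : Scheme.{u}) ⟶ ↑V := IsOpenImmersion.lift V.ι ρ hρV
    have hσ : σ ≫ V.ι = ρ := IsOpenImmersion.lift_fac _ _ _
    obtain ⟨τ⟩ := h₅ q.asIdeal hfq (fun q' hq' hqq' hfq' => by
        rcases hqmax ⟨q', hq'⟩ hqq' with e | e
        · exact congrArg PrimeSpectrum.asIdeal e
        · exact absurd (by rw [show q' = _ from congrArg PrimeSpectrum.asIdeal e]; exact hf) hfq')
      ((Scheme.Modules.pullback σ).obj (F.restrict V.ι))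
      (PicLoc.isInvertible_pullback σ (ParaFLib.isInvertible_of_iso eF.symm hL''))
    let X' := pullback (O.ι ≫ P.ι) g
    have hv : Set.range (pullback.snd (O.ι ≫ P.ι) g).base ⊆ Set.range Q.ι.base := by
      rw [Scheme.Opens.range_ι]
      rintro _ ⟨w, rfl⟩ e
      have h1 : P.ι.base (O.ι.base ((pullback.fst (O.ι ≫ P.ι) g).base w)) = g.base ((pullback.snd (O.ι ≫ P.ι) g).base w) :=
        congrArg (fun φ : pullback (O.ι ≫ P.ι) g ⟶ _ => φ.base w) pullback.condition
      have h2 : g.base ((pullback.snd (O.ι ≫ P.ι) g).base w) = q := by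
        rw [e]
        exact PrimeSpectrum.ext Localization.AtPrime.comap_maximalIdeal
      have h3 : O.ι.base ((pullback.fst (O.ι ≫ P.ι) g).base w) = z :=
        P.ι.isOpenEmbedding.injective (h1.trans h2)
      exact hz (h3 ▸ ((pullback.fst (O.ι ≫ P.ι) g).base w).2.2)
    let v := IsOpenImmersion.lift Q.ι (pullback.snd (O.ι ≫ P.ι) g) hv
    have hfac : pullback.fst (O.ι ≫ P.ι) g ≫ O.ι = (v ≫ σ) ≫ V.ι := by
      rw [Category.assoc, hσ, ← cancel_mono P.ι, Category.assoc, Category.assoc, hρ, ← Category.assoc v,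
        IsOpenImmersion.lift_fac, pullback.condition]
    have hOinv : PicF.IsInvertible (F.restrict O.ι) := InvGen.isInvertible_restrict O.ι fun y => by
      obtain ⟨N, t, hyN, ht⟩ := hF.gen (O.ι.base y) y.2.2
      exact ⟨N, t, hyN, ht⟩
    haveI : IsNoetherian (↑P : Scheme.{u}) := {}
    obtain ⟨m, hm⟩ := exists_section_gen q.asIdeal.primeCompl (O.ι ≫ P.ι)
      (IsPullback.of_hasPullback (O.ι ≫ P.ι) g) hOinv
      ((Scheme.Modules.pullback _).mapIso ((Scheme.Modules.restrictFunctorIsoPullback O.ι).app F) ≪≫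
        (Scheme.Modules.pullbackComp _ O.ι).app F ≪≫ (Scheme.Modules.pullbackCongr hfac).app F ≪≫
        ((Scheme.Modules.pullbackComp (v ≫ σ) V.ι).app F).symm ≪≫
        (Scheme.Modules.pullback (v ≫ σ)).mapIso ((Scheme.Modules.restrictFunctorIsoPullback V.ι).app F).symm ≪≫
        ((Scheme.Modules.pullbackComp v σ).app _).symm ≪≫ (Scheme.Modules.pullback v).mapIso τ ≪≫
        PicLoc.pullbackStructureIso v)
    let G := CohB1.genLocus (F.restrict O.ι) (homOf m)
    have hgen := (TMul.isGen_restrict_iff O.ι (homOf m) G).1 (TMul.isGen_genLocus (homOf m))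
    obtain ⟨s, hsq, hsG⟩ := exists_basicOpen_inf_le (O := P.ι ''ᵁ O) (G := P.ι ''ᵁ (O.ι ''ᵁ G))
      (NoetherianSpace.isCompact _) q (by
        rintro ⟨y, hy, e⟩
        exact hz ((P.ι.isOpenEmbedding.injective e : y = z) ▸ hy.2))
      (by
        rintro r hr ⟨y, hy, rfl⟩
        obtain ⟨p, hp⟩ : P.ι.base y ∈ Set.range g.base := by
          have h1 := PrimeSpectrum.localization_comap_range R q.asIdeal.primeCompl
          exact h1.ge (Set.disjoint_left.2 fun x hx hx' => hx (hr hx'))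
        obtain ⟨w, hw1, -⟩ := Scheme.Pullback.exists_preimage_pullback (f := O.ι ≫ P.ι) (g := g)
          (⟨y, hy⟩ : (↑O : Scheme.{u})) p hp.symm
        exact ⟨y, ⟨⟨y, hy⟩, hm ⟨w, hw1⟩, rfl⟩, rfl⟩)
    refine ⟨D ⊓ P.ι ⁻¹ᵁ PrimeSpectrum.basicOpen s, ⟨hqb, hsq⟩, fun y hy => hDT y hy.1, ?_⟩
    have hWG : (D ⊓ P.ι ⁻¹ᵁ PrimeSpectrum.basicOpen s) ⊓ V ≤ O.ι ''ᵁ G := by
      rintro y ⟨⟨hyD, hys⟩, hyV⟩
      obtain ⟨y', hy', e⟩ := hsG ⟨hys, y, ⟨hyD, hyV⟩, rfl⟩
      rwa [← P.ι.isOpenEmbedding.injective e]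
    exact ⟨_, hgen.res hWG⟩
  choose W hzW hWone gW hgW using hW
  obtain ⟨Lt, hLt, ⟨eLt⟩, -⟩ := InvExt.exists_extension_sections hF gW hgW
    (fun z z' hne y hy => by
      by_contra hyV
      exact hne (Subtype.ext ((hWone z y hy.1 hyV).symm.trans (hWone z' y hy.2 hyV))))
    (fun x hx => ⟨⟨x, hx⟩, hzW ⟨x, hx⟩⟩)
  refine ⟨Lt, hLt, ⟨?_⟩⟩
  let r := S ∣_ P
  let κ : (↑(S ⁻¹ᵁ P) : Scheme.{u}) ⟶ ↑V := IsOpenImmersion.lift V.ι r (by
    rw [Scheme.Opens.range_ι]
    rintro _ ⟨w, rfl⟩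
    show P.ι.base (r.base w) ∈ U'
    rw [show P.ι.base (r.base w) = S.base w.1 from congrArg (fun φ => φ.base w) (morphismRestrict_ι S P)]
    exact hle w.2)
  have hκ : κ ≫ V.ι = r := IsOpenImmersion.lift_fac _ _ _
  have hκh : κ ≫ h = S.resLE U' _ hle := by
    rw [← cancel_mono U'.ι, Category.assoc, morphismRestrict_ι, ← Category.assoc, hκ, Scheme.Hom.resLE_comp_ι]
    exact morphismRestrict_ι S P
  exact (Scheme.Modules.pullbackCongr hκ.symm).app Lt ≪≫ ((Scheme.Modules.pullbackComp κ V.ι).app Lt).symm ≪≫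
    (Scheme.Modules.pullback κ).mapIso (((Scheme.Modules.restrictFunctorIsoPullback V.ι).app Lt).symm ≪≫ eLt ≪≫ eF) ≪≫
    (Scheme.Modules.pullbackComp κ h).app L ≪≫ (Scheme.Modules.pullbackCongr hκh).app L ≪≫ eL

end

end Groth.Agent.FormAlg
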