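import Groth.Agent.FormAlg.Existence
import Groth.Agent.ExpSeq.DeformTower
import Groth.Agent.W7Adic.Ample
import Groth.Agent.W7Alg.Morph
import Groth.Agent.ThickPic.System

/-!
Lifting invertible modules along the thickenings of a principal divisor of an open subscheme of `Spec A`.
-/

set_option autoImplicit false
set_option maxHeartbeats 1000000
set_option linter.style.haveILetI false
set_option backward.isDefEq.respectTransparency false
set_option backward.isDefEq.respectTransparency.types false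
universe u

namespace Groth.Agent.FormAlg

open CategoryTheory CategoryTheory.Limits AlgebraicGeometry TopologicalSpace Opposite
open Groth.Agent.ExpSeq (Deform.Small)

noncomputable section

namespace PicLift

variable {A : Type u} [CommRing A] {I : Ideal A} (T : W7Adic.Tower I)

/-- The closed fibre in a level, over the base. -/
theorem isPullback_j : ∀ n, IsPullback (W7Adic.j T n) (T.p 0) (T.p n)
    (Spec.map (CommRingCat.ofHom (Ideal.Quotient.factor
      (Ideal.pow_le_pow_right (I := I) (show 1 ≤ n + 1 by omega)))))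
  | 0 => by
    have h : Ideal.Quotient.factor (Ideal.pow_le_pow_right (I := I) (show 1 ≤ 0 + 1 by omega)) =
        RingHom.id _ := Ideal.Quotient.ringHom_ext (RingHom.ext fun x => rfl)
    rw [h, CommRingCat.ofHom_id, Spec.map_id]
    exact IsPullback.of_id_fst
  | n + 1 => by
    have h := (isPullback_j n).paste_horiz (T.cart n)
    rw [CohB1.specQuotTrans, ← Spec.map_comp, ← CommRingCat.ofHom_comp, Ideal.Quotient.factor_comp] at h
    exact h

theorem isHomeomorph_i (n : ℕ) : IsHomeomorph (T.i n).base := by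
  haveI : Surjective (T.i n) := MorphismProperty.of_isPullback (P := @Surjective) (T.cart n).flip inferInstance
  exact isHomeomorph_iff_isEmbedding_surjective.2
    ⟨(T.i n).isClosedEmbedding.isEmbedding, (T.i n).surjective⟩

theorem isNilpotent_app (n : ℕ) (U : (T.X (n + 1)).Opens) (hU : IsAffineOpen U) (z : Γ(T.X (n + 1), U))
    (hz : (T.i n).app U z = 0) : IsNilpotent z := by
  letI : (T.X (n + 1)).Over (Spec (CommRingCat.of (A ⧸ I ^ (n + 2)))) := ⟨T.p (n + 1)⟩
  have hk := W7Alg.ker_app_baseChange (f' := T.p n)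
    (Ideal.Quotient.factor (Ideal.pow_le_pow_right (Nat.le_succ (n + 1)))) (Ideal.Quotient.factor_surjective _)
    (T.cart n) ⟨U, hU⟩
  have hmem : z ∈ RingHom.ker ((T.i n).app U).hom := hz
  rw [hk, Ideal.Quotient.factor_ker] at hmem
  refine ⟨2, ?_⟩
  have h2 := Ideal.pow_mem_pow hmem 2
  rw [← Ideal.map_pow, ← Ideal.map_pow, ← pow_mul] at h2
  rw [← Ideal.mem_bot]
  refine Ideal.map_bot (f := W7Cech.secRing (A ⧸ I ^ (n + 2)) U) ▸
    Ideal.map_mono (le_of_le_of_eq ?_ (Ideal.map_quotient_self (I ^ (n + 2)))) h2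
  exact Ideal.map_mono (Ideal.pow_le_pow_right (by omega))

variable {t : A} (T : W7Adic.Tower (Ideal.span {t})) (ht : t ∈ nonZeroDivisors A)

include ht in
theorem small (n : ℕ) (hflat : Flat (T.p (n + 1))) :
    letI : (T.X (n + 1)).Over (Spec (CommRingCat.of (A ⧸ Ideal.span {t} ^ (n + 2)))) := ⟨T.p (n + 1)⟩
    Deform.Small (T.i n) (W7Adic.j T (n + 1))
      ((Ideal.span {t} ^ (n + 1)).map (Ideal.Quotient.mk (Ideal.span {t} ^ (n + 2))))
      ((Ideal.span {t}).map (Ideal.Quotient.mk (Ideal.span {t} ^ (n + 2))))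
      (fun _ : Fin 1 => Ideal.Quotient.mk (Ideal.span {t} ^ (n + 2)) (t ^ (n + 1))) := by
  letI : (T.X (n + 1)).Over (Spec (CommRingCat.of (A ⧸ Ideal.span {t} ^ (n + 2)))) := ⟨T.p (n + 1)⟩
  refine ⟨hflat, inferInstance, inferInstance, fun U => ?_, fun U => ?_, ?_,
    Ideal.map_mono (Ideal.pow_le_self (by omega)), ?_, fun c hc s => ?_⟩
  · rw [W7Alg.ker_app_baseChange (f' := T.p n) (Ideal.Quotient.factor (Ideal.pow_le_pow_right (Nat.le_succ (n + 1))))
      (Ideal.Quotient.factor_surjective _) (T.cart n) U, Ideal.Quotient.factor_ker]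
  · rw [W7Alg.ker_app_baseChange (f' := T.p 0) (Ideal.Quotient.factor (Ideal.pow_le_pow_right (show 1 ≤ n + 2 by omega)))
      (Ideal.Quotient.factor_surjective _) (isPullback_j T (n + 1)) U, Ideal.Quotient.factor_ker, pow_one]
  · rw [Ideal.span_singleton_pow t (n + 1), Ideal.map_span, Set.image_singleton, Set.range_const]
  · rw [← Ideal.map_mul, ← pow_succ', Ideal.map_quotient_self]
  · obtain ⟨b, hb⟩ := Ideal.Quotient.mk_surjective (c 0)
    rw [Fin.sum_univ_one, ← hb, ← map_mul, Ideal.Quotient.eq_zero_iff_mem, Ideal.span_singleton_pow,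
      Ideal.mem_span_singleton'] at hc
    obtain ⟨d, hd⟩ := hc
    rw [Subsingleton.elim s 0, ← hb]
    refine Ideal.mem_map_of_mem _ (Ideal.mem_span_singleton'.2 ⟨d, ?_⟩)
    refine sub_eq_zero.1 (mem_nonZeroDivisors_iff_right.1 (pow_mem ht (n + 1)) _ ?_)
    rw [sub_mul, mul_assoc, ← pow_succ', hd, sub_self]

section

attribute [local instance] W7Cube.law

include ht in
theorem surjective_pull (n : ℕ) (hflat : Flat (T.p (n + 1)))
    (h2 : Subsingleton (Coh.HH (T.X 0) (Coh.structureModule (T.X 0)) 2)) :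
    Function.Surjective (W7Cube.pull (T.i n)) := by
  letI : (T.X (n + 1)).Over (Spec (CommRingCat.of (A ⧸ Ideal.span {t} ^ (n + 2)))) := ⟨T.p (n + 1)⟩
  exact ThickPic.pullHom_surjective _ (isHomeomorph_i T n) (isNilpotent_app T n) _
    ((small T ht n hflat).subsingleton_h 2 h2)

end

end PicLift

section Bridge

variable {A : Type u} [CommRing A] (U : (Spec (CommRingCat.of A)).Opens) (t : A)

/-- The `n`-th thickening of `U ∩ V(t)` as a base change. -/
abbrev thickU (n : ℕ) : Scheme.{u} := CohB1.thick U.ι (Ideal.span {t}) n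

theorem ker_thickU (n : ℕ) :
    (CohB1.thickι U.ι (Ideal.span {t}) n).ker = (FSch.completionToX (↑U : Scheme.{u}) (divisorIdeal U t) n).ker := by
  refine Scheme.IdealSheafData.ext (funext fun V => ?_)
  rw [W7Alg.ker_thickι, ker_completionToX (divisorIdeal_ideal U t) n V, Ideal.map_span, Set.image_singleton,
    Ideal.span_singleton_pow]

theorem exists_theta :
    ∃ θ : ∀ n, (FSch.completionAlong (↑U : Scheme.{u}) (divisorIdeal U t)).X n ⟶ thickU U t n,
      (∀ n, IsIso (θ n)) ∧
      (∀ n, θ n ≫ CohB1.thickι U.ι (Ideal.span {t}) n = FSch.completionToX (↑U : Scheme.{u}) (divisorIdeal U t) n) ∧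
      ∀ n, θ n ≫ CohB1.thickTrans U.ι (Ideal.span {t}) n =
        (FSch.completionAlong (↑U : Scheme.{u}) (divisorIdeal U t)).ι n ≫ θ (n + 1) := by
  haveI hc : ∀ n, IsClosedImmersion (CohB1.thickι U.ι (Ideal.span {t}) n) := fun n => by
    haveI : IsClosedImmersion (CohB1.specQuot (Ideal.span {t}) n) :=
      IsClosedImmersion.spec_of_surjective _ Ideal.Quotient.mk_surjective
    exact MorphismProperty.pullback_fst _ _ inferInstance
  let θ := fun n => IsClosedImmersion.lift (CohB1.thickι U.ι (Ideal.span {t}) n)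
    (FSch.completionToX (↑U : Scheme.{u}) (divisorIdeal U t) n) (ker_thickU U t n).le
  have hθ : ∀ n, θ n ≫ CohB1.thickι U.ι (Ideal.span {t}) n =
      FSch.completionToX (↑U : Scheme.{u}) (divisorIdeal U t) n := fun n => IsClosedImmersion.lift_fac _ _ _
  refine ⟨θ, fun n => ⟨IsClosedImmersion.lift (FSch.completionToX (↑U : Scheme.{u}) (divisorIdeal U t) n)
    (CohB1.thickι U.ι (Ideal.span {t}) n) (ker_thickU U t n).ge, ?_, ?_⟩, hθ, fun n => ?_⟩
  · rw [← cancel_mono (FSch.completionToX (↑U : Scheme.{u}) (divisorIdeal U t) n), Category.assoc,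
      IsClosedImmersion.lift_fac, hθ, Category.id_comp]
  · rw [← cancel_mono (CohB1.thickι U.ι (Ideal.span {t}) n), Category.assoc, hθ, IsClosedImmersion.lift_fac,
      Category.id_comp]
  · rw [← cancel_mono (CohB1.thickι U.ι (Ideal.span {t}) (n + 1)), Category.assoc, Category.assoc,
      W7Alg.thickTrans_fst, hθ, hθ, ι_completionToX]

attribute [local instance] W7Cube.law

/-- **Invertible modules on the divisor lift to the formal completion when its structure sheaf has no `H²`.** -/
theorem exists_lift_system (ht : t ∈ nonZeroDivisors A)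
    (h2 : Subsingleton (Coh.HH (thickU U t 0) (Coh.structureModule (thickU U t 0)) 2))
    (L₀ : ((FSch.completionAlong (↑U : Scheme.{u}) (divisorIdeal U t)).X 0).Modules) (hL₀ : PicF.IsInvertible L₀) :
    ∃ 𝔐 : FSch.ModSys (FSch.completionAlong (↑U : Scheme.{u}) (divisorIdeal U t)),
      (∀ n, PicF.IsInvertible (𝔐.F n)) ∧ Nonempty (𝔐.F 0 ≅ L₀) := by
  obtain ⟨θ, hθ, -, hθc⟩ := exists_theta U t
  haveI := hθ
  let T := W7Adic.thickTower (Ideal.span {t}) U.ι
  have hflat : ∀ n, Flat (T.p n) := fun n => MorphismProperty.pullback_snd (P := @Flat) _ _ inferInstance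
  choose up hup using fun n => PicLift.surjective_pull T ht n (hflat (n + 1)) h2
  let c : ∀ n, PicLoc.PicSet (thickU U t n) := fun n =>
    Nat.rec (motive := fun n => PicLoc.PicSet (thickU U t n))
      (W7Cube.pull (inv (θ 0)) (PicGrp.cls L₀ hL₀)) (fun n a => up n a) n
  let d : ∀ n, PicLoc.PicSet ((FSch.completionAlong (↑U : Scheme.{u}) (divisorIdeal U t)).X n) :=
    fun n => W7Cube.pull (θ n) (c n)
  choose L hL hd using fun n => PicGrp.exists_eq_cls (d n)
  have hstep : ∀ n, W7Cube.pull ((FSch.completionAlong (↑U : Scheme.{u}) (divisorIdeal U t)).ι n) (d (n + 1)) = d n :=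
    fun n => by
      show W7Cube.pull _ (W7Cube.pull (θ (n + 1)) (c (n + 1))) = _
      rw [W7Cube.pull_pull, ThickPic.pull_congr (hθc n).symm, ← W7Cube.pull_pull]
      exact congrArg (W7Cube.pull (θ n)) (hup n (c n))
  have he : ∀ n, Nonempty ((Scheme.Modules.pullback
      ((FSch.completionAlong (↑U : Scheme.{u}) (divisorIdeal U t)).ι n)).obj (L (n + 1)) ≅ L n) := fun n => by
    refine (PicGrp.cls_eq_cls_iff (PicLoc.isInvertible_pullback _ (hL (n + 1))) (hL n)).1 ?_
    rw [← W7Cube.pull_cls _ (L (n + 1)) (hL (n + 1)), ← hd, ← hd]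
    exact hstep n
  refine ⟨⟨L, fun n => (he n).some⟩, hL, (PicGrp.cls_eq_cls_iff (hL 0) hL₀).1 ((hd 0).symm.trans ?_)⟩
  show W7Cube.pull (θ 0) (W7Cube.pull (inv (θ 0)) (PicGrp.cls L₀ hL₀)) = _
  rw [W7Cube.pull_pull, ThickPic.pull_congr (IsIso.hom_inv_id (θ 0)), W7Cube.pull_cls _ L₀ hL₀]
  exact (PicGrp.cls_eq_cls_iff _ hL₀).2 ⟨(Scheme.Modules.pullbackId _).app L₀⟩

end Bridge

end

end Groth.Agent.FormAlg
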