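import Groth.Agent.FormAlg.PicLift
import Groth.Agent.FormAlg.FreeFin
import Groth.Agent.FormAlg.LefPunct
import Groth.Agent.RelPCS.Push
import Groth.Agent.ExpSeq.Square
import Groth.Agent.ThickInv.Main

/-!
Algebraization of invertible modules on the divisor `t = 0` of `Spec A - V(𝔞)`.
-/

set_option autoImplicit false
set_option maxHeartbeats 1000000
set_option linter.style.haveILetI false
set_option backward.isDefEq.respectTransparency false
set_option backward.isDefEq.respectTransparency.types false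
universe u

namespace Groth.Agent.FormAlg

open CategoryTheory CategoryTheory.Limits AlgebraicGeometry TopologicalSpace Opposite
open Groth.Agent.PunctArt (RR HU')

noncomputable section

variable {A : Type u} [CommRing A] (U : (Spec (CommRingCat.of A)).Opens)

theorem nonempty_modPow_structure (f : A) (m : ℕ) :
    Nonempty (Formal.modPow (Ideal.span {f}) m (Coh.structureModule (↑U : Scheme.{u})) ≅ (RR U).obj (pwQ f m 1)) := by
  let e : (RR U).obj (pw 1) ≅ Coh.structureModule (↑U : Scheme.{u}) :=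
    (RR U).mapIso ((LinearEquiv.funUnique (Fin 1) A A).toModuleIso) ≪≫ RRselfIso U
  obtain ⟨h, hex, hepi⟩ := RR_pwSeq_exact U f m 1
  haveI := hepi
  refine nonempty_modPow_iso f m (e.inv ≫ (RR U).map (pwMk f m 1)) ?_ fun {P} φ hφ => ?_
  · rw [← Category.assoc, W7Cech.smulMod_natural, Category.assoc, h, comp_zero]
  · have hφ' : Formal.smulMod A ((RR U).obj (pw 1)) (f ^ m) ≫ e.hom ≫ φ = 0 := by
      rw [← Category.assoc, W7Cech.smulMod_natural, Category.assoc, hφ, comp_zero]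
    exact ⟨hex.desc (e.hom ≫ φ) hφ', by rw [Category.assoc, hex.g_desc, e.inv_hom_id_assoc]⟩

theorem nonempty_restrict_push {X Y : Scheme.{u}} (i : X ⟶ Y) (V : Y.Opens) (L : X.Modules)
    (e : L.restrict (i ⁻¹ᵁ V).ι ≅ Coh.structureModule (↑(i ⁻¹ᵁ V) : Scheme.{u})) :
    Nonempty ((Scheme.Modules.restrictFunctor V.ι).obj ((Scheme.Modules.pushforward i).obj L) ≅
      (Scheme.Modules.restrictFunctor V.ι).obj ((Scheme.Modules.pushforward i).obj (Coh.structureModule X))) :=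
  ⟨(RelPCS.pushRestrIso i V).app L ≪≫
    (Scheme.Modules.pushforward (i ∣_ V)).mapIso (e ≪≫ asIso (LefDiv.oneU (i ⁻¹ᵁ V))) ≪≫
    ((RelPCS.pushRestrIso i V).app (Coh.structureModule X)).symm⟩

variable {U} {t : A} {m : ℕ} {Z : Scheme.{u}} (j : Z ⟶ (↑U : Scheme.{u})) [IsClosedImmersion j]
  (hj : ∀ V : (↑U : Scheme.{u}).affineOpens, j.ker.ideal V = Ideal.span {W7Cech.secRing A V.1 t ^ m})

include hj in
theorem nonempty_push_structure :
    Nonempty ((Scheme.Modules.pushforward j).obj (Coh.structureModule Z) ≅ (RR U).obj (pwQ t m 1)) := by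
  obtain ⟨α, -⟩ := exists_iso_modPow j hj (Coh.structureModule (↑U : Scheme.{u}))
  obtain ⟨β⟩ := nonempty_modPow_structure U t m
  exact ⟨(Scheme.Modules.pushforward j).mapIso (PicLoc.pullbackStructureIso j).symm ≪≫ α.symm ≪≫ β⟩

include hj in
theorem isFinLocFreeMod_push (L : Z.Modules) (hL : PicF.IsInvertible L) :
    Formal2.IsFinLocFreeMod (Ideal.span {t}) m ((Scheme.Modules.pushforward j).obj L) := by
  intro x
  by_cases hx : x ∈ Set.range j.base
  · obtain ⟨z, rfl⟩ := hx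
    obtain ⟨W, hzW, ⟨e⟩⟩ := hL z
    obtain ⟨S, hS, hSW⟩ := j.isClosedEmbedding.isInducing.isOpen_iff.1 W.2
    obtain ⟨V, hV⟩ : ∃ V : (↑U : Scheme.{u}).Opens, V.1 = S := ⟨⟨S, hS⟩, rfl⟩
    obtain rfl : W = j ⁻¹ᵁ V := TopologicalSpace.Opens.ext (hSW.symm.trans (by rw [← hV]; rfl))
    refine ⟨V, 1, hzW, ?_⟩
    obtain ⟨e₁⟩ := nonempty_push_structure j hj
    obtain ⟨e₂⟩ := nonempty_modPow_free U t m 1
    obtain ⟨e₀⟩ := nonempty_restrict_push j V L e
    exact ⟨e₀ ≪≫ (Scheme.Modules.restrictFunctor V.ι).mapIso (e₁ ≪≫ e₂.symm)⟩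
  · let V : (↑U : Scheme.{u}).Opens := ⟨(Set.range j.base)ᶜ, j.isClosedEmbedding.isClosed_range.isOpen_compl⟩
    obtain ⟨e₂⟩ := nonempty_modPow_free U t m 0
    have hz : IsZero ((RR U).obj (pwQ t m 0)) := Functor.map_isZero _ (ModuleCat.isZero_of_subsingleton _)
    have h1 : IsZero ((Scheme.Modules.restrictFunctor V.ι).obj ((Scheme.Modules.pushforward j).obj L)) := by
      rw [IsZero.iff_id_eq_zero]
      refine Scheme.Modules.hom_ext _ _ fun W => ?_
      ext s
      refine QC.section_eq_of_locally (M := L) (U := j ⁻¹ᵁ (V.ι ''ᵁ W)) fun y hy => ?_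
      obtain ⟨a, -, ha⟩ := hy
      exact absurd ⟨y, ha.symm⟩ a.2
    exact ⟨V, 0, hx, ⟨h1.iso (Functor.map_isZero _ (hz.of_iso e₂))⟩⟩

include hj in
theorem subsingleton_hh_two [IsNoetherianRing A] {𝔞 : Ideal A} (hU : U = EGA4.openCompl A 𝔞)
    (h₃ : Subsingleton (LocCoh.H 𝔞 3 (A ⧸ Ideal.span {t ^ m}))) :
    Subsingleton (Coh.HH Z (Coh.structureModule Z) 2) := by
  subst hU
  obtain ⟨e⟩ := nonempty_push_structure j hj
  obtain ⟨e'⟩ := nonempty_linearEquiv 𝔞 1 (pwQ t m 1)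
  obtain ⟨l⟩ := S0459.result (X := Z.toTopCat) (Y := (↑(EGA4.openCompl A 𝔞) : Scheme.{u}).toTopCat) j.base
    j.isClosedEmbedding (Coh.toAb (Coh.structureModule Z)) 2
  haveI : Subsingleton ↑((localCohomology 𝔞 (1 + 2)).obj (pwQ t m 1)) := by
    let i : pwQ t m 1 ≅ ModuleCat.of A (A ⧸ Ideal.span {t ^ m}) := (LinearEquiv.funUnique (Fin 1) A _).toModuleIso
    haveI : Subsingleton ↑((localCohomology 𝔞 (1 + 2)).obj (ModuleCat.of A (A ⧸ Ideal.span {t ^ m}))) := h₃
    exact ((localCohomology 𝔞 (1 + 2)).mapIso i).toLinearEquiv.toEquiv.subsingleton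
  haveI : Subsingleton (HU' (EGA4.openCompl A 𝔞) 2 (pwQ t m 1)) := e'.toEquiv.subsingleton
  have hs : Subsingleton (Coh.HH (↑(EGA4.openCompl A 𝔞) : Scheme.{u})
      ((Scheme.Modules.pushforward j).obj (Coh.structureModule Z)) 2) :=
    (CohFinite.hhEquiv A e 2).toEquiv.subsingleton
  exact @Equiv.subsingleton _ _ l.toEquiv hs

variable [IsNoetherianRing A]

theorem exists_algebraization_invertible (𝔞 : Ideal A) (hU : U = EGA4.openCompl A 𝔞) (ht : t ∈ nonZeroDivisors A)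
    [IsAdicComplete (Ideal.span {t}) A]
    (h₁ : Module.Finite A (LocCoh.H 𝔞 1 (A ⧸ Ideal.span {t})))
    (h₂ : Module.Finite A (LocCoh.H 𝔞 2 (A ⧸ Ideal.span {t})))
    (h₃ : Subsingleton (LocCoh.H 𝔞 3 (A ⧸ Ideal.span {t})))
    (L₀ : ((FSch.completionAlong (↑U : Scheme.{u}) (divisorIdeal U t)).X 0).Modules) (hL₀ : PicF.IsInvertible L₀) :
    ∃ (F : (↑U : Scheme.{u}).Modules) (𝔐 : FSch.ModSys (FSch.completionAlong (↑U : Scheme.{u}) (divisorIdeal U t))),
      Coh.IsCoh F ∧ (∀ n, PicF.IsInvertible (𝔐.F n)) ∧ Nonempty (𝔐.F 0 ≅ L₀) ∧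
        Nonempty (FSch.completionMod (divisorIdeal U t) F ≅ 𝔐) := by
  haveI hc : IsClosedImmersion (CohB1.thickι U.ι (Ideal.span {t}) 0) := by
    haveI : IsClosedImmersion (CohB1.specQuot (Ideal.span {t}) 0) :=
      IsClosedImmersion.spec_of_surjective _ Ideal.Quotient.mk_surjective
    exact MorphismProperty.pullback_fst _ _ inferInstance
  have h2 : Subsingleton (Coh.HH (thickU U t 0) (Coh.structureModule (thickU U t 0)) 2) :=
    subsingleton_hh_two (t := t) (m := 1) (CohB1.thickι U.ι (Ideal.span {t}) 0)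
      (fun V => by rw [ker_thickU]; exact ker_completionToX (divisorIdeal_ideal U t) 0 V) hU (by rwa [pow_one])
  obtain ⟨𝔐, hinv, h0⟩ := exists_lift_system U t ht h2 L₀ hL₀
  have hcoh : 𝔐.IsCoh := fun n => ⟨TMul.isQCoh_of_isInvertible (hinv n), TMul.isFT_of_isInvertible (hinv n)⟩
  have hG := isCohFormal_sysFun (divisorIdeal_ideal U t) 𝔐 hcoh
  have hfree : ∀ n : ℕ, Formal2.IsFinLocFreeMod (Ideal.span {t}) (n + 1) ((sysFun 𝔐).obj (op n)) := fun n =>
    isFinLocFreeMod_push (FSch.completionToX (↑U : Scheme.{u}) (divisorIdeal U t) n)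
      (ker_completionToX (divisorIdeal_ideal U t) n) (𝔐.F n) (hinv n)
  subst hU
  obtain ⟨F, hF, ⟨α⟩⟩ := algebraize_free 𝔞 t ht h₁ h₂ (sysFun 𝔐) hG hfree
  exact ⟨F, 𝔐, hF, hinv, h0, nonempty_completionMod_iso (divisorIdeal_ideal _ t) 𝔐 F α⟩

end

end Groth.Agent.FormAlg

namespace Groth.Agent.FormAlg

open CategoryTheory CategoryTheory.Limits AlgebraicGeometry TopologicalSpace Opposite

noncomputable section

/-- A coherent module with invertible thickenings is free of rank one along the divisor. -/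
theorem free1_of_levels {A : Type u} [CommRing A] [IsNoetherianRing A] {X : Scheme.{u}} [IsLocallyNoetherian X]
    [X.Over (Spec (CommRingCat.of A))] {t : A} {𝓘 : X.IdealSheafData}
    (h𝓘 : ∀ V : X.affineOpens, 𝓘.ideal V = Ideal.span {W7Cech.secRing A V.1 t}) {M : X.Modules} (hM : Coh.IsCoh M)
    (h : ∀ n, PicF.IsInvertible ((Scheme.Modules.pullback (FSch.completionToX X 𝓘 n)).obj M))
    (z : (FSch.completionAlong X 𝓘).X 0) : PicBdd.Free1 M ((FSch.completionToX X 𝓘 0).base z) := by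
  generalize hx : (FSch.completionToX X 𝓘 0).base z = x
  have hxs : ∀ n, x ∈ Set.range (FSch.completionToX X 𝓘 n).base := fun n => by
    have h0 : x ∈ Set.range (FSch.completionToX X 𝓘 0).base := ⟨z, hx⟩
    show x ∈ Set.range (𝓘 ^ (n + 1)).subschemeι
    change x ∈ Set.range (𝓘 ^ (0 + 1)).subschemeι at h0
    rw [Scheme.IdealSheafData.range_subschemeι, Scheme.IdealSheafData.support_pow _ _ (Nat.succ_ne_zero _)] at h0 ⊢
    exact h0
  haveI : IsNoetherianRing (X.presheaf.stalk x) := by infer_instance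
  haveI : Module.Finite (X.presheaf.stalk x) (M.presheaf.stalk x) := RegDual.finite_stalk hM x
  obtain ⟨W, hW, hxW⟩ := Groth.Agent.QC.exists_affine_mem x
  let J : Ideal (X.presheaf.stalk x) := (𝓘.ideal ⟨W, hW⟩).map (X.presheaf.germ W x hxW).hom
  have hlev : ∀ n : ℕ, ∃ (S : Type u) (_ : CommRing S) (_ : Algebra (X.presheaf.stalk x) S),
      Function.Surjective (algebraMap (X.presheaf.stalk x) S) ∧
        RingHom.ker (algebraMap (X.presheaf.stalk x) S) = J ^ (n + 1) ∧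
        Nonempty (TensorProduct (X.presheaf.stalk x) S (M.presheaf.stalk x) ≃ₗ[S] S) := fun n => by
    obtain ⟨y, hy⟩ := hxs n
    subst hy
    obtain ⟨e⟩ := PicBdd.free1_of_isInvertible (h n) y
    let i := FSch.completionToX X 𝓘 n
    let e1 := ((KFlat.pullStalkIso i y).app M).toLinearEquiv
    letI : Algebra (X.presheaf.stalk (i.base y)) (((FSch.completionAlong X 𝓘).X n).presheaf.stalk y) :=
      (i.stalkMap y).hom.toAlgebra
    refine ⟨((FSch.completionAlong X 𝓘).X n).presheaf.stalk y, inferInstance, (i.stalkMap y).hom.toAlgebra,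
      i.stalkMap_surjective y, ?_, ⟨e1.symm.trans e⟩⟩
    rw [RingHom.algebraMap_toAlgebra, CMFlat.ker_stalkMap_eq i y ⟨W, hW⟩ hxW, ← Ideal.map_pow]
    refine congrArg (Ideal.map _) ?_
    rw [← Scheme.Hom.ker_apply, ker_completionToX h𝓘 n ⟨W, hW⟩, h𝓘, Ideal.span_singleton_pow]
  refine ThickInv.exists_equiv (N := M.presheaf.stalk x) J ?_ hlev
  obtain ⟨S, hS, alg, hs, hker, ⟨w⟩⟩ := hlev 0
  rw [pow_one] at hker
  rw [← hker]
  refine IsLocalRing.le_maximalIdeal ?_
  intro htop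
  obtain ⟨y, hy⟩ := hxs 0
  subst hy
  have h1 := (Ideal.eq_top_iff_one _).1 (hker.symm.trans htop)
  have h2 : J = RingHom.ker (((FSch.completionToX X 𝓘 0).stalkMap y).hom) := by
    rw [CMFlat.ker_stalkMap_eq _ y ⟨W, hW⟩ hxW, ← Scheme.Hom.ker_apply, ker_completionToX h𝓘 0 ⟨W, hW⟩,
      pow_one, ← h𝓘]
  rw [h2, RingHom.mem_ker, map_one] at h1
  exact one_ne_zero h1

theorem isInvertible_restrict_free1 {X : Scheme.{u}} {F : X.Modules} (hF : Coh.IsCoh F) (V : X.Opens)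
    (hV : ∀ x ∈ V, PicBdd.Free1 F x) : PicF.IsInvertible (F.restrict V.ι) := by
  have hc : Coh.IsCoh (F.restrict V.ι) := DCohShriek.isCoh_restrictFunctor V.ι hF
  refine RefStalk.isInvertible_of_stalk_equiv hc.1 hc.2 fun x => ?_
  obtain ⟨σ, e, he⟩ := RefStalk.exists_stalk_restrict F V x
  obtain ⟨g⟩ := hV x.1 x.2
  exact ⟨{ e.trans (g.toAddEquiv.trans σ.symm.toAddEquiv) with
    map_smul' := fun r m => by
      show σ.symm (g (e (r • m))) = r • σ.symm (g (e m))
      rw [he, map_smul, smul_eq_mul, map_mul, RingEquiv.symm_apply_apply, smul_eq_mul] }⟩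

theorem local_pic_surjective_nhds {A : Type u} [CommRing A] [IsNoetherianRing A] (U : (Spec (CommRingCat.of A)).Opens)
    (𝔞 : Ideal A) (hU : U = EGA4.openCompl A 𝔞) (t : A) (ht : t ∈ nonZeroDivisors A)
    [IsAdicComplete (Ideal.span {t}) A] (h₁ : Module.Finite A (LocCoh.H 𝔞 1 (A ⧸ Ideal.span {t})))
    (h₂ : Module.Finite A (LocCoh.H 𝔞 2 (A ⧸ Ideal.span {t})))
    (h₃ : Subsingleton (LocCoh.H 𝔞 3 (A ⧸ Ideal.span {t})))
    (L₀ : (↑(Formal2.specQuotMap A t ⁻¹ᵁ U) : Scheme.{u}).Modules) (hL₀ : PicF.IsInvertible L₀) :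
    ∃ (U' : (Spec (CommRingCat.of A)).Opens) (_ : U' ≤ U)
      (h : Formal2.specQuotMap A t ⁻¹ᵁ U ≤ Formal2.specQuotMap A t ⁻¹ᵁ U') (L : (↑U' : Scheme.{u}).Modules),
      PicF.IsInvertible L ∧
        Nonempty ((Scheme.Modules.pullback ((Formal2.specQuotMap A t).resLE U' _ h)).obj L ≅ L₀) := by
  let s := Formal2.specQuotMap A t
  haveI : IsClosedImmersion s := IsClosedImmersion.spec_of_surjective _ Ideal.Quotient.mk_surjective
  let g := s ∣_ U
  haveI : IsClosedImmersion g :=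
    MorphismProperty.of_isPullback (P := @IsClosedImmersion) (isPullback_morphismRestrict s U).flip inferInstance
  let j₀ := FSch.completionToX (↑U : Scheme.{u}) (divisorIdeal U t) 0
  haveI : IsClosedImmersion j₀ := inferInstanceAs (IsClosedImmersion ((divisorIdeal U t) ^ (0 + 1)).subschemeι)
  have hker : g.ker = j₀.ker := by
    refine Scheme.IdealSheafData.ext (funext fun V => ?_)
    rw [ker_completionToX (divisorIdeal_ideal U t) 0 V, Scheme.Hom.ker_apply,
      W7Alg.ker_app_baseChange (Ideal.Quotient.mk (Ideal.span {t})) Ideal.Quotient.mk_surjective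
        (isPullback_morphismRestrict s U) V, Ideal.mk_ker, Ideal.map_span, Set.image_singleton, pow_one]
  let θ := IsClosedImmersion.lift j₀ g hker.ge
  let ν := IsClosedImmersion.lift g j₀ hker.le
  have hθ : θ ≫ j₀ = g := IsClosedImmersion.lift_fac _ _ _
  have hν : ν ≫ g = j₀ := IsClosedImmersion.lift_fac _ _ _
  have hθν : θ ≫ ν = 𝟙 _ := by rw [← cancel_mono g, Category.assoc, hν, hθ, Category.id_comp]
  obtain ⟨F, 𝔐, hF, hinv, ⟨e₀⟩, ⟨α⟩⟩ := exists_algebraization_invertible 𝔞 hU ht h₁ h₂ h₃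
    ((Scheme.Modules.pullback ν).obj L₀) (PicLoc.isInvertible_pullback ν hL₀)
  let a : ∀ n, (Scheme.Modules.pullback (FSch.completionToX (↑U : Scheme.{u}) (divisorIdeal U t) n)).obj F ≅ 𝔐.F n :=
    fun n => ⟨α.hom.app n, α.inv.app n, congrArg (fun φ => φ.app n) α.hom_inv_id,
      congrArg (fun φ => φ.app n) α.inv_hom_id⟩
  have hfree : ∀ z, PicBdd.Free1 F (j₀.base z) := fun z =>
    free1_of_levels (divisorIdeal_ideal U t) hF (fun n => ParaFLib.isInvertible_of_iso (a n).symm (hinv n)) z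
  let V : (↑U : Scheme.{u}).Opens := ⟨{x | PicBdd.Free1 F x}, PicBdd.isOpen_free1 hF⟩
  let U' := U.ι ''ᵁ V
  let h : (↑U' : Scheme.{u}) ⟶ ↑U := (U.ι.isoImage V).inv ≫ V.ι
  have hh : h ≫ U.ι = U'.ι := by rw [Category.assoc, Scheme.Hom.isoImage_inv_ι]
  have hle : s ⁻¹ᵁ U ≤ s ⁻¹ᵁ U' := fun w hw => by
    refine ⟨g.base ⟨w, hw⟩, ?_, ?_⟩
    · show PicBdd.Free1 F (g.base ⟨w, hw⟩)
      rw [← hθ, Scheme.Hom.comp_apply]
      exact hfree _
    · exact congrArg (fun q => q.base ⟨w, hw⟩) (morphismRestrict_ι s U)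
  refine ⟨U', U.ι_image_le V, hle, (Scheme.Modules.pullback (U.ι.isoImage V).inv).obj (F.restrict V.ι),
    PicLoc.isInvertible_pullback _ (isInvertible_restrict_free1 hF V fun x hx => hx), ⟨?_⟩⟩
  have hfac : (s.resLE U' _ hle ≫ (U.ι.isoImage V).inv) ≫ V.ι = θ ≫ j₀ := by
    rw [hθ, ← cancel_mono U.ι, Category.assoc, Category.assoc, Scheme.Hom.isoImage_inv_ι, Scheme.Hom.resLE_comp_ι]
    exact (morphismRestrict_ι s U).symm
  exact (Scheme.Modules.pullbackComp (s.resLE U' _ hle) (U.ι.isoImage V).inv).app _ ≪≫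
    (Scheme.Modules.pullback _).mapIso ((Scheme.Modules.restrictFunctorIsoPullback V.ι).app F) ≪≫
    (Scheme.Modules.pullbackComp _ V.ι).app F ≪≫ (Scheme.Modules.pullbackCongr hfac).app F ≪≫
    ((Scheme.Modules.pullbackComp θ j₀).app F).symm ≪≫ (Scheme.Modules.pullback θ).mapIso (a 0 ≪≫ e₀) ≪≫
    (Scheme.Modules.pullbackComp θ ν).app L₀ ≪≫ (Scheme.Modules.pullbackCongr hθν).app L₀ ≪≫
    (Scheme.Modules.pullbackId _).app L₀

end

end Groth.Agent.FormAlg
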