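import Groth.Agent.FormAlg.Colim
import Groth.Agent.FormAlg.HVSeq
import Groth.Agent.LocH.LocalizeMap

/-!
A principal ideal `(f)` with `f`-power torsion local cohomology.
-/

set_option autoImplicit false
set_option maxHeartbeats 1000000
set_option linter.style.haveILetI false
set_option backward.isDefEq.respectTransparency false
set_option backward.isDefEq.respectTransparency.types false
universe u

namespace Groth.Agent.FormAlg

open CategoryTheory CategoryTheory.Limits AlgebraicGeometry TopologicalSpace Opposite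
open Groth.Agent.LocH (Sec secOf secRes)
open Groth.Agent.PunctArt (mapS mapS_secOf)
open Groth.Agent.HTLib (resI resI_comp sesQ sesQ_shortExact)

attribute [local instance] HasDerivedCategory.standard

noncomputable section

variable {A : Type u} [CommRing A] (f : A) (M : Type u) [AddCommGroup M] [Module A M]


theorem mem_pow_smul_top_iff (n : ℕ) (x : M) : x ∈ (Ideal.span {f}) ^ n • (⊤ : Submodule A M) ↔ ∃ m : M, f ^ n • m = x := by
  rw [Ideal.span_singleton_pow, Submodule.ideal_span_singleton_smul, Submodule.mem_smul_pointwise_iff_exists]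
  exact ⟨fun ⟨m, _, h⟩ => ⟨m, h⟩, fun ⟨m, h⟩ => ⟨m, trivial, h⟩⟩

/-- Multiplication by `f^{k-n}`. -/
def mulI {n k : ℕ} (h : n ≤ k) : ↥((Ideal.span {f}) ^ n • (⊤ : Submodule A M)) →ₗ[A] ↥((Ideal.span {f}) ^ k • (⊤ : Submodule A M)) :=
  LinearMap.codRestrict _ (f ^ (k - n) • ((Ideal.span {f}) ^ n • (⊤ : Submodule A M)).subtype) fun x => by
    obtain ⟨m, hm⟩ := (mem_pow_smul_top_iff f M n x.1).1 x.2
    refine (mem_pow_smul_top_iff f M k _).2 ⟨m, ?_⟩
    show f ^ k • m = f ^ (k - n) • (x : M)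
    rw [← hm, smul_smul, ← pow_add, Nat.sub_add_cancel h]

theorem resI_mulI {n k : ℕ} (h : n ≤ k) :
    (resI (Ideal.span {f}) M h).comp (mulI f M h) = f ^ (k - n) • LinearMap.id := LinearMap.ext fun _ => Subtype.ext rfl

/-- `m ↦ f^n m`. -/
def mulTop (n : ℕ) : M →ₗ[A] ↥((Ideal.span {f}) ^ n • (⊤ : Submodule A M)) :=
  LinearMap.codRestrict _ (f ^ n • LinearMap.id) fun m => (mem_pow_smul_top_iff f M n _).2 ⟨m, rfl⟩

theorem mulTop_surjective (n : ℕ) : Function.Surjective (mulTop f M n) := fun x => by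
  obtain ⟨m, hm⟩ := (mem_pow_smul_top_iff f M n x.1).1 x.2
  exact ⟨m, Subtype.ext hm⟩

variable [IsNoetherianRing A] [Module.Finite A M] (𝔞 : Ideal A)

theorem exists_torsion_bound : ∃ c : ℕ, ∀ (m : M) (k : ℕ), f ^ k • m = 0 → f ^ c • m = 0 := by
  haveI : IsNoetherian A M := isNoetherian_of_isNoetherianRing_of_finite A M
  obtain ⟨c, hc⟩ := monotone_stabilizes_iff_noetherian.2 this
    ⟨fun k => LinearMap.ker (f ^ k • (LinearMap.id : M →ₗ[A] M)), fun a b hab m hm => by
      show f ^ b • m = 0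
      rw [← Nat.sub_add_cancel hab, pow_add, mul_smul, show f ^ a • m = 0 from hm, smul_zero]⟩
  refine ⟨c, fun m k hk => ?_⟩
  rcases le_total k c with h | h
  · rw [← Nat.sub_add_cancel h, pow_add, mul_smul, hk, smul_zero]
  · have h1 : m ∈ LinearMap.ker (f ^ k • (LinearMap.id : M →ₗ[A] M)) := hk
    have h2 := hc k h
    simp only [OrderHom.coe_mk] at h2
    rw [← h2] at h1
    exact h1

theorem exists_pow_smul_H_quot {j e n : ℕ}
    (he : ∀ x : LocCoh.H 𝔞 j M, f ^ e • x = 0) :
    ∀ y : ↑((localCohomology 𝔞 j).obj (ModuleCat.of A ↥((Ideal.span {f}) ^ n • (⊤ : Submodule A M)))), f ^ (n + e) • y = 0 := by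
  intro y
  let S : ShortComplex (ModuleCat.{u} A) := ShortComplex.mk (ModuleCat.ofHom (LinearMap.ker (mulTop f M n)).subtype)
    (ModuleCat.ofHom (mulTop f M n)) (ModuleCat.hom_ext (LinearMap.ext fun x => x.2))
  have hS : S.ShortExact :=
    { exact := by
        rw [ShortComplex.moduleCat_exact_iff]
        exact fun x hx => ⟨⟨x, hx⟩, rfl⟩
      mono_f := (ModuleCat.mono_iff_injective _).2 (Submodule.injective_subtype _)
      epi_g := (ModuleCat.epi_iff_surjective _).2 (mulTop_surjective f M n) }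
  have h0 : f ^ n • 𝟙 S.X₁ = 0 := ModuleCat.hom_ext (LinearMap.ext fun x => Subtype.ext (by
    show f ^ n • (x : M) = 0
    exact congrArg Subtype.val (show mulTop f M n (x : M) = 0 from x.2)))
  have h1 : LocH.delta hS j (f ^ n • y) = 0 := by
    rw [map_smul, ← LocH.map_smul_id, h0, Functor.map_zero]
    rfl
  obtain ⟨x, hx⟩ := LocH.exact₃ hS j h1
  rw [add_comm, pow_add, mul_smul, ← hx, ← map_smul, he x, map_zero]

theorem exists_K {j e : ℕ} (he : ∀ x : LocCoh.H 𝔞 j M, f ^ e • x = 0) (n : ℕ) :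
    ∃ K : ℕ, n ≤ K ∧ ∀ (k : ℕ) (hk : n ≤ k), K ≤ k →
      (localCohomology 𝔞 j).map (ModuleCat.ofHom (resI (Ideal.span {f}) M hk)) = 0 := by
  obtain ⟨c, hc⟩ := exists_torsion_bound f M
  let n' := max n c
  refine ⟨n' + (n' + e), (le_max_left n c).trans (Nat.le_add_right _ _), fun k hk hK => ?_⟩
  have hk' : n' ≤ k := (Nat.le_add_right _ _).trans hK
  suffices h : (localCohomology 𝔞 j).map (ModuleCat.ofHom (resI (Ideal.span {f}) M hk')) = 0 by
    rw [show ModuleCat.ofHom (resI (Ideal.span {f}) M hk) =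
      ModuleCat.ofHom (resI (Ideal.span {f}) M hk') ≫ ModuleCat.ofHom (resI (Ideal.span {f}) M (le_max_left n c)) from rfl, Functor.map_comp, h,
      zero_comp]
  have hbij : Function.Bijective (mulI f M hk') := by
    refine ⟨(injective_iff_map_eq_zero _).2 fun x hx => Subtype.ext ?_, fun x => ?_⟩
    · obtain ⟨m, hm⟩ := (mem_pow_smul_top_iff f M n' x.1).1 x.2
      have h1 : f ^ (k - n') • (x : M) = 0 := congrArg Subtype.val hx
      rw [← hm, smul_smul, ← pow_add] at h1
      show (x : M) = 0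
      rw [← hm, show n' = (n' - c) + c from (Nat.sub_add_cancel (le_max_right n c)).symm, pow_add, mul_smul, hc m _ h1, smul_zero]
    · obtain ⟨m, hm⟩ := (mem_pow_smul_top_iff f M k x.1).1 x.2
      refine ⟨⟨f ^ n' • m, (mem_pow_smul_top_iff f M n' _).2 ⟨m, rfl⟩⟩, Subtype.ext ?_⟩
      show f ^ (k - n') • f ^ n' • m = (x : M)
      rw [smul_smul, ← pow_add, Nat.sub_add_cancel hk', hm]
  haveI : IsIso (ModuleCat.ofHom (mulI f M hk')) :=
    ⟨(LinearEquiv.ofBijective _ hbij).toModuleIso.inv, (LinearEquiv.ofBijective _ hbij).toModuleIso.hom_inv_id,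
      (LinearEquiv.ofBijective _ hbij).toModuleIso.inv_hom_id⟩
  rw [← cancel_epi ((localCohomology 𝔞 j).map (ModuleCat.ofHom (mulI f M hk'))), comp_zero, ← Functor.map_comp]
  refine ModuleCat.hom_ext (LinearMap.ext fun y => ?_)
  rw [show ModuleCat.ofHom (mulI f M hk') ≫ ModuleCat.ofHom (resI (Ideal.span {f}) M hk') = f ^ (k - n') • 𝟙 _ from
    ModuleCat.hom_ext (resI_mulI f M hk')]
  refine (LocH.map_smul_id 𝔞 j _ _ y).trans ?_
  rw [← Nat.sub_add_cancel (show n' + e ≤ k - n' by omega), pow_add, mul_smul, exists_pow_smul_H_quot f M 𝔞 he y,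
    smul_zero]
  rfl

end

end Groth.Agent.FormAlg
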