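import Groth.Agent.FormAlg.Principal

/-!
`H^i(U, M~) = lim H^i(U, M/f^{n+1}M)` when local cohomology is `f`-power torsion.
-/

set_option autoImplicit false
set_option maxHeartbeats 1000000
set_option linter.style.haveILetI false
set_option backward.isDefEq.respectTransparency false
set_option backward.isDefEq.respectTransparency.types false
universe u

namespace Groth.Agent.FormAlg

open CategoryTheory CategoryTheory.Limits AlgebraicGeometry TopologicalSpace Opposite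
open Groth.Agent.LocH (Sec secOf secRes)
open Groth.Agent.PunctArt (mapS mapS_secOf)
open Groth.Agent.HTLib (resI sesQ sesQ_shortExact)

attribute [local instance] HasDerivedCategory.standard

noncomputable section

variable {A : Type u} [CommRing A] [IsNoetherianRing A] (I 𝔞 : Ideal A) (M : Type u) [AddCommGroup M] [Module A M]
  [Module.Finite A M]

local notation "U𝔞" => EGA4.openCompl A 𝔞

variable {M} in
theorem exists_pow_smul_H_zero {f : A} (hf : f ∈ 𝔞) : ∃ e : ℕ, ∀ x : LocCoh.H 𝔞 0 M, f ^ e • x = 0 := by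
  obtain ⟨c, hc⟩ := exists_torsion_bound f M
  refine ⟨c, fun x => ((LocH.zeroIso 𝔞).app (ModuleCat.of A M)).toLinearEquiv.injective ?_⟩
  rw [map_smul, map_zero]
  let t : DRing.torsionSub 𝔞 M := ((LocH.zeroIso 𝔞).app (ModuleCat.of A M)).toLinearEquiv x
  obtain ⟨k, hk⟩ := (LocH.mem_torsionSub_iff_forall_pow 𝔞 (t : M)).1 t.2 f hf
  exact Subtype.ext (hc _ k hk)

/-- Degree zero. -/
theorem bijective_zero_of_res_kill [IsAdicComplete I A]
    (h : ∀ n : ℕ, ∃ K : ℕ, n ≤ K ∧ ∀ i ≤ 2, ∀ (k : ℕ) (hk : n ≤ k), K ≤ k →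
      (localCohomology 𝔞 i).map (ModuleCat.ofHom (resI I M hk)) = 0) :
    Formal2.FormalCohBijective A I M 0 U𝔞 := by
  refine ⟨fun x x' hx => (h0 M U𝔞).injective (sub_eq_zero.1 ?_), fun y hy => ?_⟩
  · let s := h0 M U𝔞 x - h0 M U𝔞 x'
    have hs : ∀ k, mapS (qπ I M k) U𝔞 s = 0 := fun k => by
      rw [map_sub, ← h0_map, ← h0_map, hx k, sub_self]
    have hp : ∀ n, ∃ p ∈ I ^ n • (⊤ : Submodule A M), secOf A M U𝔞 p = s := fun n => by
      obtain ⟨K, hnK, hK⟩ := h n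
      obtain ⟨t, ht⟩ := exists_of_mapS_g (sesQ_shortExact I M (K + 1)) U𝔞 (s := s) (hs K)
      obtain ⟨p, hp⟩ := mem_range_of_map_one (ModuleCat.ofHom (resI I M (hnK.trans (Nat.le_succ K))))
        (hK 1 one_le_two (K + 1) (hnK.trans (Nat.le_succ K)) (Nat.le_succ K)) t
      refine ⟨(p : M), p.2, (mapS_secOf (ModuleCat.ofHom (I ^ n • (⊤ : Submodule A M)).subtype) U𝔞 p).symm.trans ?_⟩
      refine (congrArg _ hp).trans ?_
      rw [mapS_lin, ← ht]
      rfl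
    choose p hp hps using hp
    let T : Submodule A M := LinearMap.ker (secOf A M U𝔞)
    haveI := FinAdic.isAdicComplete_of_finite I (M ⧸ T)
    have h1 : Submodule.mkQ T (p 0) = 0 := IsHausdorff.haus' (I := I) _ fun n => by
      rw [SModEq.zero, show Submodule.mkQ T (p 0) = Submodule.mkQ T (p n) from
        (Submodule.Quotient.eq T).2 (by rw [LinearMap.mem_ker, map_sub, hps, hps, sub_self])]
      exact Submodule.smul_top_le_comap_smul_top _ T.mkQ (hp n)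
    exact (hps 0).symm.trans (LinearMap.mem_ker.1 ((Submodule.Quotient.mk_eq_zero T).1 h1))
  · obtain ⟨z, hz⟩ := exists_mul_lift I 𝔞 M 1 (fun n => by
      obtain ⟨K, hnK, hK⟩ := h n
      exact ⟨K, hnK, fun i hi k hk hKk => by rw [one_smul]; exact hK i hi k hk hKk⟩)
      (fun n => h0 _ U𝔞 (y n)) fun n => by rw [← h0_map, hy n]
    refine ⟨(h0 M U𝔞).symm z, fun n => (h0 _ U𝔞).injective ?_⟩
    rw [h0_map, AddEquiv.apply_symm_apply, hz n, mul_one, one_smul]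

/-- The transition between the sequences. -/
def sesRes {n k : ℕ} (h : n ≤ k) : sesQ I M (k + 1) ⟶ sesQ I M (n + 1) where
  τ₁ := ModuleCat.ofHom (resI I M (Nat.succ_le_succ h))
  τ₂ := ModuleCat.ofHom LinearMap.id
  τ₃ := ModuleCat.ofHom (qt I h)
  comm₁₂ := rfl
  comm₂₃ := ModuleCat.hom_ext (LinearMap.ext fun _ => rfl)

theorem hvmap_subtype_res {n k : ℕ} (h : n ≤ k) (i : ℕ)
    (t : Formal2.HV A ↥(I ^ k • (⊤ : Submodule A M)) i U𝔞) :
    Formal2.HVmap A (I ^ k • (⊤ : Submodule A M)).subtype i U𝔞 t =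
      Formal2.HVmap A (I ^ n • (⊤ : Submodule A M)).subtype i U𝔞 (Formal2.HVmap A (resI I M h) i U𝔞 t) :=
  (hvmap_comp U𝔞 (resI I M h) (I ^ n • (⊤ : Submodule A M)).subtype i t).symm

theorem eq_zero_of_hvmap_quot {i N : ℕ}
    (hN : ∀ (k : ℕ) (hk : 0 ≤ k), N ≤ k → (localCohomology 𝔞 (i + 2)).map (ModuleCat.ofHom (resI I M hk)) = 0)
    (x : Formal2.HV A M (i + 1) U𝔞) (hx : Formal2.HVmap A (Formal2.quotPowπ A I M N) (i + 1) U𝔞 x = 0) : x = 0 := by
  have hS := sesQ_shortExact I M (N + 1)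
  obtain ⟨t, ht⟩ := hv_exact₂ hS (x := x) hx
  have h1 := hvmap_eq_zero_of_lc 𝔞 i _ (hN (N + 1) (Nat.zero_le _) (Nat.le_succ N)) t
  refine ht.symm.trans ((hvmap_subtype_res I 𝔞 M (Nat.zero_le (N + 1)) (i + 1) t).trans ?_)
  exact (congrArg _ h1).trans (map_zero _)

theorem exists_hvmap_quot_lift {i n K : ℕ} (hle : n ≤ K)
    (hK : (localCohomology 𝔞 (i + 3)).map (ModuleCat.ofHom (resI I M (Nat.succ_le_succ hle))) = 0)
    (y : Formal2.HV A (Formal2.quotPow A I M K) (i + 1) U𝔞) :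
    ∃ x, Formal2.HVmap A (Formal2.quotPowπ A I M n) (i + 1) U𝔞 x =
      Formal2.HVmap A (qt I hle) (i + 1) U𝔞 y := by
  have h1 := sesQ_shortExact I M (K + 1)
  have h2 := sesQ_shortExact I M (n + 1)
  exact hv_exact₃ h2 (x := Formal2.HVmap A (qt I hle) (i + 1) U𝔞 y)
    ((hvδ_natural h1 h2 (sesRes I M hle) (i + 1) y).symm.trans
      (hvmap_eq_zero_of_lc 𝔞 (i + 1) _ hK _))

/-- Positive degrees. -/
theorem bijective_succ_of_res_kill (i : ℕ)
    (h₂ : ∀ n : ℕ, ∃ K : ℕ, n ≤ K ∧ ∀ (k : ℕ) (hk : n ≤ k), K ≤ k →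
      (localCohomology 𝔞 (i + 2)).map (ModuleCat.ofHom (resI I M hk)) = 0)
    (h₃ : ∀ n : ℕ, ∃ K : ℕ, n ≤ K ∧ ∀ (k : ℕ) (hk : n ≤ k), K ≤ k →
      (localCohomology 𝔞 (i + 3)).map (ModuleCat.ofHom (resI I M hk)) = 0) :
    Formal2.FormalCohBijective A I M (i + 1) U𝔞 := by
  obtain ⟨N, -, hN⟩ := h₂ 0
  refine ⟨fun x x' hx => sub_eq_zero.1 (eq_zero_of_hvmap_quot I 𝔞 M hN _ (by rw [map_sub, hx N, sub_self])),
    fun y hy => ?_⟩
  have hyc : ∀ {n k : ℕ} (hnk : n ≤ k), Formal2.HVmap A (qt I hnk) (i + 1) U𝔞 (y k) = y n := fun {n k} hnk => by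
    induction k, hnk using Nat.le_induction with
    | base => rw [qt_self, hvmap_id]
    | succ k hk ih => rw [← qt_comp I hk (Nat.le_succ k), ← hvmap_comp, qt_succ, hy k, ih]
  have hlift : ∀ n, ∃ x, Formal2.HVmap A (Formal2.quotPowπ A I M n) (i + 1) U𝔞 x = y n := fun n => by
    obtain ⟨K, hnK, hK⟩ := h₃ (n + 1)
    have hle : n ≤ K := (Nat.le_succ n).trans hnK
    obtain ⟨x, hx⟩ := exists_hvmap_quot_lift I 𝔞 M hle (hK (K + 1) (Nat.succ_le_succ hle) (Nat.le_succ K)) (y K)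
    exact ⟨x, hx.trans (hyc hle)⟩
  choose x hx using hlift
  have hπ : ∀ {n k : ℕ} (hnk : n ≤ k), Formal2.HVmap A (Formal2.quotPowπ A I M n) (i + 1) U𝔞 (x k) = y n :=
    fun {n k} hnk => by rw [← qt_π I hnk, ← hvmap_comp, hx k, hyc hnk]
  refine ⟨x N, fun n => ?_⟩
  have heq : x N = x (max n N) := sub_eq_zero.1 (eq_zero_of_hvmap_quot I 𝔞 M hN _
    (by rw [map_sub, hπ le_rfl, hπ (le_max_right n N), sub_self]))
  rw [heq]
  exact hπ (le_max_left n N)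

theorem bijective_of_torsion {f : A} (hf : f ∈ 𝔞) [IsAdicComplete (Ideal.span {f}) A] (i : ℕ)
    (h : ∀ j : ℕ, i + 1 ≤ j → j ≤ i + 2 → ∃ e : ℕ, ∀ x : LocCoh.H 𝔞 j M, f ^ e • x = 0) :
    Formal2.FormalCohBijective A (Ideal.span {f}) M i U𝔞 := by
  cases i with
  | zero =>
    obtain ⟨e₀, he₀⟩ := exists_pow_smul_H_zero (M := M) 𝔞 hf
    obtain ⟨e₁, he₁⟩ := h 1 le_rfl (Nat.le_succ 1)
    obtain ⟨e₂, he₂⟩ := h 2 one_le_two le_rfl
    refine bijective_zero_of_res_kill (Ideal.span {f}) 𝔞 M fun n => ?_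
    obtain ⟨K₀, hn₀, hK₀⟩ := exists_K f M 𝔞 he₀ n
    obtain ⟨K₁, hn₁, hK₁⟩ := exists_K f M 𝔞 he₁ n
    obtain ⟨K₂, hn₂, hK₂⟩ := exists_K f M 𝔞 he₂ n
    refine ⟨K₀ + K₁ + K₂, by omega, fun j hj k hk hKk => ?_⟩
    obtain rfl | rfl | rfl : j = 0 ∨ j = 1 ∨ j = 2 := by omega
    · exact hK₀ k hk (by omega)
    · exact hK₁ k hk (by omega)
    · exact hK₂ k hk (by omega)
  | succ i =>
    obtain ⟨e₁, he₁⟩ := h (i + 2) (by omega) (by omega)
    obtain ⟨e₂, he₂⟩ := h (i + 3) (by omega) (by omega)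
    exact bijective_succ_of_res_kill (Ideal.span {f}) 𝔞 M i (exists_K f M 𝔞 he₁) (exists_K f M 𝔞 he₂)

end

end Groth.Agent.FormAlg
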