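import Groth.Agent.SupportLib.Unit
import Groth.Agent.GrothSS.ChangeRings
import Groth.Agent.W7Rees.Push
import Groth.Agent.W7Exist.Completion
import Groth.Agent.KFlat.ClosedImm
import Groth.Agent.QC.Localisation
import Groth.Prelude.Def_FSch2

/-!
Closed subschemes cut out by a power of a global function, and the direct image of a module on them.
-/

set_option autoImplicit false
set_option maxHeartbeats 1000000
set_option linter.style.haveILetI false
set_option backward.isDefEq.respectTransparency false
set_option backward.isDefEq.respectTransparency.types false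
universe u

namespace Groth.Agent.FormAlg

open CategoryTheory CategoryTheory.Limits AlgebraicGeometry TopologicalSpace Opposite

noncomputable section

variable {A : Type u} [CommRing A] {X : Scheme.{u}} [X.Over (Spec (CommRingCat.of A))] {t : A} {m : ℕ}
  {Z : Scheme.{u}} (j : Z ⟶ X) [IsClosedImmersion j]
  (hj : ∀ V : X.affineOpens, j.ker.ideal V = Ideal.span {W7Cech.secRing A V.1 t ^ m})

theorem smulMod_app (G : X.Modules) (a : A) (W : X.Opens) (s : Γ(G, W)) :
    (Formal.smulMod A G a).app W s = W7Cech.secRing A W a • s := rfl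

include hj in
theorem isIso_unit_of_killed (G : X.Modules) (hG : Formal.smulMod A G (t ^ m) = 0) :
    IsIso ((Scheme.Modules.pullbackPushforwardAdjunction j).unit.app G) := by
  refine (SupportLib.isIso_unit_iff j G).2 fun V a ha s => ?_
  rw [hj V, Ideal.mem_span_singleton] at ha
  obtain ⟨c, rfl⟩ := ha
  rw [mul_comm, mul_smul]
  refine (congrArg (c • ·) ?_).trans (smul_zero c)
  rw [← map_pow]
  exact congrArg (fun φ => φ.app V.1 s) hG

theorem isIso_unit_push' (Y : Z.Modules) :
    IsIso ((Scheme.Modules.pullbackPushforwardAdjunction j).unit.app ((Scheme.Modules.pushforward j).obj Y)) := by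
  haveI := GrothSS.isIso_counit_push j
  exact IsIso.of_isIso_fac_right ((Scheme.Modules.pullbackPushforwardAdjunction j).right_triangle_components Y)

include hj in
theorem smulMod_push_eq_zero (Y : Z.Modules) :
    Formal.smulMod A ((Scheme.Modules.pushforward j).obj Y) (t ^ m) = 0 := by
  refine Scheme.Modules.hom_ext _ _ fun W => ?_
  ext s
  refine QC.section_eq_of_locally fun x hx => ?_
  obtain ⟨D, hD, hxD, hDle⟩ := exists_isAffineOpen_mem_and_subset (U := W) (x := x) hx
  refine ⟨D, hDle, hxD, ?_⟩
  change QC.res _ _ ((Formal.smulMod A ((Scheme.Modules.pushforward j).obj Y) (t ^ m)).app W s) =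
    QC.res _ _ ((0 : (Scheme.Modules.pushforward j).obj Y ⟶ _).app W s)
  rw [QC.app_res, QC.app_res, smulMod_app, map_pow]
  refine ((SupportLib.isIso_unit_iff j _).1 (isIso_unit_push' j Y) ⟨D, hD⟩ _ ?_ _).trans rfl
  rw [hj ⟨D, hD⟩]
  exact Ideal.mem_span_singleton_self _

include hj in
theorem smulMod_push_of_mem (Y : Z.Modules) {a : A} (ha : a ∈ Ideal.span {t} ^ m) :
    Formal.smulMod A ((Scheme.Modules.pushforward j).obj Y) a = 0 := by
  rw [Ideal.span_singleton_pow, Ideal.mem_span_singleton] at ha
  obtain ⟨c, rfl⟩ := ha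
  rw [← W7Exist.smulMod_comp, smulMod_push_eq_zero j hj, comp_zero]

/-- The direct image is fully faithful. -/
def pushFF : (Scheme.Modules.pushforward j).FullyFaithful :=
  haveI := GrothSS.isIso_counit_push j
  (Scheme.Modules.pullbackPushforwardAdjunction j).fullyFaithfulROfIsIsoCounit

include hj in
/-- `G → j_*j^*G` is the quotient by `t^m`. -/
theorem exists_iso_modPow (G : X.Modules) :
    ∃ α : Formal.modPow (Ideal.span {t}) m G ≅
        (Scheme.Modules.pushforward j).obj ((Scheme.Modules.pullback j).obj G),
      Formal.modPowπ (Ideal.span {t}) m G ≫ α.hom = (Scheme.Modules.pullbackPushforwardAdjunction j).unit.app G := by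
  let adj := Scheme.Modules.pullbackPushforwardAdjunction j
  obtain ⟨α, hα⟩ := W7Exist.exists_desc_modPow (Ideal.span {t}) m (adj.unit.app G) fun a ha => by
    rw [W7Cech.smulMod_natural]
    exact (congrArg (adj.unit.app G ≫ ·) (smulMod_push_of_mem j hj _ ha)).trans comp_zero
  let H := Formal.modPow (Ideal.span {t}) m G
  have hH : Formal.smulMod A H (t ^ m) = 0 := by
    rw [← cancel_epi (Formal.modPowπ (Ideal.span {t}) m G), ← W7Cech.smulMod_natural, comp_zero]
    exact W7Exist.smulMod_π _ m G _ (Ideal.pow_mem_pow (Ideal.mem_span_singleton_self t) m)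
  haveI := isIso_unit_of_killed j hj H hH
  let β := (Scheme.Modules.pushforward j).map ((Scheme.Modules.pullback j).map (Formal.modPowπ (Ideal.span {t}) m G)) ≫
    inv (adj.unit.app H)
  have hβ : adj.unit.app G ≫ β = Formal.modPowπ (Ideal.span {t}) m G := by
    have h := adj.unit.naturality (Formal.modPowπ (Ideal.span {t}) m G)
    show adj.unit.app G ≫ _ ≫ inv (adj.unit.app H) = _
    rw [← Category.assoc, IsIso.comp_inv_eq]
    exact h.symm
  have h1 : α ≫ β = 𝟙 H := by
    rw [← cancel_epi (Formal.modPowπ (Ideal.span {t}) m G)]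
    exact ((Category.assoc _ _ _).symm.trans ((congrArg (· ≫ β) hα).trans hβ)).trans (Category.comp_id _).symm
  have h2 : β ≫ α = 𝟙 _ := by
    obtain ⟨g, hg⟩ := (pushFF j).map_surjective (β ≫ α)
    have e : g = 𝟙 _ := by
      apply (adj.homEquiv _ _).injective
      rw [Adjunction.homEquiv_unit, Adjunction.homEquiv_unit, hg, CategoryTheory.Functor.map_id]
      exact ((Category.assoc _ _ _).symm.trans ((congrArg (· ≫ α) hβ).trans hα)).trans (Category.comp_id _).symm
    rw [← hg, e, CategoryTheory.Functor.map_id]
  exact ⟨⟨α, β, h1, h2⟩, hα⟩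

end

end Groth.Agent.FormAlg
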